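import Groth.Agent.AbVar.K506.HilbIdx
import Groth.Agent.AbVar.K518.Phi
import Groth.Agent.AbVar.K512.PhiSurj
import Groth.Agent.S1841
import Groth.Agent.IntTh.K711.KunChi
import Groth.Agent.AbSch.K450.EulerTors
import Groth.Agent.S7859
import Groth.Agent.Grpsch.MulFlat
import Groth.Agent.AbVar.K520.Prod

/-!
# Euler characteristics of classes on abelian varieties: products and isogenies

* `chi_box` : `χ(a ⊠ b) = χ(a) χ(b)`;
* `exists_deg` : `χ(f^*c) = D χ(c)` for an isogeny `f`, with `D ≥ 1`;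
* `chi_mul_inv` : `χ(c p) = χ(c)` for `p` translation invariant;
* `chi_ne_zero_of_nd`, `nd_of_isAmple`;
* `exists_poly4` : `χ(c₁^a c₂^b c₃^c c₄^d)` is a polynomial.
-/

set_option autoImplicit false
set_option linter.unusedSectionVars false
universe u

open CategoryTheory CategoryTheory.Limits MonoidalCategory CartesianMonoidalCategory AlgebraicGeometry TopologicalSpace
open scoped MonObj
open Groth.Agent Groth.Agent.Grpsch.PicGrp Groth.Agent.Grpsch.Cube Groth.Agent.Fdesc.LocGen K524.Kun K524.Index K524.Chi K524.Bc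

namespace K506.ChiBox

variable {k : Type u} [Field k]

theorem chi_box {X Y : Over (Spec (CommRingCat.of k))} [IsProper X.hom] [IsProper Y.hom] {dX dY : ℕ}
    (hX : topologicalKrullDim X.left = dX) (hY : topologicalKrullDim Y.left = dY)
    (hXY : topologicalKrullDim (X ⊗ Y).left = (dX + dY : ℕ)) (a : Pic X.left) (b : Pic Y.left) :
    chi (X := X ⊗ Y) (pl (fst X Y) a * pl (snd X Y) b) = chi (X := X) a * chi (X := Y) b := by
  obtain ⟨L, hL, rfl⟩ := exists_mk a
  obtain ⟨M, hM, rfl⟩ := exists_mk b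
  have hp : IsProper (X ⊗ Y).hom := K520.Prod.isProper_tensor X Y
  rw [pl, pl, pull_mk, pull_mk, mk_mul_mk, chi_mk, chi_mk, chi_mk]
  let iX : X.left.Over (Spec (CommRingCat.of k)) := ⟨X.hom⟩
  let iY : Y.left.Over (Spec (CommRingCat.of k)) := ⟨Y.hom⟩
  have pX : IsProper (X.left ↘ Spec (CommRingCat.of k)) := inferInstanceAs (IsProper X.hom)
  have pY : IsProper (Y.left ↘ Spec (CommRingCat.of k)) := inferInstanceAs (IsProper Y.hom)
  have h := K711.KunChi.chi_kunneth (k := k) (X := X.left) (Y := Y.left) dX dY hX.le hY.le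
    (Groth.Agent.S2329.isCoh_of_isInvertible hL) (Groth.Agent.S2329.isCoh_of_isInvertible hM)
  let iXY : (X ⊗ Y).left.Over (Spec (CommRingCat.of k)) := ⟨(X ⊗ Y).hom⟩
  have pXY : IsProper ((X ⊗ Y).left ↘ Spec (CommRingCat.of k)) := inferInstanceAs (IsProper (X ⊗ Y).hom)
  rw [Fga.IntAdd.eulerCharLE_eq k X.left dX hX.le, Fga.IntAdd.eulerCharLE_eq k Y.left dY hY.le] at h
  rw [← h]
  exact (Fga.IntAdd.eulerCharLE_eq k (X ⊗ Y).left (dX + dY) hXY.le _).symm

section poly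

variable {X : Over (Spec (CommRingCat.of k))} [GrpObj X] [IsProper X.hom] [GeometricallyIntegral X.hom]

theorem exists_poly4 {g : ℕ} (hg : topologicalKrullDim X.left = g) (c₁ c₂ c₃ c₄ : Pic X.left) :
    ∃ P : MvPolynomial (Fin 4) ℚ, ∀ a b c d : ℕ, (chi (X := X) (c₁ ^ a * c₂ ^ b * c₃ ^ c * c₄ ^ d) : ℚ) =
      MvPolynomial.eval ![(a : ℚ), (b : ℚ), (c : ℚ), (d : ℚ)] P := by
  obtain ⟨L₁, h₁, rfl⟩ := exists_mk c₁
  obtain ⟨L₂, h₂, rfl⟩ := exists_mk c₂
  obtain ⟨L₃, h₃, rfl⟩ := exists_mk c₃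
  obtain ⟨L₄, h₄, rfl⟩ := exists_mk c₄
  let _ : X.left.Over (Spec (CommRingCat.of k)) := ⟨X.hom⟩
  have hp : IsProper (X.left ↘ (Spec (CommRingCat.of k))) := inferInstanceAs (IsProper X.hom)
  have hF : Coh.IsCoh (Coh.structureModule X.left) := CurvesC.UnitCoh.isCoh_unit _
  have hsupp : topologicalKrullDim (CohB1.support (Coh.structureModule X.left)) ≤ g :=
    (Topology.IsInducing.subtypeVal.topologicalKrullDim_le).trans hg.le
  obtain ⟨P, -, hP'⟩ := S3230.result k X.left g hg.le ![L₁, L₂, L₃, L₄] (by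
    intro i
    fin_cases i
    · exact h₁
    · exact h₂
    · exact h₃
    · exact h₄) (Coh.structureModule X.left) hF g hsupp
  refine ⟨P, fun a b c d => ?_⟩
  have h1 := hP' ![a, b, c, d]
  rw [← Fga.PicMon.chiCl_mc, Fga.PicMon.mc_multiTwist] at h1
  simp only [Fin.prod_univ_four, Matrix.cons_val_zero, Matrix.cons_val_one, Matrix.cons_val] at h1
  rw [← mk_tensorPow h₁, ← mk_tensorPow h₂, ← mk_tensorPow h₃, ← mk_tensorPow h₄, mk_mul_mk, mk_mul_mk, mk_mul_mk,
    K506.HilbIdx.chi_eq_chi hg, Fga.PicMon.mc_tensor, Fga.PicMon.mc_tensor, Fga.PicMon.mc_tensor,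
    Fga.PicMon.mc_tensorPow, Fga.PicMon.mc_tensorPow, Fga.PicMon.mc_tensorPow, Fga.PicMon.mc_tensorPow, h1]
  congr 1
  congr 1
  funext i
  fin_cases i <;> rfl

/-- The value at `(1, 1, v², v)`, `v = 1 / s`. -/
theorem eval_scale {g : ℕ} (hg : topologicalKrullDim X.left = g) {c₁ c₂ c₃ c₄ : Pic X.left}
    {P : MvPolynomial (Fin 4) ℚ} (hP : ∀ a b c d : ℕ, (chi (X := X) (c₁ ^ a * c₂ ^ b * c₃ ^ c * c₄ ^ d) : ℚ) =
      MvPolynomial.eval ![(a : ℚ), (b : ℚ), (c : ℚ), (d : ℚ)] P) {N : ℕ} (hN : 1 ≤ N) (a b c d : ℕ) :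
    (N : ℚ) ^ g * MvPolynomial.eval ![(a : ℚ) / N, (b : ℚ) / N, (c : ℚ) / N, (d : ℚ) / N] P =
      (chi (X := X) (c₁ ^ a * c₂ ^ b * c₃ ^ c * c₄ ^ d) : ℚ) := by
  have hN' : (N : ℚ) ≠ 0 := by exact_mod_cast (by omega : N ≠ 0)
  let Q : Polynomial ℚ := MvPolynomial.aeval ![Polynomial.C (a : ℚ) * Polynomial.X, Polynomial.C (b : ℚ) * Polynomial.X,
    Polynomial.C (c : ℚ) * Polynomial.X, Polynomial.C (d : ℚ) * Polynomial.X] P
  have hQ : ∀ t : ℚ, Q.eval t = MvPolynomial.eval ![(a : ℚ) * t, (b : ℚ) * t, (c : ℚ) * t, (d : ℚ) * t] P := by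
    intro t
    rw [← Polynomial.coe_aeval_eq_eval, MvPolynomial.comp_aeval_apply, MvPolynomial.aeval_eq_eval]
    congr 2
    funext i
    fin_cases i <;> simp
  have key : Q = Polynomial.C (chi (X := X) (c₁ ^ a * c₂ ^ b * c₃ ^ c * c₄ ^ d) : ℚ) * Polynomial.X ^ g := by
    refine Polynomial.eq_of_infinite_eval_eq _ _ ?_
    refine (Set.infinite_range_of_injective (f := fun m : ℕ => (m : ℚ)) Nat.cast_injective).mono ?_
    rintro _ ⟨m, rfl⟩
    change Polynomial.eval _ _ = Polynomial.eval _ _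
    rw [Polynomial.eval_mul, Polynomial.eval_C, Polynomial.eval_pow, Polynomial.eval_X, hQ]
    have h1 := hP (a * m) (b * m) (c * m) (d * m)
    rw [show c₁ ^ (a * m) * c₂ ^ (b * m) * c₃ ^ (c * m) * c₄ ^ (d * m) =
      (c₁ ^ a * c₂ ^ b * c₃ ^ c * c₄ ^ d) ^ m by simp only [mul_pow, ← pow_mul], K506.HilbIdx.chi_pow hg] at h1
    push_cast at h1
    rw [← h1, mul_comm]
  have h2 := congrArg (Polynomial.eval ((N : ℚ)⁻¹)) key
  rw [hQ, Polynomial.eval_mul, Polynomial.eval_C, Polynomial.eval_pow, Polynomial.eval_X] at h2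
  simp only [← div_eq_mul_inv] at h2
  rw [h2, inv_pow]
  field_simp

end poly

section isog

variable {A B : Over (Spec (CommRingCat.of k))} [GrpObj A] [GrpObj B]
  [IsProper A.hom] [GeometricallyIntegral A.hom] [IsProper B.hom] [GeometricallyIntegral B.hom] [IsAlgClosed k]

/-- The degree of an isogeny. -/
theorem exists_deg (f : A ⟶ B) [IsMonHom f] [IsFinite f.left] [Surjective f.left] :
    ∃ D : ℕ, 1 ≤ D ∧ ∀ c : Pic B.left, chi (X := A) (pl f c) = D * chi (X := B) c := by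
  have iA : IsIntegral A.left := GeometricallyIntegral.isIntegral_of_subsingleton A.hom
  have iB : IsIntegral B.left := GeometricallyIntegral.isIntegral_of_subsingleton B.hom
  have hf : Flat f.left := Groth.Agent.Grpsch.MulFlat.flat_of_isAlgClosed f
  have hN : IsLocallyNoetherian B.left := LocallyOfFiniteType.isLocallyNoetherian (Y := Spec (CommRingCat.of k)) B.hom
  obtain ⟨x⟩ : Nonempty A.left := inferInstance
  refine ⟨Scheme.Hom.finrank f.left (f.left x), f.left.one_le_finrank_map x, fun c => ?_⟩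
  obtain ⟨L, hL, rfl⟩ := exists_mk c
  rw [pl, pull_mk, chi_mk, chi_mk]
  exact S7859.result k A B f _ (fun y => (Scheme.Hom.isLocallyConstant_finrank f.left).apply_eq_of_preconnectedSpace _ _)
    L (Groth.Agent.S2329.isCoh_of_isInvertible hL)

/-- Twisting by a translation invariant class does not change `χ`. -/
theorem chi_mul_inv (c : Pic A.left) {p : Pic A.left} (hp : K506.Transl.Inv p) : chi (X := A) (c * p) = chi (X := A) c := by
  obtain ⟨M, hM⟩ := S1841.result k A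
  obtain ⟨x, hx⟩ := K512.PhiSurj.exists_eq_of_isAmple M hM p hp
  rw [← hx]
  exact chi_mul_phi c (mk M hM.1) x

omit [GrpObj B] [IsProper B.hom] [GeometricallyIntegral B.hom] in
theorem chi_ne_zero_of_nd {c : Pic A.left} (hc : ND c) : chi (X := A) c ≠ 0 := by
  obtain ⟨g, hg⟩ := K512.IsogIdx.exists_dim A
  obtain ⟨i, -, hi, -⟩ := hc.exists_idx g hg
  exact chi_ne_zero hi

omit [GrpObj B] [IsProper B.hom] [GeometricallyIntegral B.hom] in
theorem nd_of_isAmple {L : A.left.Modules} (hL : CohB1.IsAmple L) : ND (mk L hL.1) := by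
  have h := K512.PhiSurj.finite_of_isAmple L hL
  have e : ∀ x : 𝟙_ (Over (Spec (CommRingCat.of k))) ⟶ A,
      pl (K506.Transl.tr x) (mk L hL.1) = mk L hL.1 ↔ K506.Transl.phi (mk L hL.1) x = 1 := fun x => by
    rw [K506.Transl.phi, mul_inv_eq_one]
  simp only [e] at h
  exact h

end isog

end K506.ChiBox
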