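import Groth.Agent.Grpsch.Cube
import Groth.Agent.Sga7.H496.SeeSaw
import Mathlib.AlgebraicGeometry.AlgClosed.Basic

/-!
# Translation invariant classes on an abelian variety

* `dense_points`: the `K`-points of a `K`-scheme locally of finite type are dense (`K` algebraically closed).
* `pl_mu`: a translation invariant class satisfies `m^* c = p₁^* c * p₂^* c`; `inv_of_mul` is the converse.
* `pl_mul_of_inv`: `(α * β)^* c = α^* c * β^* c` for `c` translation invariant.
* `square`: theorem of the square in `Pic`.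
* `phi`: `φ_c(a) = t_a^* c * c⁻¹`; `phi_mul`, `phi_transl`: additivity and translation invariance of `φ_c(a)`.
-/

set_option autoImplicit false
set_option linter.unusedSectionVars false
universe u

open CategoryTheory Limits MonoidalCategory CartesianMonoidalCategory AlgebraicGeometry
open scoped MonObj
open Groth.Agent.Grpsch.PicGrp Groth.Agent.Grpsch.Cube

namespace K506.Transl

variable {K : Type u} [Field K]

/-- The point of `X` under a `K`-point. -/
noncomputable abbrev pt {X : Over (Spec (CommRingCat.of K))}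
    (a : 𝟙_ (Over (Spec (CommRingCat.of K))) ⟶ X) : X.left := a.left (IsLocalRing.closedPoint K)

theorem point_comp_hom {X : Over (Spec (CommRingCat.of K))}
    (a : 𝟙_ (Over (Spec (CommRingCat.of K))) ⟶ X) : a.left ≫ X.hom = 𝟙 _ := Over.w a

/-- A `K`-point from a section. -/
noncomputable def mkPoint {X : Over (Spec (CommRingCat.of K))} (a : Spec (CommRingCat.of K) ⟶ X.left)
    (ha : a ≫ X.hom = 𝟙 _) : 𝟙_ (Over (Spec (CommRingCat.of K))) ⟶ X := Over.homMk a ha

/-- The `K`-point at a closed point, `K` algebraically closed. -/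
theorem exists_point [IsAlgClosed K] {X : Over (Spec (CommRingCat.of K))} [LocallyOfFiniteType X.hom]
    (x : X.left) (hx : IsClosed {x}) :
    ∃ a : 𝟙_ (Over (Spec (CommRingCat.of K))) ⟶ X, pt a = x :=
  ⟨mkPoint (pointOfClosedPoint X.hom x hx) (pointOfClosedPoint_comp X.hom x hx),
    pointOfClosedPoint_apply X.hom x hx _⟩

theorem isClosed_pt [IsAlgClosed K] {X : Over (Spec (CommRingCat.of K))} [LocallyOfFiniteType X.hom]
    (a : 𝟙_ (Over (Spec (CommRingCat.of K))) ⟶ X) : IsClosed {pt a} :=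
  (pointEquivClosedPoint X.hom ⟨a.left, point_comp_hom a⟩).2

theorem point_ext [IsAlgClosed K] {X : Over (Spec (CommRingCat.of K))} [LocallyOfFiniteType X.hom]
    {a b : 𝟙_ (Over (Spec (CommRingCat.of K))) ⟶ X} (h : pt a = pt b) : a = b := by
  ext1
  exact ext_of_apply_closedPoint_eq X.hom (point_comp_hom a) (point_comp_hom b) h

/-- The points under `K`-points are dense. -/
theorem dense_points [IsAlgClosed K] (X : Over (Spec (CommRingCat.of K))) [LocallyOfFiniteType X.hom] :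
    Dense {x : X.left | ∃ w ∈ (Set.univ : Set (𝟙_ (Over (Spec (CommRingCat.of K))) ⟶ X)),
      x ∈ Set.range w.left} := by
  have : JacobsonSpace X.left := LocallyOfFiniteType.jacobsonSpace X.hom
  have h1 : Dense (closedPoints X.left) := by
    rw [dense_iff_closure_eq]; exact closure_closedPoints
  refine h1.mono ?_
  intro x hx
  obtain ⟨a, rfl⟩ := exists_point x hx
  exact ⟨a, trivial, _, rfl⟩

section

variable {A : Over (Spec (CommRingCat.of K))} [GrpObj A]

/-- Translation by `a`: `x ↦ x + a`. -/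
noncomputable abbrev tr (a : 𝟙_ (Over (Spec (CommRingCat.of K))) ⟶ A) : A ⟶ A := 𝟙 A * (toUnit A ≫ a)

/-- Translation invariance of a class. -/
def Inv (c : Pic A.left) : Prop := ∀ a : 𝟙_ (Over (Spec (CommRingCat.of K))) ⟶ A, pl (tr a) c = c

theorem inv_mk_iff {L : A.left.Modules} (hL : PicF.IsInvertible L) :
    Inv (mk L hL) ↔ ∀ a : 𝟙_ (Over (Spec (CommRingCat.of K))) ⟶ A,
      Nonempty ((Scheme.Modules.pullback ((𝟙 A * (toUnit A ≫ a))).left).obj L ≅ L) := by
  refine forall_congr' fun a => ?_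
  rw [show pl (tr a) (mk L hL) = Groth.Agent.Grpsch.PicGrp.mk _ _ from pull_mk _ hL, mk_eq_iff]

theorem fst_mul_snd : fst A A * snd A A = μ[A] := by
  rw [Hom.mul_def, lift_fst_snd, Category.id_comp]

theorem comp_tr {T : Over (Spec (CommRingCat.of K))} (f : T ⟶ A)
    (a : 𝟙_ (Over (Spec (CommRingCat.of K))) ⟶ A) : f ≫ tr a = f * (toUnit T ≫ a) := by
  rw [MonObj.comp_mul, Category.comp_id, ← Category.assoc, comp_toUnit]

theorem tr_one : tr (1 : 𝟙_ (Over (Spec (CommRingCat.of K))) ⟶ A) = 𝟙 A := by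
  rw [tr, MonObj.comp_one, mul_one]

theorem tr_comp_tr (a b : 𝟙_ (Over (Spec (CommRingCat.of K))) ⟶ A) : tr a ≫ tr b = tr (a * b) := by
  rw [comp_tr, tr, tr, MonObj.comp_mul, mul_assoc]

theorem Inv.mul {c d : Pic A.left} (hc : Inv c) (hd : Inv d) : Inv (c * d) := fun a => by
  rw [map_mul, hc a, hd a]

theorem Inv.inv {c : Pic A.left} (hc : Inv c) : Inv c⁻¹ := fun a => by
  rw [map_inv, hc a]

theorem Inv.one : Inv (1 : Pic A.left) := fun _ => map_one _

theorem Inv.pow {c : Pic A.left} (hc : Inv c) (n : ℕ) : Inv (c ^ n) := fun a => by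
  rw [map_pow, hc a]

/-- The converse: an additive class is translation invariant. -/
theorem inv_of_mul {c : Pic A.left}
    (h : pl (μ[A] : A ⊗ A ⟶ A) c = pl (fst A A) c * pl (snd A A) c) : Inv c := by
  intro a
  have h1 := congrArg (pl (lift (𝟙 A) (toUnit A ≫ a))) h
  rw [map_mul, ← pl_comp, ← pl_comp, ← pl_comp, lift_fst, lift_snd] at h1
  rw [tr, Hom.mul_def, h1]
  have h2 : pl (toUnit A ≫ a) c = 1 := by
    rw [pl_comp]
    have : pl a c = 1 := pic_spec_local K _
    rw [this, map_one]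
  rw [h2, mul_one]
  exact (congrArg (fun f => pull f c) (Over.id_left A)).trans (pull_id c)

variable [IsProper A.hom] [GeometricallyIntegral A.hom]

theorem mul_comm_hom {T : Over (Spec (CommRingCat.of K))} (f g : T ⟶ A) : f * g = g * f := by
  have := isCommMonObj_of_isProper_of_geometricallyIntegral A
  exact _root_.mul_comm f g

/-- A translation invariant class is additive. -/
theorem pl_mu [IsAlgClosed K] {c : Pic A.left} (hc : Inv c) :
    pl (μ[A] : A ⊗ A ⟶ A) c = pl (fst A A) c * pl (snd A A) c := by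
  refine Groth.Agent.Sga7.H496.SeeSaw.pull_mul c Set.univ (dense_points A) ?_
  intro w _
  have : (toUnit A ≫ w) * 𝟙 A = tr w := mul_comm_hom _ _
  rw [this]
  exact hc w

theorem inv_iff_mul [IsAlgClosed K] {c : Pic A.left} :
    Inv c ↔ pl (μ[A] : A ⊗ A ⟶ A) c = pl (fst A A) c * pl (snd A A) c :=
  ⟨pl_mu, inv_of_mul⟩

/-- Pullback of a translation invariant class along a product of morphisms. -/
theorem pl_mul_of_inv [IsAlgClosed K] {c : Pic A.left} (hc : Inv c) {T : Over (Spec (CommRingCat.of K))}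
    (α β : T ⟶ A) : pl (α * β) c = pl α c * pl β c := by
  have h1 := congrArg (pl (lift α β)) (pl_mu hc)
  rw [map_mul, ← pl_comp, ← pl_comp, ← pl_comp, lift_fst, lift_snd] at h1
  rw [Hom.mul_def, h1]

theorem pl_inv_of_inv [IsAlgClosed K] {c : Pic A.left} (hc : Inv c) {T : Over (Spec (CommRingCat.of K))}
    (α : T ⟶ A) : pl (α⁻¹) c = (pl α c)⁻¹ := by
  have h := pl_mul_of_inv hc α⁻¹ α
  rw [inv_mul_cancel, pl_one] at h
  exact eq_inv_of_mul_eq_one_left h.symm

/-- The theorem of the square. -/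
theorem square (c : Pic A.left) (a b : 𝟙_ (Over (Spec (CommRingCat.of K))) ⟶ A) :
    pl (tr (a * b)) c * c = pl (tr a) c * pl (tr b) c := by
  have h := cube c (𝟙 A) (toUnit A ≫ a) (toUnit A ≫ b)
  have hu : ∀ x : 𝟙_ (Over (Spec (CommRingCat.of K))) ⟶ A, pl (toUnit A ≫ x) c = 1 := fun x => by
    rw [pl_comp]
    have : pl x c = 1 := pic_spec_local K _
    rw [this, map_one]
  have hid : pl (𝟙 A) c = c := (congrArg (fun f => pull f c) (Over.id_left A)).trans (pull_id c)
  rw [mul_assoc (𝟙 A), ← MonObj.comp_mul, hu, hu, hu, hid, mul_one, mul_one, mul_one] at h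
  exact h

/-- `φ_c(a) = t_a^* c * c⁻¹`. -/
noncomputable def phi (c : Pic A.left) (a : 𝟙_ (Over (Spec (CommRingCat.of K))) ⟶ A) : Pic A.left :=
  pl (tr a) c * c⁻¹

theorem phi_mul (c : Pic A.left) (a b : 𝟙_ (Over (Spec (CommRingCat.of K))) ⟶ A) :
    phi c (a * b) = phi c a * phi c b := by
  have h := square c a b
  unfold phi
  rw [eq_mul_inv_of_mul_eq h]
  simp only [mul_comm, mul_left_comm]

theorem phi_one (c : Pic A.left) : phi c (1 : 𝟙_ (Over (Spec (CommRingCat.of K))) ⟶ A) = 1 := by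
  have := phi_mul c 1 1
  rw [mul_one] at this
  simpa using this

theorem phi_inv (c : Pic A.left) (a : 𝟙_ (Over (Spec (CommRingCat.of K))) ⟶ A) :
    phi c a⁻¹ = (phi c a)⁻¹ := by
  have := phi_mul c a a⁻¹
  rw [mul_inv_cancel, phi_one] at this
  exact (inv_eq_of_mul_eq_one_right this.symm).symm

theorem phi_cmul (c d : Pic A.left) (a : 𝟙_ (Over (Spec (CommRingCat.of K))) ⟶ A) :
    phi (c * d) a = phi c a * phi d a := by
  unfold phi
  rw [map_mul, mul_inv]
  simp only [mul_assoc, mul_comm, mul_left_comm]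

theorem phi_cpow (c : Pic A.left) (n : ℕ) (a : 𝟙_ (Over (Spec (CommRingCat.of K))) ⟶ A) :
    phi (c ^ n) a = phi c a ^ n := by
  unfold phi
  rw [map_pow, mul_pow, inv_pow]

theorem phi_pow (c : Pic A.left) (n : ℕ) (a : 𝟙_ (Over (Spec (CommRingCat.of K))) ⟶ A) :
    phi c (a ^ n) = phi c a ^ n := by
  induction n with
  | zero => rw [pow_zero, pow_zero, phi_one]
  | succ n ih => rw [pow_succ, phi_mul, ih, pow_succ]

theorem inv_iff_phi (c : Pic A.left) : Inv c ↔ ∀ a, phi c a = 1 :=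
  forall_congr' fun a => by rw [phi, mul_inv_eq_one]

/-- `φ_c(a)` is translation invariant. -/
theorem phi_transl (c : Pic A.left) (a : 𝟙_ (Over (Spec (CommRingCat.of K))) ⟶ A) : Inv (phi c a) := by
  intro b
  have h1 : pl (tr b) (phi c a) = pl (tr (b * a)) c * (pl (tr b) c)⁻¹ := by
    rw [phi, map_mul, map_inv, ← pl_comp, tr_comp_tr]
  have h2 := square c b a
  rw [h1, eq_mul_inv_of_mul_eq h2, phi, mul_comm (pl (tr b) c), mul_right_comm _ _ (c⁻¹),
    mul_inv_cancel_right]

theorem tr_comp_inv (a : 𝟙_ (Over (Spec (CommRingCat.of K))) ⟶ A) :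
    tr a ≫ (𝟙 A)⁻¹ = (𝟙 A)⁻¹ ≫ tr a⁻¹ := by
  rw [comp_tr, GrpObj.comp_inv, Category.comp_id, tr, mul_inv_rev, mul_comm_hom, GrpObj.comp_inv]

/-- `φ_{[-1]^* c}(a) = [-1]^* φ_c(-a)`. -/
theorem phi_pl_inv (c : Pic A.left) (a : 𝟙_ (Over (Spec (CommRingCat.of K))) ⟶ A) :
    phi (pl (𝟙 A)⁻¹ c) a = pl (𝟙 A)⁻¹ (phi c a⁻¹) := by
  unfold phi
  rw [← pl_comp, tr_comp_inv, pl_comp, map_mul, map_inv]

/-- `φ_{[-1]^* c} = φ_c`. -/
theorem phi_pl_inv_eq [IsAlgClosed K] (c : Pic A.left) (a : 𝟙_ (Over (Spec (CommRingCat.of K))) ⟶ A) :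
    phi (pl (𝟙 A)⁻¹ c) a = phi c a := by
  have hid : pl (𝟙 A) (phi c a⁻¹) = phi c a⁻¹ :=
    (congrArg (fun f => pull f (phi c a⁻¹)) (Over.id_left A)).trans (pull_id _)
  rw [phi_pl_inv, pl_inv_of_inv (phi_transl c a⁻¹), hid, phi_inv, inv_inv]

theorem phi_neg_pull [IsAlgClosed K] (c : Pic A.left) (a : 𝟙_ (Over (Spec (CommRingCat.of K))) ⟶ A) :
    pl (tr a) (pl (𝟙 A)⁻¹ c) * c = pl (𝟙 A)⁻¹ c * pl (tr a) c := by
  have h := phi_pl_inv_eq c a
  unfold phi at h
  rw [mul_inv_eq_iff_eq_mul] at h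
  rw [h, mul_right_comm _ (c⁻¹), inv_mul_cancel_right, mul_comm]

end

end K506.Transl
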