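import Groth.Agent.AbVar.K506.Transl
import Groth.Agent.AbVar.K518.Sec
import Groth.Agent.AbVar.K528.Irr
import Groth.Agent.CohqB.DevGeom
import Groth.Agent.Ega3B.ProjProper
import Groth.Agent.EGA2.K30.AmpleLoc
import Groth.Agent.Fdesc.GeomAlgClosed
import Groth.Agent.Grpsch.MulFin
import Groth.Agent.PosLin.K931.Descend
import Groth.Agent.S10860
import Groth.Agent.Sga3.H780.RigidProper
import Groth.Agent.Sga3C.GeomRedPerf
import Groth.Agent.Sga5.AmpleFib
import Groth.Agent.VarietyA.AmpleField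
import Groth.Agent.VarietyB.GlobGen

/-!
# Effective and non-degenerate implies ample

* `exists_section`, `isGloballyGenerated`: `L ⊗ L` is globally generated for `L` effective on an abelian variety;
* `finite_fibre`: the fibres of the morphism defined by `L ⊗ L` are finite if `K(L)` is finite (rigidity);
* `isAmple`.
-/

set_option autoImplicit false
set_option linter.unusedSectionVars false
universe u

open CategoryTheory Limits MonoidalCategory CartesianMonoidalCategory AlgebraicGeometry TopologicalSpace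
open scoped MonObj
open Groth.Agent.Grpsch.PicGrp Groth.Agent.Grpsch.Cube Groth.Agent.Fdesc.LocGen

namespace K506.AmpleNd

open Transl

variable {K : Type u} [Field K] [IsAlgClosed K]

theorem pt_comp {X Y : Over (Spec (CommRingCat.of K))} (a : 𝟙_ (Over (Spec (CommRingCat.of K))) ⟶ X) (f : X ⟶ Y) :
    pt (a ≫ f) = f.left (pt a) := by
  change (a ≫ f).left (IsLocalRing.closedPoint K) = _
  rw [Over.comp_left]
  exact Scheme.Hom.comp_apply a.left f.left _

/-- A nonempty open subset contains a rational point. -/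
theorem exists_pt_mem {X : Over (Spec (CommRingCat.of K))} [LocallyOfFiniteType X.hom] (U : X.left.Opens)
    (hU : (U : Set X.left).Nonempty) : ∃ a : 𝟙_ (Over (Spec (CommRingCat.of K))) ⟶ X, pt a ∈ U := by
  have hJ : JacobsonSpace X.left := LocallyOfFiniteType.jacobsonSpace X.hom
  have hd : Dense (closedPoints X.left) := by rw [dense_iff_closure_eq]; exact closure_closedPoints
  obtain ⟨w, h2, h3⟩ := hd.inter_open_nonempty _ U.isOpen hU
  obtain ⟨a, rfl⟩ := exists_point w h3
  exact ⟨a, h2⟩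

/-- An open subset containing all rational points is everything. -/
theorem eq_top_of_forall_pt {X : Over (Spec (CommRingCat.of K))} [LocallyOfFiniteType X.hom] [CompactSpace X.left]
    (U : X.left.Opens) (h : ∀ a : 𝟙_ (Over (Spec (CommRingCat.of K))) ⟶ X, pt a ∈ U) : U = ⊤ := by
  by_contra hne
  have hc : IsClosed ((U : Set X.left)ᶜ) := U.isOpen.isClosed_compl
  have hne' : ((U : Set X.left)ᶜ).Nonempty := by
    rw [Set.nonempty_compl]
    intro h2
    exact hne (Opens.ext h2)
  obtain ⟨x, hx, hxc⟩ := hc.exists_closed_singleton hne'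
  obtain ⟨a, rfl⟩ := exists_point x hxc
  exact hx (h a)

variable {A : Over (Spec (CommRingCat.of K))} [GrpObj A] [IsProper A.hom] [GeometricallyIntegral A.hom]

theorem comp_tr_pt (a b : 𝟙_ (Over (Spec (CommRingCat.of K))) ⟶ A) : a ≫ tr b = a * b := by
  rw [comp_tr]
  have : toUnit (𝟙_ (Over (Spec (CommRingCat.of K)))) = 𝟙 _ := toUnit_unique _ _
  rw [this, Category.id_comp]

theorem point_mul_comm (a b : 𝟙_ (Over (Spec (CommRingCat.of K))) ⟶ A) : a * b = b * a := mul_comm_hom a b

/-- Two translates: a point `b` with `a + b` and `a - b` in a given nonempty open set. -/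
theorem exists_two (U : A.left.Opens) (hU : (U : Set A.left).Nonempty)
    (a : 𝟙_ (Over (Spec (CommRingCat.of K))) ⟶ A) :
    ∃ b : 𝟙_ (Over (Spec (CommRingCat.of K))) ⟶ A, pt (a * b) ∈ U ∧ pt (a * b⁻¹) ∈ U := by
  have hint : IsIntegral A.left := GeometricallyIntegral.isIntegral_of_subsingleton A.hom
  obtain ⟨u, hu⟩ := exists_pt_mem U hU
  let f : A ⟶ A := (toUnit A ≫ a) * 𝟙 A
  let g : A ⟶ A := (toUnit A ≫ a) * (𝟙 A)⁻¹
  have hf : ∀ b : 𝟙_ (Over (Spec (CommRingCat.of K))) ⟶ A, b ≫ f = a * b := by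
    intro b
    have h1 : b ≫ toUnit A = 𝟙 _ := toUnit_unique _ _
    rw [MonObj.comp_mul, ← Category.assoc, h1, Category.id_comp, Category.comp_id]
  have hg : ∀ b : 𝟙_ (Over (Spec (CommRingCat.of K))) ⟶ A, b ≫ g = a * b⁻¹ := by
    intro b
    have h1 : b ≫ toUnit A = 𝟙 _ := toUnit_unique _ _
    rw [MonObj.comp_mul, ← Category.assoc, h1, Category.id_comp, GrpObj.comp_inv, Category.comp_id]
  have h1 : ((f.left ⁻¹ᵁ U : A.left.Opens) : Set A.left).Nonempty := by
    refine ⟨pt (a⁻¹ * u), ?_⟩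
    change f.left (pt (a⁻¹ * u)) ∈ U
    rw [← pt_comp, hf, mul_inv_cancel_left]
    exact hu
  have h2 : ((g.left ⁻¹ᵁ U : A.left.Opens) : Set A.left).Nonempty := by
    refine ⟨pt (u⁻¹ * a), ?_⟩
    change g.left (pt (u⁻¹ * a)) ∈ U
    rw [← pt_comp, hg, _root_.mul_inv_rev, inv_inv, point_mul_comm a⁻¹, point_mul_comm, inv_mul_cancel_right]
    exact hu
  obtain ⟨b, hb⟩ := exists_pt_mem (X := A) (f.left ⁻¹ᵁ U ⊓ g.left ⁻¹ᵁ U)
    (nonempty_preirreducible_inter (f.left ⁻¹ᵁ U).isOpen (g.left ⁻¹ᵁ U).isOpen h1 h2)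
  refine ⟨b, ?_, ?_⟩
  · have h3 : f.left (pt b) ∈ U := hb.1
    rwa [← pt_comp, hf] at h3
  · have h3 : g.left (pt b) ∈ U := hb.2
    rwa [← pt_comp, hg] at h3

theorem square_two (c : Pic A.left) (b : 𝟙_ (Over (Spec (CommRingCat.of K))) ⟶ A) :
    pl (tr b) c * pl (tr b⁻¹) c = c * c := by
  have h := square c b b⁻¹
  rw [mul_inv_cancel, tr_one] at h
  have hid : pl (𝟙 A) c = c := (congrArg (fun f => pull f c) (Over.id_left A)).trans (pull_id c)
  rw [hid] at h
  exact h.symm

/-- `L ⊗ L` has a section generating at a given rational point, `L` effective. -/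
theorem exists_section {L : A.left.Modules} (hL : PicF.IsInvertible L) (s : Coh.structureModule A.left ⟶ L)
    (hs : s ≠ 0) (a : 𝟙_ (Over (Spec (CommRingCat.of K))) ⟶ A) :
    ∃ t : Coh.structureModule A.left ⟶ CohB1.tensorMod L L, pt a ∈ CohB1.genLocus _ t := by
  have hint : IsIntegral A.left := GeometricallyIntegral.isIntegral_of_subsingleton A.hom
  have hne : (CohB1.genLocus L s : Set A.left).Nonempty := by
    by_contra h
    rw [Opens.not_nonempty_iff_eq_bot] at h
    exact hs (K518.Sec.eq_zero_of_genLocus_eq_bot hL s h)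
  obtain ⟨b, hb1, hb2⟩ := exists_two _ hne a
  have h1 : PicF.IsInvertible ((Scheme.Modules.pullback (tr b).left).obj L) := isInvertible_pullback _ hL
  have h2 : PicF.IsInvertible ((Scheme.Modules.pullback (tr b⁻¹).left).obj L) := isInvertible_pullback _ hL
  let t := tmulHom (pullHom (tr b).left s) (pullHom (tr b⁻¹).left s)
  have ht : pt a ∈ CohB1.genLocus _ t := by
    rw [genLocus_tmulHom h1 h2, Groth.Agent.Ega1.AmpFam.genLocus_pullHom _ hL,
      Groth.Agent.Ega1.AmpFam.genLocus_pullHom _ hL]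
    refine ⟨?_, ?_⟩
    · change (tr b).left (pt a) ∈ CohB1.genLocus L s
      rw [← pt_comp, comp_tr_pt]
      exact hb1
    · change (tr b⁻¹).left (pt a) ∈ CohB1.genLocus L s
      rw [← pt_comp, comp_tr_pt]
      exact hb2
  have e : Nonempty (CohB1.tensorMod ((Scheme.Modules.pullback (tr b).left).obj L)
      ((Scheme.Modules.pullback (tr b⁻¹).left).obj L) ≅ CohB1.tensorMod L L) := by
    rw [← mk_eq_iff (isInvertible_tensorMod h1 h2) (isInvertible_tensorMod hL hL), ← mk_mul_mk h1 h2,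
      ← mk_mul_mk hL hL, ← pull_mk _ hL, ← pull_mk _ hL]
    exact square_two (mk L hL) b
  obtain ⟨e⟩ := e
  refine ⟨t ≫ e.hom, ?_⟩
  rw [Groth.Agent.Ega2.SecCalc.genLocus_comp]
  exact ht

theorem isGloballyGenerated {L : A.left.Modules} (hL : PicF.IsInvertible L) (s : Coh.structureModule A.left ⟶ L)
    (hs : s ≠ 0) : Curv2.IsGloballyGenerated (CohB1.tensorMod L L) := by
  have hcomp : CompactSpace A.left := QuasiCompact.compactSpace_of_compactSpace A.hom
  refine Groth.Agent.VarietyB.GlobGen.isGloballyGenerated_of_cover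
    (κ := Coh.structureModule A.left ⟶ CohB1.tensorMod L L) (fun t => t) ?_
  have h := eq_top_of_forall_pt (X := A)
    (⨆ t : (Coh.structureModule A.left ⟶ CohB1.tensorMod L L), CohB1.genLocus (CohB1.tensorMod L L) t) (fun a => by
      obtain ⟨t, ht⟩ := exists_section hL s hs a
      exact Opens.mem_iSup.2 ⟨t, ht⟩)
  intro x
  have hx : x ∈ (⊤ : A.left.Opens) := trivial
  rw [← h] at hx
  exact Opens.mem_iSup.1 hx

/-- Morphisms agreeing on rational points are equal. -/
theorem hom_ext_pt {X P : Over (Spec (CommRingCat.of K))} [LocallyOfFiniteType X.hom] [IsReduced X.left]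
    [LocallyOfFiniteType P.hom] [IsSeparated P.hom] {f g : X ⟶ P}
    (h : ∀ x : 𝟙_ (Over (Spec (CommRingCat.of K))) ⟶ X, x ≫ f = x ≫ g) : f = g := by
  ext1
  have h1 : LocallyOfFiniteType (f.left ≫ P.hom) := by rw [Over.w]; infer_instance
  refine ext_of_apply_eq P.hom Set.univ isOpen_univ.isLocallyClosed dense_univ ?_ (by rw [Over.w, Over.w])
  intro x _ hx
  obtain ⟨a, rfl⟩ := exists_point x hx
  rw [← pt_comp, ← pt_comp, h a]

/-- Rigidity: translations by points of a closed irreducible subset contracted by `r` have the same composite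
with `r`. -/
theorem contracted {P : Over (Spec (CommRingCat.of K))} [LocallyOfFiniteType P.hom] [IsSeparated P.hom] (r : A ⟶ P)
    (F : Set A.left) (hF : IsIrreducible F) (hFc : IsClosed F) (y : P.left) (hy : ∀ x ∈ F, r.left x = y)
    (a b : 𝟙_ (Over (Spec (CommRingCat.of K))) ⟶ A) (ha : pt a ∈ F) (hb : pt b ∈ F) :
    tr a ≫ r = tr b ≫ r := by
  obtain ⟨Z, j, hj, hZ, hrange⟩ := Groth.Agent.CohqB.DevGeom.exists_integral F hFc hF
  let Z' : Over (Spec (CommRingCat.of K)) := Over.mk (j ≫ A.hom)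
  have hZp : IsProper Z'.hom := by change IsProper (j ≫ A.hom); infer_instance
  have hZi : IsIntegral Z'.left := hZ
  have hgr : GeometricallyReduced Z'.hom := Groth.Agent.Sga3C.GeomRedPerf.geometricallyReduced_of_isReduced Z'.hom
  have hgir : GeometricallyIrreducible Z'.hom :=
    Groth.Agent.Fdesc.GeomAlgClosed.geometricallyIrreducible_of_irreducibleSpace Z'.hom
  have h1 : GeometricallyIntegral Z'.hom :=
    GeometricallyIntegral.of_geometricallyReduced_of_geometricallyIrreducible Z'.hom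
  let i : Z' ⟶ A := Over.homMk j rfl
  have hA : IsIntegral A.left := GeometricallyIntegral.isIntegral_of_subsingleton A.hom
  have h2 : IsIntegral (Z' ⊗ A).left := K528.Irr.isIntegral_tensor Z' A
  -- lifting points
  have hlift : ∀ c : 𝟙_ (Over (Spec (CommRingCat.of K))) ⟶ A, pt c ∈ F →
      ∃ c' : 𝟙_ (Over (Spec (CommRingCat.of K))) ⟶ Z', c' ≫ i = c := by
    intro c hc
    obtain ⟨z, hz⟩ : pt c ∈ Set.range j := hrange.symm ▸ hc
    have hzc : IsClosed ({z} : Set Z) := by
      have h3 := (isClosed_pt c).preimage j.continuous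
      rw [← hz] at h3
      convert h3 using 1
      ext t
      simp only [Set.mem_singleton_iff, Set.mem_preimage]
      exact ⟨fun h => h ▸ rfl, fun h => j.isClosedEmbedding.injective h⟩
    obtain ⟨c', hc'⟩ := exists_point (X := Z') z hzc
    refine ⟨c', point_ext ?_⟩
    rw [pt_comp, hc']
    exact hz
  obtain ⟨a', ha'⟩ := hlift a ha
  obtain ⟨b', hb'⟩ := hlift b hb
  let ψ : Z' ⊗ A ⟶ P := ((snd Z' A) * (fst Z' A ≫ i)) ≫ r
  have hψ : ∀ {T : Over (Spec (CommRingCat.of K))} (z : T ⟶ Z') (x : T ⟶ A), lift z x ≫ ψ = (x * (z ≫ i)) ≫ r := by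
    intro T z x
    simp only [ψ]
    rw [← Category.assoc, MonObj.comp_mul, lift_snd, ← Category.assoc, lift_fst]
  have hconst : lift (𝟙 Z') (toUnit Z' ≫ (1 : 𝟙_ (Over (Spec (CommRingCat.of K))) ⟶ A)) ≫ ψ =
      toUnit Z' ≫ (a' ≫ i ≫ r) := by
    rw [hψ, MonObj.comp_one, _root_.one_mul, Category.id_comp]
    apply hom_ext_pt
    intro x
    have h5 : x ≫ toUnit Z' = 𝟙 _ := toUnit_unique _ _
    rw [← Category.assoc x (toUnit Z'), h5, Category.id_comp]
    apply point_ext
    have h6 : ∀ w : 𝟙_ (Over (Spec (CommRingCat.of K))) ⟶ Z', pt (w ≫ i ≫ r) = y := by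
      intro w
      rw [pt_comp, Over.comp_left, Scheme.Hom.comp_apply]
      refine hy _ ?_
      rw [← hrange]
      exact ⟨_, rfl⟩
    rw [h6, h6]
  have hrig := Groth.Agent.Sga3.H780.RigidProper.rigid Z' A P ψ a' 1 _ hconst
  have key : ∀ c' : 𝟙_ (Over (Spec (CommRingCat.of K))) ⟶ Z',
      tr (c' ≫ i) ≫ r = lift (toUnit A ≫ a') (𝟙 A) ≫ ψ := by
    intro c'
    have h7 : tr (c' ≫ i) ≫ r = lift (toUnit A ≫ c') (𝟙 A) ≫ ψ := by
      rw [hψ, Category.assoc]
    have h8 := congrArg (fun q => lift (toUnit A ≫ c') (𝟙 A) ≫ q) hrig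
    have h9 : lift (toUnit A ≫ c') (𝟙 A) ≫ lift (toUnit (Z' ⊗ A) ≫ a') (snd Z' A) =
        lift (toUnit A ≫ a') (𝟙 A) := by
      rw [comp_lift, lift_snd, ← Category.assoc, comp_toUnit]
    exact h7.trans (h8.trans ((Category.assoc _ _ _).symm.trans (congrArg (· ≫ ψ) h9)))
  rw [← ha', ← hb', key, key]

/-- The points of a contracted closed irreducible subset, up to translation, lie in `K(c)` for every class `c`
pulled back along `r`. -/
theorem phi_eq_of_contracted {P : Over (Spec (CommRingCat.of K))} [LocallyOfFiniteType P.hom] [IsSeparated P.hom]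
    (r : A ⟶ P) (d : Pic P.left) (F : Set A.left) (hF : IsIrreducible F) (hFc : IsClosed F) (y : P.left)
    (hy : ∀ x ∈ F, r.left x = y) (a b : 𝟙_ (Over (Spec (CommRingCat.of K))) ⟶ A) (ha : pt a ∈ F) (hb : pt b ∈ F) :
    phi (pull r.left d) (a * b⁻¹) = 1 := by
  have h := contracted r F hF hFc y hy a b ha hb
  have h1 : pl (tr a) (pull r.left d) = pl (tr b) (pull r.left d) := by
    change pull _ _ = pull _ _
    rw [← pull_comp, ← pull_comp, ← Over.comp_left, ← Over.comp_left, h]
  rw [phi_mul, phi_inv, phi, phi, h1, mul_inv_cancel]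

/-- The `K`-points killed by `[2]` up to a finite set are finite. -/
theorem finite_sq_mem (S : Set (𝟙_ (Over (Spec (CommRingCat.of K))) ⟶ A)) (hS : S.Finite) :
    {a : 𝟙_ (Over (Spec (CommRingCat.of K))) ⟶ A | a ^ 2 ∈ S}.Finite := by
  have hfin : IsFinite (𝟙 A ^ 2).left := Groth.Agent.Grpsch.MulFin.isFinite_pow A 2 (by norm_num)
  have h1 : {a : 𝟙_ (Over (Spec (CommRingCat.of K))) ⟶ A | a ^ 2 ∈ S} =
      ⋃ s ∈ S, {a : 𝟙_ (Over (Spec (CommRingCat.of K))) ⟶ A | a ^ 2 = s} := by
    ext a; simp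
  rw [h1]
  refine hS.biUnion fun s _ => ?_
  have h2 := (𝟙 A ^ 2).left.finite_preimage_singleton (pt s)
  refine Set.Finite.of_finite_image (f := fun a => pt a) (h2.subset ?_) ?_
  · rintro _ ⟨a, ha, rfl⟩
    change (𝟙 A ^ 2).left (pt a) = pt s
    rw [← pt_comp, MonObj.comp_pow, Category.comp_id]
    exact congrArg pt ha
  · intro a _ b _ hab
    exact point_ext hab

/-- The fibres of a morphism `r` on which `c * c` is a pull back are finite if `K(c)` is finite. -/
theorem finite_fibre {P : Over (Spec (CommRingCat.of K))} [LocallyOfFiniteType P.hom] [IsSeparated P.hom]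
    (r : A ⟶ P) (d : Pic P.left) (c : Pic A.left) (hc : pull r.left d = c * c)
    (hK : {a : 𝟙_ (Over (Spec (CommRingCat.of K))) ⟶ A | phi c a = 1}.Finite) (y : P.left)
    (hy : IsClosed ({y} : Set P.left)) : (r.left ⁻¹' {y}).Finite := by
  have hJ : JacobsonSpace A.left := LocallyOfFiniteType.jacobsonSpace A.hom
  have hN1 : IsLocallyNoetherian A.left := LocallyOfFiniteType.isLocallyNoetherian A.hom
  have hcomp : CompactSpace A.left := QuasiCompact.compactSpace_of_compactSpace A.hom
  have hN : IsNoetherian A.left := {}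
  have hcl : IsClosed (r.left ⁻¹' {y}) := hy.preimage r.left.continuous
  obtain ⟨S, hS, hSc, hSi, hSu⟩ := NoetherianSpace.exists_finite_set_isClosed_irreducible hcl
  rw [hSu]
  refine hS.sUnion fun F hF => ?_
  have hFc := hSc F hF
  have hFi := hSi F hF
  have hFy : ∀ x ∈ F, r.left x = y := by
    intro x hx
    have h : x ∈ r.left ⁻¹' {y} := by rw [hSu]; exact ⟨F, hF, hx⟩
    exact h
  obtain ⟨x0, hx0, hx0c⟩ := hFc.exists_closed_singleton hFi.nonempty
  obtain ⟨b, rfl⟩ := exists_point x0 hx0c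
  have hfin : {a : 𝟙_ (Over (Spec (CommRingCat.of K))) ⟶ A | pt a ∈ F}.Finite := by
    refine Set.Finite.of_injOn (f := fun a => a * b⁻¹) (t := {a | a ^ 2 ∈ {a | phi c a = 1}}) ?_ ?_
      (finite_sq_mem _ hK)
    · intro a ha
      have h1 := phi_eq_of_contracted r d F hFi hFc y hFy a b ha hx0
      rw [hc, phi_cmul, ← phi_mul, ← sq] at h1
      exact h1
    · intro a _ a' _ h
      exact mul_right_cancel h
  have hfin2 : (F ∩ closedPoints A.left).Finite := by
    refine (hfin.image pt).subset ?_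
    rintro x ⟨hxF, hx⟩
    obtain ⟨a, rfl⟩ := exists_point x hx
    exact ⟨a, hxF, rfl⟩
  have hcl2 : IsClosed (F ∩ closedPoints A.left) := by
    rw [← Set.biUnion_of_singleton (F ∩ closedPoints A.left)]
    exact hfin2.isClosed_biUnion fun x hx => hx.2
  have h3 := JacobsonSpace.closure_inter_closedPoints hFc
  rw [hcl2.closure_eq] at h3
  rw [← h3]
  exact hfin2

omit [IsAlgClosed K] [GrpObj A] [IsProper A.hom] [GeometricallyIntegral A.hom] in
set_option backward.isDefEq.respectTransparency.types false in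
theorem isFinite_of_restrict {X Y : Scheme.{u}} (f : X ⟶ Y) (U : Y.Opens) (hU : U = ⊤) (h : IsFinite (f ∣_ U)) :
    IsFinite f :=
  IsZariskiLocalAtTarget.of_iSup_eq_top (P := @IsFinite) (fun _ : Unit => U) (by simp [hU]) (fun _ => h)

theorem isAmple {L : A.left.Modules} (hL : PicF.IsInvertible L) (s : Coh.structureModule A.left ⟶ L)
    (hs : s ≠ 0) (hK : {a : 𝟙_ (Over (Spec (CommRingCat.of K))) ⟶ A | phi (mk L hL) a = 1}.Finite) :
    CohB1.IsAmple L := by
  have hcomp : CompactSpace A.left := QuasiCompact.compactSpace_of_compactSpace A.hom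
  have hLL : PicF.IsInvertible (CohB1.tensorMod L L) := isInvertible_tensorMod hL hL
  obtain ⟨n, r, hr, ⟨τ⟩⟩ := K931.Descend.exists_map A.hom hLL (isGloballyGenerated hL s hs)
  let P : Over (Spec (CommRingCat.of K)) := Over.mk (CohB1.ProjSpace.toSpec n K)
  have hPp : IsProper P.hom := Groth.Agent.Ega3B.ProjProper.isProper_toSpec n K
  let r' : A ⟶ P := Over.homMk r hr
  have hO1 : CohB1.IsAmple (Twist.twistProjSpace n K 1) := Groth.Agent.VarietyA.AmpleField.isAmple_twistProjSpace n K
  have hd : pull r'.left (mk _ hO1.1) = mk L hL * mk L hL := by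
    rw [pull_mk, mk_mul_mk hL hL, mk_eq_iff]
    exact ⟨τ⟩
  have hrp : IsProper r := by
    have : IsProper (r ≫ CohB1.ProjSpace.toSpec n K) := by rw [hr]; infer_instance
    have : IsSeparated (CohB1.ProjSpace.toSpec n K) := hPp.toIsSeparated
    exact IsProper.of_comp r (CohB1.ProjSpace.toSpec n K)
  obtain ⟨U, hU, hfinU⟩ := Groth.Agent.S10860.result r
  have hUtop : U = ⊤ := by
    have hcP : CompactSpace P.left := QuasiCompact.compactSpace_of_compactSpace P.hom
    refine eq_top_of_forall_pt (X := P) U fun a => ?_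
    change pt a ∈ (U : Set (CohB1.ProjSpace n K))
    rw [hU]
    exact finite_fibre r' (mk _ hO1.1) (mk L hL) hd hK (pt a) (isClosed_pt a)
  have hfin : IsFinite r := isFinite_of_restrict r U hUtop hfinU
  have h1 : CohB1.IsAmple ((Scheme.Modules.pullback r).obj (Twist.twistProjSpace n K 1)) :=
    Groth.Agent.Sga5.AmpleFib.isAmple_pullback r hO1
  have h2 : CohB1.IsAmple (CohB1.tensorMod L L) := Groth.Agent.Ega2.Weight.isAmple_of_iso τ h1
  have h3 : Nonempty (CohB1.tensorMod L L ≅ CohB1.tensorPow L 2) := by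
    rw [← mk_eq_iff hLL (isInvertible_tensorPow hL 2), mk_tensorPow hL, ← mk_mul_mk hL hL, sq]
  exact (K30.AmpleLoc.isAmple_iff_tensorPow hL (by norm_num : 0 < 2)).2
    (Groth.Agent.Ega2.Weight.isAmple_of_iso h3.some h2)

end K506.AmpleNd
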