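import Groth.Agent.AbVar.K506.Jump
import Groth.Agent.AbVar.K524.Bc
import Groth.Agent.AbVar.K512.IsogIdx
import Groth.Agent.AbSch.K450.RRChi
import Groth.Agent.EGA2.K30.AmpleLoc
import Groth.Agent.AbVar.K518.Dict

/-!
# Indices and roots of the Hilbert polynomial on an abelian variety

`X` an abelian variety over a field, `c` a class, `H` ample with class `h`, `Φ(n) = χ(c h^n)`.
* `exists_idx`: a class with `χ ≠ 0` has an index;
* `chi_pow_mul`: `χ(c^N h^n) = N^g Φ(n / N)`;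
* `exists_root`: if `c` and `c h` have different indices then `Φ` has a root in `[0, 1]`;
* `jump_le`: if `Φ` has a single root in `[0, 1]` then the index drops at most by its multiplicity.
-/

set_option autoImplicit false
set_option linter.unusedSectionVars false
universe u

open CategoryTheory CategoryTheory.Limits MonoidalCategory CartesianMonoidalCategory AlgebraicGeometry TopologicalSpace
open scoped MonObj
open Groth.Agent Groth.Agent.Grpsch.PicGrp Groth.Agent.Grpsch.Cube Groth.Agent.Fdesc.LocGen K524.Kun K524.Index K524.Chi K524.Bc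
open K433.Hq K433.Growth

attribute [local instance] Functor.grpObjObj

namespace K506.HilbIdx

variable {k : Type u} [Field k] {X : Over (Spec (CommRingCat.of k))}

/-- `dim H^q(X, c)`. -/
noncomputable abbrev hc (c : Pic X.left) (q : ℕ) : ℕ :=
  @hq X.left k _ ⟨X.hom⟩ q (Coh.structureModule X.left) c

theorem hc_mk {L : X.left.Modules} (hL : PicF.IsInvertible L) (q : ℕ) :
    hc (X := X) (mk L hL) q = @Module.finrank k (Coh.HH X.left L q) _ _ (@Coh.moduleOver k _ X.left ⟨X.hom⟩ L q) := by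
  let _ : X.left.Over (Spec (CommRingCat.of k)) := ⟨X.hom⟩
  rw [hc, hq_unit k q hL, hh_def]

theorem hc_eq_zero {c : Pic X.left} {q : ℕ} (h : Van c q) : hc (X := X) c q = 0 := by
  obtain ⟨L, hL, rfl⟩ := exists_mk c
  rw [hc_mk]
  have := (van_mk hL q).1 h
  exact Module.finrank_zero_of_subsingleton

theorem natAbs_chi [IsProper X.hom] {c : Pic X.left} {i : ℕ} (h : HasIdx c i) :
    (chi (X := X) c).natAbs = hc (X := X) c i := by
  obtain ⟨L, hL, rfl⟩ := exists_mk c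
  rw [chi_eq hL h, hc_mk, Int.natAbs_mul, Int.natAbs_pow]
  simp

variable [GrpObj X] [IsProper X.hom] [GeometricallyIntegral X.hom]

theorem exists_idx {g : ℕ} (hg : topologicalKrullDim X.left = g) {c : Pic X.left} (h : chi (X := X) c ≠ 0) :
    ∃ i, i ≤ g ∧ HasIdx c i := by
  let K := AlgebraicClosure k
  have h1 : chi (X := bc K X) (pull (pr K X) c) ≠ 0 := by rwa [chi_bc]
  obtain ⟨i, hi, h3, -⟩ := (nd_of_chi h1).exists_idx g (by rw [dim_bc, hg])
  exact ⟨i, hi, (hasIdx_bc_iff K c i).1 h3⟩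

theorem idx_sq {c : Pic X.left} {i : ℕ} (h : HasIdx c i) {s : ℕ} (hs : 1 ≤ s) : HasIdx (c ^ (s ^ 2)) i := by
  let K := AlgebraicClosure k
  rw [← hasIdx_bc_iff K, map_pow]
  rw [← hasIdx_bc_iff K] at h
  have hn : ND (X := bc K X) (pull (pr K X) c) := nd_of_hasIdx h
  have h1 := fun j => K512.IsogIdx.van_pow_sq_iff hn hs j
  exact ⟨fun j hj => (h1 j).1 (h.1 j hj), fun h2 => h.2 ((h1 i).2 h2)⟩

/-! ### Euler characteristics -/

theorem chi_eq_chi {g : ℕ} (hg : topologicalKrullDim X.left = g) {L : X.left.Modules} (hL : PicF.IsInvertible L) :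
    chi (X := X) (mk L hL) = K450.RRChi.chi k X g (Fga.PicMon.mc L) := by
  rw [chi_mk, K450.RRChi.chi_mc k X g hg]

theorem chi_pow {g : ℕ} (hg : topologicalKrullDim X.left = g) (c : Pic X.left) (n : ℕ) :
    chi (X := X) (c ^ n) = (n : ℤ) ^ g * chi (X := X) c := by
  obtain ⟨L, hL, rfl⟩ := exists_mk c
  rw [← mk_tensorPow hL, chi_eq_chi hg, chi_eq_chi hg, Fga.PicMon.mc_tensorPow, K450.RRChi.chi_pow k X g hg L hL]

theorem exists_poly {g : ℕ} (hg : topologicalKrullDim X.left = g) (c h : Pic X.left) :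
    ∃ P : MvPolynomial (Fin 2) ℚ, ∀ a b : ℕ, (chi (X := X) (c ^ a * h ^ b) : ℚ) =
      MvPolynomial.eval ![(a : ℚ), (b : ℚ)] P := by
  obtain ⟨L, hL, rfl⟩ := exists_mk c
  obtain ⟨H, hH, rfl⟩ := exists_mk h
  let _ : X.left.Over (Spec (CommRingCat.of k)) := ⟨X.hom⟩
  have hp : IsProper (X.left ↘ (Spec (CommRingCat.of k))) := inferInstanceAs (IsProper X.hom)
  have hF : Coh.IsCoh (Coh.structureModule X.left) := CurvesC.UnitCoh.isCoh_unit _
  have hsupp : topologicalKrullDim (CohB1.support (Coh.structureModule X.left)) ≤ g :=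
    (Topology.IsInducing.subtypeVal.topologicalKrullDim_le).trans hg.le
  obtain ⟨P, -, hP'⟩ := S3230.result k X.left g hg.le ![L, H] (by
    intro i
    fin_cases i
    · exact hL
    · exact hH) (Coh.structureModule X.left) hF g hsupp
  refine ⟨P, fun a b => ?_⟩
  have h1 := hP' ![a, b]
  rw [← Fga.PicMon.chiCl_mc, Fga.PicMon.mc_multiTwist] at h1
  simp only [Fin.prod_univ_two, Matrix.cons_val_zero, Matrix.cons_val_one, Matrix.cons_val_fin_one] at h1
  rw [← mk_tensorPow hL, ← mk_tensorPow hH, mk_mul_mk, chi_eq_chi hg, Fga.PicMon.mc_tensor, Fga.PicMon.mc_tensorPow,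
    Fga.PicMon.mc_tensorPow, h1]
  congr 1
  congr 1
  funext i
  fin_cases i <;> rfl

/-- `χ(c^N h^n) = N^g Φ(n / N)`. -/
theorem chi_pow_mul {g : ℕ} (hg : topologicalKrullDim X.left = g) (c h : Pic X.left) (Φ : Polynomial ℚ)
    (hΦ : ∀ n : ℕ, Φ.eval (n : ℚ) = (chi (X := X) (c * h ^ n) : ℚ)) {N : ℕ} (hN : 1 ≤ N) (n : ℕ) :
    (chi (X := X) (c ^ N * h ^ n) : ℚ) = (N : ℚ) ^ g * Φ.eval ((n : ℚ) / N) := by
  obtain ⟨P, hP⟩ := exists_poly hg c h
  have hN' : (N : ℚ) ≠ 0 := by exact_mod_cast (by omega : N ≠ 0)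
  let Q : Polynomial ℚ := MvPolynomial.aeval ![Polynomial.C (N : ℚ), Polynomial.X] P
  have hQ : ∀ t : ℚ, Q.eval t = MvPolynomial.eval ![(N : ℚ), t] P := by
    intro t
    rw [← Polynomial.coe_aeval_eq_eval, MvPolynomial.comp_aeval_apply, MvPolynomial.aeval_eq_eval]
    congr 2
    funext i
    fin_cases i <;> simp
  have key : Q.comp (Polynomial.C (N : ℚ) * Polynomial.X) = Polynomial.C ((N : ℚ) ^ g) * Φ := by
    refine Polynomial.eq_of_infinite_eval_eq _ _ ?_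
    refine (Set.infinite_range_of_injective (f := fun m : ℕ => (m : ℚ)) Nat.cast_injective).mono ?_
    rintro _ ⟨m, rfl⟩
    change Polynomial.eval _ _ = Polynomial.eval _ _
    rw [Polynomial.eval_comp, Polynomial.eval_mul, Polynomial.eval_mul, Polynomial.eval_C, Polynomial.eval_C,
      Polynomial.eval_X, hQ, hΦ]
    have h1 := hP N (N * m)
    rw [show c ^ N * h ^ (N * m) = (c * h ^ m) ^ N by rw [mul_pow, ← pow_mul, mul_comm m N], chi_pow hg] at h1
    push_cast at h1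
    exact h1.symm
  have h2 := congrArg (Polynomial.eval ((n : ℚ) / N)) key
  rw [Polynomial.eval_comp, Polynomial.eval_mul, Polynomial.eval_mul, Polynomial.eval_C, Polynomial.eval_C,
    Polynomial.eval_X, mul_div_cancel₀ _ hN', hQ] at h2
  rw [hP, h2]

omit [GrpObj X] [IsProper X.hom] [GeometricallyIntegral X.hom] in
/-- Comparison of growth orders. -/
theorem absurd_growth {m : ℝ} (hm : 0 < m) (C g mu r : ℕ) (hr : mu < r)
    (h : ∀ s : ℕ, ∃ N : ℕ, s ≤ N ∧ 1 ≤ N ∧ m * (N : ℝ) ^ g ≤ (N : ℝ) ^ mu * (C * (phi (g + 1 - r) (2 * N) : ℝ))) :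
    False := by
  rcases Nat.lt_or_ge g r with hgr | hgr
  · obtain ⟨N, -, hN, h1⟩ := h 1
    rw [show g + 1 - r = 0 by omega, phi_zero] at h1
    have hN' : (0 : ℝ) < N := by exact_mod_cast hN
    have h2 : 0 < m * (N : ℝ) ^ g := by positivity
    simp only [Nat.cast_zero, mul_zero] at h1
    exact absurd h1 (not_le.2 h2)
  · obtain ⟨s, hs⟩ := exists_nat_gt ((C : ℝ) * 3 ^ (g - r) / m)
    obtain ⟨N, hsN, hN, h1⟩ := h s
    have hN' : (1 : ℝ) ≤ N := by exact_mod_cast hN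
    have hsN' : (s : ℝ) ≤ N := by exact_mod_cast hsN
    rw [show g + 1 - r = (g - r) + 1 by omega, phi_succ] at h1
    have h2 : (((2 * N + 1) ^ (g - r) : ℕ) : ℝ) ≤ (3 : ℝ) ^ (g - r) * (N : ℝ) ^ (g - r) := by
      rw [← mul_pow]
      push_cast
      gcongr
      linarith
    have h3 : (N : ℝ) ^ mu * (C * (((2 * N + 1) ^ (g - r) : ℕ) : ℝ)) ≤
        (C * 3 ^ (g - r)) * (N : ℝ) ^ (mu + (g - r)) := by
      rw [pow_add]
      calc (N : ℝ) ^ mu * (C * (((2 * N + 1) ^ (g - r) : ℕ) : ℝ)) ≤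
          (N : ℝ) ^ mu * (C * ((3 : ℝ) ^ (g - r) * (N : ℝ) ^ (g - r))) := by gcongr
        _ = _ := by ring
    have h4 : (N : ℝ) ^ (mu + (g - r)) * N ≤ (N : ℝ) ^ g := by
      rw [← pow_succ]
      exact pow_le_pow_right₀ hN' (by omega)
    have h5 : (0 : ℝ) < (N : ℝ) ^ (mu + (g - r)) := by positivity
    have h6 : m * N ≤ C * 3 ^ (g - r) := by
      by_contra hcon
      rw [not_le] at hcon
      have h7 : (C * 3 ^ (g - r)) * (N : ℝ) ^ (mu + (g - r)) < m * N * (N : ℝ) ^ (mu + (g - r)) := by gcongr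
      have h8 : m * N * (N : ℝ) ^ (mu + (g - r)) ≤ m * (N : ℝ) ^ g := by
        calc m * N * (N : ℝ) ^ (mu + (g - r)) = m * ((N : ℝ) ^ (mu + (g - r)) * N) := by ring
          _ ≤ m * (N : ℝ) ^ g := by gcongr
      linarith
    rw [div_lt_iff₀ hm] at hs
    nlinarith

/-- The absolute value of the Euler characteristic in terms of the real polynomial. -/
theorem abs_chi {g : ℕ} (hg : topologicalKrullDim X.left = g) (c h : Pic X.left) (Φ : Polynomial ℚ)
    (hΦ : ∀ n : ℕ, Φ.eval (n : ℚ) = (chi (X := X) (c * h ^ n) : ℚ)) {N : ℕ} (hN : 1 ≤ N) (n : ℕ) :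
    ((chi (X := X) (c ^ N * h ^ n)).natAbs : ℝ) =
      (N : ℝ) ^ g * |(Φ.map (algebraMap ℚ ℝ)).eval ((n : ℝ) / N)| := by
  have h1 := chi_pow_mul hg c h Φ hΦ hN n
  have h2 : ((chi (X := X) (c ^ N * h ^ n) : ℤ) : ℝ) = (N : ℝ) ^ g * (Φ.map (algebraMap ℚ ℝ)).eval ((n : ℝ) / N) := by
    have h3 := congrArg (algebraMap ℚ ℝ) h1
    rw [map_mul, map_pow, map_intCast, map_natCast, ← Polynomial.eval₂_at_apply, ← Polynomial.eval_map, map_div₀,
      map_natCast, map_natCast] at h3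
    exact h3
  rw [Nat.cast_natAbs, Int.cast_abs, h2, abs_mul, abs_of_nonneg (by positivity)]

/-- Different indices force a root of the Hilbert polynomial. -/
theorem exists_root {g : ℕ} (hg : topologicalKrullDim X.left = g) {H : X.left.Modules} (hH : CohB1.IsAmple H)
    (c : Pic X.left) {i i' : ℕ} (hi : HasIdx c i) (hi' : HasIdx (c * mk H hH.1) i') (hne : i ≠ i')
    (Φ : Polynomial ℚ) (hΦ : ∀ n : ℕ, Φ.eval (n : ℚ) = (chi (X := X) (c * mk H hH.1 ^ n) : ℚ)) :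
    ∃ t : ℝ, 0 ≤ t ∧ t ≤ 1 ∧ (Φ.map (algebraMap ℚ ℝ)).eval t = 0 := by
  by_contra hno
  push Not at hno
  obtain ⟨t0, ht0, hmin⟩ := isCompact_Icc.exists_isMinOn (Set.nonempty_Icc.2 (zero_le_one (α := ℝ)))
    (f := fun t => |(Φ.map (algebraMap ℚ ℝ)).eval t|)
    ((continuous_abs.comp (Polynomial.continuous _)).continuousOn)
  have hm := abs_pos.2 (hno t0 ht0.1 ht0.2)
  set m := |(Φ.map (algebraMap ℚ ℝ)).eval t0| with hmdef
  have hmle : ∀ t : ℝ, 0 ≤ t → t ≤ 1 → m ≤ |(Φ.map (algebraMap ℚ ℝ)).eval t| := fun t h0 h1 => hmin ⟨h0, h1⟩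
  let _ : X.left.Over (Spec (CommRingCat.of k)) := ⟨X.hom⟩
  have hp : IsProper (X.left ↘ (Spec (CommRingCat.of k))) := inferInstanceAs (IsProper X.hom)
  obtain ⟨a, C, ha, hstep⟩ := Jump.exists_step k hH hg.le c (mk H hH.1) g
  refine absurd_growth hm C g 0 1 Nat.zero_lt_one fun s' => ?_
  obtain ⟨s, hs, hs'⟩ : ∃ s, 0 < s ∧ s' ≤ s := ⟨s' + 1, Nat.succ_pos _, Nat.le_succ _⟩
  obtain ⟨N, hNdef⟩ : ∃ N, N = (a * s) ^ 2 := ⟨_, rfl⟩
  have hN : 1 ≤ N := by rw [hNdef]; exact Nat.one_le_pow _ _ (Nat.mul_pos ha hs)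
  have hval : ∀ n : ℕ, n ≤ N → m * (N : ℝ) ^ g ≤ ((chi (X := X) (c ^ N * mk H hH.1 ^ n)).natAbs : ℝ) := by
    intro n hn
    have hN' : (0 : ℝ) < N := by exact_mod_cast hN
    rw [abs_chi hg c _ Φ hΦ hN n, mul_comm]
    have h1 := hmle ((n : ℝ) / N) (by positivity) (by
      rw [div_le_one hN']
      exact_mod_cast hn)
    gcongr
  have hne0 : ∀ n : ℕ, n ≤ N → chi (X := X) (c ^ N * mk H hH.1 ^ n) ≠ 0 := by
    intro n hn h0
    have h1 := hval n hn
    rw [h0] at h1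
    have hN' : (0 : ℝ) < N := by exact_mod_cast hN
    have h2 : 0 < m * (N : ℝ) ^ g := by positivity
    simp only [Int.natAbs_zero, Nat.cast_zero] at h1
    linarith
  -- a step where the index changes
  have hJ : N = a * (a * s ^ 2) := by rw [hNdef]; ring
  obtain ⟨j, q, hj, hq1, hq2⟩ : ∃ j q : ℕ, j < a * s ^ 2 ∧ HasIdx (c ^ N * mk H hH.1 ^ (a * j)) q ∧
      ¬ HasIdx (c ^ N * mk H hH.1 ^ (a * (j + 1))) q := by
    by_contra hall
    push Not at hall
    have h1 : ∀ j, j ≤ a * s ^ 2 → HasIdx (c ^ N * mk H hH.1 ^ (a * j)) i := by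
      intro j
      induction j with
      | zero =>
        intro _
        rw [mul_zero, pow_zero, mul_one, hNdef]
        exact idx_sq hi (Nat.mul_pos ha hs)
      | succ j ih => exact fun hj => hall j i (by omega) (ih (by omega))
    have h2 := h1 _ le_rfl
    rw [← hJ, ← mul_pow, hNdef] at h2
    exact hne (h2.unique (idx_sq hi' (Nat.mul_pos ha hs)))
  have hjN : a * (j + 1) ≤ N := by
    rw [hJ]
    exact Nat.mul_le_mul_left a hj
  have hjN' : a * j ≤ N := (Nat.mul_le_mul_left a (Nat.le_succ j)).trans hjN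
  obtain ⟨q', hq'g, hq'⟩ := exists_idx hg (hne0 _ hjN)
  have hqg : q ≤ g := by
    obtain ⟨q'', hq''g, hq''⟩ := exists_idx hg (hne0 _ hjN')
    rw [hq1.unique hq'']
    exact hq''g
  have hqq : q ≠ q' := by
    rintro rfl
    exact hq2 hq'
  have hzero : hc (X := X) (mk H hH.1 ^ a * (c ^ N * mk H hH.1 ^ (a * j))) q = 0 := by
    have e : mk H hH.1 ^ a * (c ^ N * mk H hH.1 ^ (a * j)) = c ^ N * mk H hH.1 ^ (a * (j + 1)) := by
      rw [mul_add, pow_add, mul_one]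
      ac_rfl
    rw [e]
    exact hc_eq_zero (hq'.1 q hqq)
  have h1 := hstep N (a * j) q hqg hzero
  refine ⟨N, ?_, hN, ?_⟩
  · rw [hNdef]
    nlinarith [Nat.mul_pos ha hs]
  · refine (hval _ hjN').trans ?_
    rw [natAbs_chi hq1, pow_zero, one_mul, Nat.add_sub_cancel]
    have h2 : phi g (N + a * j) ≤ phi g (2 * N) := phi_mono_right g (by omega)
    exact_mod_cast h1.trans (Nat.mul_le_mul_left C h2)

/-- The index of `c^N h^n` is constant along intervals without roots. -/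
theorem idx_const {g : ℕ} (hg : topologicalKrullDim X.left = g) {H : X.left.Modules} (hH : CohB1.IsAmple H)
    (c : Pic X.left) (Φ : Polynomial ℚ)
    (hΦ : ∀ n : ℕ, Φ.eval (n : ℚ) = (chi (X := X) (c * mk H hH.1 ^ n) : ℚ)) {N n₁ n₂ : ℕ} (hN : 1 ≤ N) (h12 : n₁ ≤ n₂)
    (hno : ∀ t : ℝ, (n₁ : ℝ) / N ≤ t → t ≤ (n₂ : ℝ) / N → (Φ.map (algebraMap ℚ ℝ)).eval t ≠ 0) {j j' : ℕ}
    (hj : HasIdx (c ^ N * mk H hH.1 ^ n₁) j) (hj' : HasIdx (c ^ N * mk H hH.1 ^ n₂) j') : j = j' := by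
  by_contra hne
  rcases h12.eq_or_lt with rfl | hlt
  · exact hne (hj.unique hj')
  obtain ⟨d, rfl⟩ := Nat.exists_eq_add_of_lt hlt
  have hH' : CohB1.IsAmple (CohB1.tensorPow H (d + 1)) :=
    (K30.AmpleLoc.isAmple_iff_tensorPow hH.1 (Nat.succ_pos d)).1 hH
  have hmk : mk (CohB1.tensorPow H (d + 1)) hH'.1 = mk H hH.1 ^ (d + 1) := mk_tensorPow hH.1 (d + 1)
  have h1 : HasIdx (c ^ N * mk H hH.1 ^ n₁ * mk _ hH'.1) j' := by
    rw [hmk, mul_assoc, ← pow_add, ← add_assoc]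
    exact hj'
  let Φ' : Polynomial ℚ := Polynomial.C ((N : ℚ) ^ g) *
    Φ.comp (Polynomial.C (((d + 1 : ℕ) : ℚ) / N) * Polynomial.X + Polynomial.C ((n₁ : ℚ) / N))
  obtain ⟨t, ht0, ht1, ht⟩ := exists_root hg hH' (c ^ N * mk H hH.1 ^ n₁) hj h1 hne Φ' (fun n => by
    have h2 := chi_pow_mul hg c (mk H hH.1) Φ hΦ hN (n₁ + (d + 1) * n)
    rw [hmk, mul_assoc, ← pow_mul, ← pow_add, h2]
    simp only [Φ', Polynomial.eval_mul, Polynomial.eval_C, Polynomial.eval_comp, Polynomial.eval_add,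
      Polynomial.eval_X]
    congr 2
    push_cast
    ring)
  have hN' : (0 : ℝ) < N := by exact_mod_cast hN
  refine hno (((d + 1 : ℕ) : ℝ) / N * t + (n₁ : ℝ) / N) ?_ ?_ ?_
  · have : 0 ≤ ((d + 1 : ℕ) : ℝ) / N * t := by positivity
    linarith
  · have h3 : ((d + 1 : ℕ) : ℝ) / N * t ≤ ((d + 1 : ℕ) : ℝ) / N * 1 := by gcongr
    have h4 : ((n₁ + d + 1 : ℕ) : ℝ) / N = ((d + 1 : ℕ) : ℝ) / N * 1 + (n₁ : ℝ) / N := by
      push_cast
      ring
    rw [h4]
    linarith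
  · simp only [Φ', Polynomial.map_mul, Polynomial.map_comp, Polynomial.map_add, Polynomial.map_C, Polynomial.map_X,
      Polynomial.eval_mul, Polynomial.eval_C, Polynomial.eval_comp, Polynomial.eval_add, Polynomial.eval_X,
      mul_eq_zero] at ht
    rcases ht with ht | ht
    · exfalso
      have h5 : (algebraMap ℚ ℝ) ((N : ℚ) ^ g) ≠ 0 := by
        rw [map_pow, map_natCast]
        positivity
      exact h5 ht
    · rw [map_div₀, map_div₀, map_natCast, map_natCast, map_natCast] at ht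
      exact ht

/-- The index drops at most by the multiplicity of the only root. -/
theorem jump_le {g : ℕ} (hg : topologicalKrullDim X.left = g) {H : X.left.Modules} (hH : CohB1.IsAmple H)
    (c : Pic X.left) {i i' : ℕ} (hi : HasIdx c i) (hi' : HasIdx (c * mk H hH.1) i')
    (Φ : Polynomial ℚ) (hΦ : ∀ n : ℕ, Φ.eval (n : ℚ) = (chi (X := X) (c * mk H hH.1 ^ n) : ℚ))
    (τ : ℝ) (hτ0 : 0 ≤ τ) (hτ1 : τ < 1) (hτ : (Φ.map (algebraMap ℚ ℝ)).eval τ = 0)
    (huniq : ∀ t : ℝ, 0 ≤ t → t ≤ 1 → (Φ.map (algebraMap ℚ ℝ)).eval t = 0 → t = τ) :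
    i ≤ i' + (Φ.map (algebraMap ℚ ℝ)).rootMultiplicity τ := by
  by_contra hcon
  rw [not_le] at hcon
  obtain ⟨r, rfl⟩ : ∃ r, i = i' + r := ⟨i - i', by omega⟩
  set mu := (Φ.map (algebraMap ℚ ℝ)).rootMultiplicity τ with hmu
  have hr : mu < r := by omega
  -- `Φ ≠ 0`, `τ ≠ 0`
  have h00 : (Φ.map (algebraMap ℚ ℝ)).eval 0 ≠ 0 := by
    have h1 := hΦ 0
    rw [pow_zero, mul_one, Nat.cast_zero] at h1
    rw [Polynomial.eval_zero_map, h1]
    simp only [map_intCast, ne_eq, Int.cast_eq_zero]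
    exact chi_ne_zero hi
  have hΦ0 : Φ.map (algebraMap ℚ ℝ) ≠ 0 := by
    intro h
    rw [h, Polynomial.eval_zero] at h00
    exact h00 rfl
  have hτpos : 0 < τ := lt_of_le_of_ne hτ0 (fun h => h00 (h ▸ hτ))
  obtain ⟨Ψ, hΨ, hΨτ⟩ := Polynomial.exists_eq_pow_rootMultiplicity_mul_and_not_dvd _ hΦ0 τ
  rw [← hmu] at hΨ
  have hΨ0 : ∀ t : ℝ, 0 ≤ t → t ≤ 1 → Ψ.eval t ≠ 0 := by
    intro t h0 h1 h2
    have h3 : (Φ.map (algebraMap ℚ ℝ)).eval t = 0 := by rw [hΨ, Polynomial.eval_mul, h2, mul_zero]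
    obtain rfl := huniq t h0 h1 h3
    exact hΨτ (Polynomial.dvd_iff_isRoot.2 h2)
  obtain ⟨t0, ht0, hmin⟩ := isCompact_Icc.exists_isMinOn (Set.nonempty_Icc.2 (zero_le_one (α := ℝ)))
    (f := fun t => |Ψ.eval t|) ((continuous_abs.comp (Polynomial.continuous _)).continuousOn)
  have hm := abs_pos.2 (hΨ0 t0 ht0.1 ht0.2)
  set m := |Ψ.eval t0| with hmdef
  have hmle : ∀ t : ℝ, 0 ≤ t → t ≤ 1 → m ≤ |Ψ.eval t| := fun t h0 h1 => hmin ⟨h0, h1⟩
  let _ : X.left.Over (Spec (CommRingCat.of k)) := ⟨X.hom⟩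
  have hp : IsProper (X.left ↘ (Spec (CommRingCat.of k))) := inferInstanceAs (IsProper X.hom)
  have hH3 : CohB1.IsAmple (CohB1.tensorPow H 3) := (K30.AmpleLoc.isAmple_iff_tensorPow hH.1 (by norm_num)).1 hH
  have hmk3 : mk (CohB1.tensorPow H 3) hH3.1 = mk H hH.1 ^ 3 := mk_tensorPow hH.1 3
  obtain ⟨A, C, hb⟩ := Jump.exists_bound k hH3 hg.le c (mk H hH.1) r i'
  refine absurd_growth hm C g mu r hr fun s => ?_
  -- a large square
  obtain ⟨s', hs'⟩ := exists_nat_gt (max (s : ℝ) (max (2 / τ) ((3 * A + 1) / (1 - τ))))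
  rw [max_lt_iff, max_lt_iff] at hs'
  obtain ⟨hs1, hs2, hs3⟩ := hs'
  have h1τ : 0 < 1 - τ := by linarith
  rw [div_lt_iff₀ hτpos] at hs2
  rw [div_lt_iff₀ h1τ] at hs3
  have hs'1 : 1 ≤ s' := by
    rcases Nat.eq_zero_or_pos s' with rfl | h
    · exfalso
      simp only [Nat.cast_zero] at hs1
      have : (0 : ℝ) ≤ s := Nat.cast_nonneg s
      linarith
    · exact h
  obtain ⟨N, hNdef⟩ : ∃ N, N = s' ^ 2 := ⟨_, rfl⟩
  have hN : 1 ≤ N := by rw [hNdef]; exact Nat.one_le_pow _ _ hs'1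
  have hN' : (0 : ℝ) < N := by exact_mod_cast hN
  have hNs : (s' : ℝ) ≤ N := by
    rw [hNdef]
    have : s' ≤ s' ^ 2 := by nlinarith
    exact_mod_cast this
  have hN2 : 2 < N * τ := by nlinarith
  have hN3 : 3 * A + 1 < N * (1 - τ) := by nlinarith
  obtain ⟨n, hn⟩ : ∃ n, ⌊(N : ℝ) * τ⌋₊ = n + 1 := by
    have : 2 ≤ ⌊(N : ℝ) * τ⌋₊ := Nat.le_floor (by push_cast; linarith)
    exact ⟨⌊(N : ℝ) * τ⌋₊ - 1, by omega⟩
  have hn1 : ((n : ℝ) + 1) ≤ N * τ := by
    have h1 := Nat.floor_le (a := (N : ℝ) * τ) (by positivity)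
    rw [hn] at h1
    push_cast at h1
    exact h1
  have hn2 : (N : ℝ) * τ < n + 2 := by
    have h1 := Nat.lt_floor_add_one ((N : ℝ) * τ)
    rw [hn] at h1
    push_cast at h1
    linarith
  have hnN : n ≤ N := by
    have h1 : (n : ℝ) ≤ N := by nlinarith
    exact_mod_cast h1
  have hval : ((chi (X := X) (c ^ N * mk H hH.1 ^ n)).natAbs : ℝ) * (N : ℝ) ^ mu ≥ m * (N : ℝ) ^ g := by
    have h1 : m ≤ |Ψ.eval ((n : ℝ) / N)| := hmle _ (by positivity) (by
      rw [div_le_one hN']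
      exact_mod_cast hnN)
    have h2 : (1 : ℝ) / N ≤ |(n : ℝ) / N - τ| := by
      rw [abs_sub_comm]
      refine le_trans ?_ (le_abs_self _)
      rw [div_le_iff₀ hN', sub_mul, div_mul_cancel₀ _ hN'.ne']
      linarith
    rw [abs_chi hg c _ Φ hΦ hN n, hΨ, Polynomial.eval_mul, Polynomial.eval_pow, Polynomial.eval_sub, Polynomial.eval_X,
      Polynomial.eval_C, abs_mul, abs_pow]
    have h3 : ((1 : ℝ) / N) ^ mu ≤ |(n : ℝ) / N - τ| ^ mu := by gcongr
    have h4 : ((1 : ℝ) / N) ^ mu * (N : ℝ) ^ mu = 1 := by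
      rw [← mul_pow, one_div, inv_mul_cancel₀ hN'.ne', one_pow]
    calc m * (N : ℝ) ^ g = (N : ℝ) ^ g * m * (((1 : ℝ) / N) ^ mu * (N : ℝ) ^ mu) := by
          rw [h4, mul_one, mul_comm]
      _ = (N : ℝ) ^ g * ((((1 : ℝ) / N) ^ mu) * m) * (N : ℝ) ^ mu := by
          rw [mul_assoc ((N : ℝ) ^ g) m, mul_assoc ((N : ℝ) ^ g)]
          congr 1
          rw [mul_comm m, mul_assoc, mul_assoc, mul_comm m]
      _ ≤ (N : ℝ) ^ g * (|(n : ℝ) / N - τ| ^ mu * |Ψ.eval ((n : ℝ) / N)|) * (N : ℝ) ^ mu := by gcongr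
  have hne0 : ∀ n' : ℕ, n' ≤ N → ((n' : ℝ) / N ≠ τ) → chi (X := X) (c ^ N * mk H hH.1 ^ n') ≠ 0 := by
    intro n' hn' hne h0
    have h1 := abs_chi hg c _ Φ hΦ hN n'
    rw [h0, Int.natAbs_zero, Nat.cast_zero] at h1
    have h2 : (N : ℝ) ^ g ≠ 0 := by positivity
    have h3 : (Φ.map (algebraMap ℚ ℝ)).eval ((n' : ℝ) / N) = 0 := by
      rcases mul_eq_zero.1 h1.symm with h | h
      · exact absurd h h2
      · exact abs_eq_zero.1 h
    exact hne (huniq _ (by positivity) (by rw [div_le_one hN']; exact_mod_cast hn') h3)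
  -- the index at `n`
  have hidx : HasIdx (c ^ N * mk H hH.1 ^ n) (i' + r) := by
    have h1 : (n : ℝ) / N < τ := by
      rw [div_lt_iff₀ hN']
      linarith
    obtain ⟨j, -, hj⟩ := exists_idx hg (hne0 n hnN h1.ne)
    have h2 : HasIdx (c ^ N * mk H hH.1 ^ 0) (i' + r) := by
      rw [pow_zero, mul_one, hNdef]
      exact idx_sq hi hs'1
    rw [idx_const hg hH c Φ hΦ hN (Nat.zero_le n) (fun t h3 h4 h5 => by
      rw [Nat.cast_zero, zero_div] at h3
      have := huniq t h3 (by linarith) h5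
      linarith) h2 hj]
    exact hj
  have hidx' : ∀ n' : ℕ, n' ≤ N → (N : ℝ) * τ < n' → HasIdx (c ^ N * mk H hH.1 ^ n') i' := by
    intro n' hn' h
    have h1 : τ < (n' : ℝ) / N := by
      rw [lt_div_iff₀ hN']
      linarith
    obtain ⟨j, -, hj⟩ := exists_idx hg (hne0 n' hn' h1.ne')
    have h2 : HasIdx (c ^ N * mk H hH.1 ^ N) i' := by
      rw [← mul_pow, hNdef]
      exact idx_sq hi' hs'1
    rw [← idx_const hg hH c Φ hΦ hN hn' (fun t h3 h4 h5 => by
      rw [div_self hN'.ne'] at h4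
      have := huniq t (by linarith) h4 h5
      linarith) hj h2]
    exact hj
  have h1 := hb N n (fun q t hq' ht htA => by
    have e : mk (CohB1.tensorPow H 3) hH3.1 ^ t * (c ^ N * mk H hH.1 ^ n) = c ^ N * mk H hH.1 ^ (n + 3 * t) := by
      rw [hmk3, ← pow_mul, pow_add]
      ac_rfl
    rw [e]
    refine hc_eq_zero (X := X) ((hidx' (n + 3 * t) ?_ ?_).1 q (by omega))
    · have h2 : ((n + 3 * t : ℕ) : ℝ) ≤ N := by
        have h3 : (t : ℝ) ≤ A := by exact_mod_cast htA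
        push_cast
        nlinarith
      exact_mod_cast h2
    · have h3 : (1 : ℝ) ≤ t := by exact_mod_cast ht
      push_cast
      linarith)
  refine ⟨N, ?_, hN, ?_⟩
  · have h2 : (s : ℝ) ≤ N := by linarith
    exact_mod_cast h2
  · refine hval.le.trans ?_
    rw [natAbs_chi hidx, mul_comm]
    have h2 : phi (g + 1 - r) (N + n) ≤ phi (g + 1 - r) (2 * N) := phi_mono_right _ (by omega)
    have h3 : (hc (X := X) (c ^ N * mk H hH.1 ^ n) (i' + r) : ℝ) ≤ C * (phi (g + 1 - r) (2 * N) : ℝ) := by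
      exact_mod_cast h1.trans (Nat.mul_le_mul_left C h2)
    gcongr

/-! ### Module forms -/

theorem hasIdx_of_modules {L : X.left.Modules} (hL : PicF.IsInvertible L) {i : ℕ}
    (hvan : ∀ j : ℕ, j ≠ i → Subsingleton (Coh.HH X.left L j)) (hne : Nontrivial (Coh.HH X.left L i)) :
    HasIdx (mk L hL) i := (hasIdx_mk hL i).2 ⟨hvan, hne⟩

theorem hasIdx_mul_of_modules {L H M : X.left.Modules} (hL : PicF.IsInvertible L) (hH : PicF.IsInvertible H)
    (hM : Nonempty (M ≅ CohB1.tensorMod L H)) {i : ℕ}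
    (hvan : ∀ j : ℕ, j ≠ i → Subsingleton (Coh.HH X.left M j)) (hne : Nontrivial (Coh.HH X.left M i)) :
    HasIdx (mk L hL * mk H hH) i := by
  obtain ⟨e⟩ := hM
  have hMi : PicF.IsInvertible M := K518.Dict.isInvertible_of_iso e.symm (isInvertible_tensorMod hL hH)
  rw [mk_mul_mk hL hH, (mk_eq_iff _ hMi).2 ⟨e.symm⟩]
  exact hasIdx_of_modules hMi hvan hne

theorem eval_of_modules {L H : X.left.Modules} (hL : PicF.IsInvertible L) (hH : PicF.IsInvertible H)
    (Φ : Polynomial ℚ) (hΦ : ∀ n : ℕ, Φ.eval (n : ℚ) =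
      (@Curv2.euler k _ X.left ⟨X.hom⟩ (CohB1.tensorMod L (CohB1.tensorPow H n)) : ℚ)) (n : ℕ) :
    Φ.eval (n : ℚ) = (chi (X := X) (mk L hL * mk H hH ^ n) : ℚ) := by
  rw [hΦ, ← mk_tensorPow hH n, mk_mul_mk hL (isInvertible_tensorPow hH n), chi_mk]

end K506.HilbIdx
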