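import Groth.Agent.AbVar.K506.Transl
import Groth.Agent.AbVar.K518.Phi
import Groth.Agent.AbVar.K524.Degen
import Groth.Agent.AbVar.K520.Prod
import Groth.Agent.AbVar.K512.IsogIdx
import Groth.Agent.Sga3.H780.Pointed
import Groth.Agent.Sga3C.SchemImage
import Groth.Agent.FBase.K106.Dim
import Groth.Agent.S11999

/-!
# Splitting off the degenerate part of a class on an abelian variety

`k` algebraically closed.
* `box_of_inv` : a class on `B × C` invariant under `B` is `p ⊠ m` with `p` translation invariant;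
* `exists_dec` : for every class `c` on an abelian variety `X` there is an isogeny `f : B × C ⟶ X` with
  `f^*c = p ⊠ m`, `p` translation invariant and `m` nondegenerate.
-/

set_option autoImplicit false
universe u

open CategoryTheory CategoryTheory.Limits MonoidalCategory CartesianMonoidalCategory AlgebraicGeometry TopologicalSpace
open scoped MonObj
open Groth.Agent Groth.Agent.Grpsch.PicGrp Groth.Agent.Grpsch.Cube K524.Index
open K506.Transl (tr phi Inv)

namespace K506.BoxDec

variable {k : Type u} [Field k]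

section box

variable {B C : Over (Spec (CommRingCat.of k))} [GrpObj B] [GrpObj C]

omit [GrpObj B] [GrpObj C] in
theorem pl_box {T : Over (Spec (CommRingCat.of k))} (s : T ⟶ B ⊗ C) (p : Pic B.left) (m : Pic C.left) :
    pl s (pl (fst B C) p * pl (snd B C) m) = pl (s ≫ fst B C) p * pl (s ≫ snd B C) m := by
  rw [map_mul, pl_comp, pl_comp]

theorem lift_mul_lift {T : Over (Spec (CommRingCat.of k))} (a a' : T ⟶ B) (b b' : T ⟶ C) :
    (lift a b : T ⟶ B ⊗ C) * lift a' b' = lift (a * a') (b * b') := by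
  apply CartesianMonoidalCategory.hom_ext
  · rw [MonObj.mul_comp, lift_fst, lift_fst, lift_fst]
  · rw [MonObj.mul_comp, lift_snd, lift_snd, lift_snd]

theorem one_eq_lift {T : Over (Spec (CommRingCat.of k))} : (1 : T ⟶ B ⊗ C) = lift 1 1 := by
  apply CartesianMonoidalCategory.hom_ext
  · rw [MonObj.one_comp, lift_fst]
  · rw [MonObj.one_comp, lift_snd]

omit [GrpObj B] [GrpObj C] in
theorem toUnit_lift {T : Over (Spec (CommRingCat.of k))} (b : 𝟙_ (Over (Spec (CommRingCat.of k))) ⟶ B)
    (c : 𝟙_ (Over (Spec (CommRingCat.of k))) ⟶ C) :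
    toUnit T ≫ lift b c = lift (toUnit T ≫ b) (toUnit T ≫ c) := by
  rw [comp_lift]

theorem inC_tr (w : 𝟙_ (Over (Spec (CommRingCat.of k))) ⟶ B) :
    (lift 1 (𝟙 C) : C ⟶ B ⊗ C) ≫ tr (lift w 1) = lift (toUnit C ≫ w) (𝟙 C) := by
  rw [K506.Transl.comp_tr, toUnit_lift, lift_mul_lift, MonObj.comp_one, mul_one, one_mul]

theorem inB_tr (w : 𝟙_ (Over (Spec (CommRingCat.of k))) ⟶ B) :
    (lift (𝟙 B) 1 : B ⟶ B ⊗ C) ≫ tr (lift w 1) = tr w ≫ lift (𝟙 B) 1 := by
  rw [K506.Transl.comp_tr, toUnit_lift, lift_mul_lift, MonObj.comp_one, mul_one, comp_lift, Category.comp_id,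
    MonObj.comp_one]

variable [IsProper B.hom] [GeometricallyIntegral B.hom] [IsProper C.hom] [GeometricallyIntegral C.hom] [IsAlgClosed k]

/-- A class on `B × C` invariant under `B` is a box product. -/
theorem box_of_inv (c : Pic (B ⊗ C).left)
    (hc : ∀ b : 𝟙_ (Over (Spec (CommRingCat.of k))) ⟶ B, phi c (lift b 1) = 1) :
    Inv (pl (lift (𝟙 B) 1) c) ∧
      c = pl (fst B C) (pl (lift (𝟙 B) 1) c) * pl (snd B C) (pl (lift 1 (𝟙 C)) c) := by
  have hc' : ∀ b : 𝟙_ (Over (Spec (CommRingCat.of k))) ⟶ B, pl (tr (lift b 1)) c = c := fun b => by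
    have := hc b
    rwa [phi, mul_inv_eq_one] at this
  refine ⟨fun b => ?_, ?_⟩
  · rw [← pl_comp, ← inB_tr, pl_comp, hc']
  · rw [← mul_inv_eq_one]
    apply K518.Phi.seesaw
    · intro w
      have e1 : pl (lift (toUnit C ≫ w) (𝟙 C)) c = pl (lift 1 (𝟙 C)) c := by
        rw [← inC_tr, pl_comp, hc']
      rw [map_mul, map_inv, pl_box, lift_fst, lift_snd, e1, K518.Phi.pl_const, K518.Phi.pl_id,
        one_mul, mul_inv_cancel]
    · rw [map_mul, map_inv, pl_box, lift_fst, lift_snd, pl_one, K518.Phi.pl_id, mul_one,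
        mul_inv_cancel]

end box

variable [IsAlgClosed k]

/-- Decompositions of a class. -/
def Dec (X : Over (Spec (CommRingCat.of k))) (c : Pic X.left) [GrpObj X] : Prop :=
  ∃ (B C : Over (Spec (CommRingCat.of k))) (_ : GrpObj B) (_ : GrpObj C) (f : B ⊗ C ⟶ X) (p : Pic B.left)
    (m : Pic C.left), IsProper B.hom ∧ GeometricallyIntegral B.hom ∧ IsProper C.hom ∧ GeometricallyIntegral C.hom ∧
    IsMonHom f ∧ IsFinite f.left ∧ Surjective f.left ∧ pl f c = pl (fst B C) p * pl (snd B C) m ∧ Inv p ∧ ND m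


variable {X : Over (Spec (CommRingCat.of k))} [GrpObj X] [IsProper X.hom] [GeometricallyIntegral X.hom]

omit [IsAlgClosed k] in
theorem exists_dim (X : Over (Spec (CommRingCat.of k))) [GrpObj X] [LocallyOfFiniteType X.hom] :
    ∃ d : ℕ, topologicalKrullDim X.left = d := K512.IsogIdx.exists_dim X

omit [IsAlgClosed k] in
theorem Dec.of_nd {c : Pic X.left} (hc : ND c) : Dec X c := by
  have h1 : IsIso (snd (𝟙_ (Over (Spec (CommRingCat.of k)))) X) := by
    rw [← leftUnitor_hom]
    infer_instance
  have h2 : IsIso (snd (𝟙_ (Over (Spec (CommRingCat.of k)))) X).left := Grpsch.MulFin.isIso_left _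
  refine ⟨𝟙_ _, X, inferInstance, inferInstance, snd _ _, 1, c, inferInstanceAs (IsProper (𝟙 _)),
    K520.Prod.geometricallyIntegral_unit, inferInstance, inferInstance, inferInstance, inferInstance, inferInstance, ?_,
    K506.Transl.Inv.one, hc⟩
  rw [map_one, one_mul]

omit [IsAlgClosed k] in
theorem isFinite_whiskerLeft {Y Z : Over (Spec (CommRingCat.of k))} (f : Y ⟶ Z) (B : Over (Spec (CommRingCat.of k)))
    [IsFinite f.left] : IsFinite (B ◁ f).left :=
  MorphismProperty.of_isPullback (P := @IsFinite) (Sga3C.SchemImage.isPullback_whiskerLeft_left f B).flip ‹_›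

omit [IsAlgClosed k] in
theorem surjective_whiskerLeft {Y Z : Over (Spec (CommRingCat.of k))} (f : Y ⟶ Z) (B : Over (Spec (CommRingCat.of k)))
    [Surjective f.left] : Surjective (B ◁ f).left :=
  MorphismProperty.of_isPullback (P := @Surjective) (Sga3C.SchemImage.isPullback_whiskerLeft_left f B).flip ‹_›

omit [IsAlgClosed k] in
theorem inv_pl {A A' : Over (Spec (CommRingCat.of k))} [GrpObj A] [GrpObj A'] (f : A ⟶ A') [IsMonHom f]
    {c : Pic A'.left} (hc : Inv c) : Inv (pl f c) :=
  K518.Phi.mem_Inv_iff.1 (K518.Phi.pl_mem_Inv f (K518.Phi.mem_Inv_iff.2 hc))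

omit [IsAlgClosed k] [IsProper X.hom] [GeometricallyIntegral X.hom] in
/-- Composition of decompositions. -/
theorem Dec.of_isog {B C : Over (Spec (CommRingCat.of k))} [GrpObj B] [GrpObj C] [IsProper B.hom]
    [GeometricallyIntegral B.hom] [IsProper C.hom] [GeometricallyIntegral C.hom] (f : B ⊗ C ⟶ X) [IsMonHom f]
    [IsFinite f.left] [Surjective f.left] {c : Pic X.left} {p : Pic B.left} {m : Pic C.left}
    (h : pl f c = pl (fst B C) p * pl (snd B C) m) (hp : Inv p) (hm : Dec C m) : Dec X c := by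
  obtain ⟨B', C', _, _, f', p', m', i1, i2, i3, i4, i5, i6, i7, h', hp', hm'⟩ := hm
  have j1 : IsProper (B ⊗ B').hom := K520.Prod.isProper_tensor B B'
  have j2 : GeometricallyIntegral (B ⊗ B').hom := K520.Prod.geometricallyIntegral_tensor B B'
  have j3 : IsProper ((B ⊗ B') ⊗ C').hom := K520.Prod.isProper_tensor _ _
  have j4 : GeometricallyIntegral ((B ⊗ B') ⊗ C').hom := K520.Prod.geometricallyIntegral_tensor _ _
  have k1 : IsFinite (B ◁ f').left := isFinite_whiskerLeft f' B
  have k2 : Surjective (B ◁ f').left := surjective_whiskerLeft f' B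
  have k3 : IsIso (α_ B B' C').hom.left := Grpsch.MulFin.isIso_left _
  let F : (B ⊗ B') ⊗ C' ⟶ X := (α_ B B' C').hom ≫ (B ◁ f') ≫ f
  have hF : IsMonHom F := inferInstanceAs (IsMonHom ((α_ B B' C').hom ≫ (B ◁ f') ≫ f))
  refine ⟨B ⊗ B', C', inferInstance, inferInstance, F, pl (fst B B') p * pl (snd B B') p', m', j1, j2, i3, i4, hF, ?_, ?_,
    ?_, ?_, hm'⟩
  · change IsFinite ((α_ B B' C').hom ≫ (B ◁ f') ≫ f).left
    rw [Over.comp_left, Over.comp_left]
    infer_instance
  · change Surjective ((α_ B B' C').hom ≫ (B ◁ f') ≫ f).left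
    rw [Over.comp_left, Over.comp_left]
    infer_instance
  · change pl ((α_ B B' C').hom ≫ (B ◁ f') ≫ f) c = _
    rw [pl_comp, pl_comp, h, pl_box, whiskerLeft_fst, whiskerLeft_snd, pl_comp _ f', h', pl_box, map_mul, map_mul,
      ← pl_comp, ← pl_comp, ← pl_comp, associator_hom_fst, Category.assoc, Category.assoc, associator_hom_snd_fst,
      associator_hom_snd_snd, ← pl_comp, mul_assoc]
  · exact K506.Transl.Inv.mul (inv_pl (fst B B') hp) (inv_pl (snd B B') hp')

/-- Every class on an abelian variety is, up to isogeny, the box product of a translation invariant class and a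
nondegenerate class. -/
theorem exists_dec (n : ℕ) : ∀ (X : Over (Spec (CommRingCat.of k))) [GrpObj X] [IsProper X.hom]
    [GeometricallyIntegral X.hom] (_ : topologicalKrullDim X.left = n) (c : Pic X.left), Dec X c := by
  induction n using Nat.strong_induction_on with
  | _ n ih =>
    intro X _ _ _ hn c
    by_cases hc : ND c
    · exact Dec.of_nd hc
    obtain ⟨B, _, i, hi, hicl, hBp, hBg, hB, hBinf⟩ := K524.Degen.exists_sub c hc
    obtain ⟨C, _, j, hCp, hCg, hj, hjcl, hs, hf⟩ := S11999.result k X B i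
    have hcomm : IsCommMonObj X := isCommMonObj_of_isProper_of_geometricallyIntegral X
    have hBC1 : IsProper (B ⊗ C).hom := K520.Prod.isProper_tensor B C
    have hBC2 : GeometricallyIntegral (B ⊗ C).hom := K520.Prod.geometricallyIntegral_tensor B C
    let f : B ⊗ C ⟶ X := (fst B C ≫ i) * (snd B C ≫ j)
    have hfm : IsMonHom f := by
      have hint : IsIntegral (B ⊗ C).left := GeometricallyIntegral.isIntegral_of_subsingleton (B ⊗ C).hom
      have hsm : Smooth (B ⊗ C).hom := Grpsch.AbBC.smooth_hom _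
      refine Sga3.H780.Pointed.isMonHom_of_pointed _ X f ?_
      change _ ≫ ((fst B C ≫ i) * (snd B C ≫ j)) = _
      rw [MonObj.comp_mul, IsMonHom.one_hom, IsMonHom.one_hom, MonObj.one_eq_one, mul_one]
    have hfB : ∀ b : 𝟙_ (Over (Spec (CommRingCat.of k))) ⟶ B, lift b 1 ≫ f = b ≫ i := fun b => by
      change _ ≫ ((fst B C ≫ i) * (snd B C ≫ j)) = _
      rw [MonObj.comp_mul, lift_fst_assoc, lift_snd_assoc, MonObj.one_comp, mul_one]
    obtain ⟨h1, h2⟩ := box_of_inv (pl f c) (fun b => by rw [K524.Index.phi_pl, hfB, hB, map_one])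
    obtain ⟨dB, hdB⟩ := exists_dim B
    obtain ⟨dC, hdC⟩ := exists_dim C
    have hdim : dB + dC = n := by
      have e1 : topologicalKrullDim (B ⊗ C).left = dB + dC := by
        rw [← hdB, ← hdC]
        exact K106.Dim.topologicalKrullDim_pullback_eq_add B.hom C.hom
      have e2 : topologicalKrullDim (B ⊗ C).left = topologicalKrullDim X.left := by
        have : IsFinite f.left := hf
        have : Surjective f.left := hs
        exact Sga3C.DimTop.topologicalKrullDim_eq_of_isIntegralHom f.left
      rw [e1, hn] at e2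
      exact_mod_cast e2
    have hdB1 : dB ≠ 0 := by
      rintro rfl
      have hBi : IsIntegral B.left := GeometricallyIntegral.isIntegral_of_subsingleton B.hom
      refine hBinf (Set.finite_univ_iff.2 ?_)
      have hsub : ∀ x y : B.left, x = y := by
        have h3 : Order.krullDim (IrreducibleCloseds B.left) ≤ 0 := by
          change topologicalKrullDim B.left ≤ 0
          rw [hdB]
          simp
        rw [Order.krullDim_nonpos_iff_forall_isMax] at h3
        have h4 : ∀ x : B.left, closure {x} = Set.univ := by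
          intro x
          have h5 := h3 ⟨closure {x}, isIrreducible_singleton.closure, isClosed_closure⟩
            (b := ⟨Set.univ, IrreducibleSpace.isIrreducible_univ _, isClosed_univ⟩) (Set.subset_univ _)
          exact Set.eq_univ_of_univ_subset h5
        intro x y
        exact (inseparable_iff_closure_eq.2 ((h4 x).trans (h4 y).symm)).eq
      have : Subsingleton (𝟙_ (Over (Spec (CommRingCat.of k))) ⟶ B) :=
        ⟨fun a b => K506.Transl.point_ext (hsub _ _)⟩
      exact Finite.of_subsingleton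
    exact Dec.of_isog f h2 h1 (ih dC (by omega) C hdC _)

end K506.BoxDec
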