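import Groth.Agent.AbVar.K506.CurveRing
import Groth.Agent.Models.H36.NormRel
import Groth.Agent.Picfga.CurveRelDim
import Groth.Agent.Flat2B.SmoothGeom
import Groth.Agent.CohqB.DevGeom
import Mathlib.AlgebraicGeometry.AlgClosed.Basic

/-!
# The curve principle

`k` a perfect field, `q : T ⟶ Spec k` of finite type, `T` connected (no other condition: `T` may be singular, reducible,
non-reduced, non-separated), `F : T → S` any function. If `F` is constant on the closed points along every
smooth integral affine curve `C ⟶ T`, then `F` is constant on the closed points of `T`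
(`K506.CurvePrinciple.const_of_curves`; for `k`-points, `k` algebraically closed:
`const_of_curves_pt`, and in `Over (Spec k)`: `const_of_curves_over`).
-/

set_option autoImplicit false
universe u v
open CategoryTheory CategoryTheory.Limits AlgebraicGeometry

namespace K506.CurvePrinciple

variable {k : Type u} [Field k]

/-- `F` is constant on the closed points along every smooth integral affine curve. -/
def Good {T : Scheme.{u}} (q : T ⟶ Spec (CommRingCat.of k)) {S : Type v} (F : T → S) : Prop :=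
  ∀ (C : Scheme.{u}) (p : C ⟶ Spec (CommRingCat.of k)) [IsIntegral C] [IsAffine C] [SmoothOfRelativeDimension 1 p]
    (g : C ⟶ T), g ≫ q = p → ∀ x y : C, IsClosed ({x} : Set C) → IsClosed ({y} : Set C) → F (g x) = F (g y)

theorem Good.comp {T T' : Scheme.{u}} {q : T ⟶ Spec (CommRingCat.of k)} {S : Type v} {F : T → S} (h : Good q F)
    (g : T' ⟶ T) : Good (g ≫ q) (fun x => F (g x)) := by
  intro C p _ _ _ g' hg' x y hx hy
  have := h C p (g' ≫ g) (by rw [Category.assoc, hg']) x y hx hy
  simpa using this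

/-- A point over a closed point, under a surjective morphism from a quasi-compact scheme, can be
chosen closed. -/
theorem exists_closed_lift {X Y : Scheme.{u}} (f : X ⟶ Y) [CompactSpace X] [Surjective f] (y : Y)
    (hy : IsClosed ({y} : Set Y)) : ∃ x : X, IsClosed ({x} : Set X) ∧ f x = y := by
  obtain ⟨x0, hx0⟩ := f.surjective y
  obtain ⟨x, hx, hxc⟩ := (hy.preimage f.continuous).exists_closed_singleton ⟨x0, hx0⟩
  exact ⟨x, hxc, hx⟩

theorem irreducibleSpace_of_dense {X : Type*} [TopologicalSpace X] (s : Set X) (hs : Dense s)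
    (h : IsIrreducible s) : IrreducibleSpace X := by
  rw [irreducibleSpace_def, Set.top_eq_univ, ← hs.closure_eq]
  exact isIrreducible_iff_closure.2 h

/-- Irreducible of dimension at most `0`: at most one closed point. -/
theorem eq_of_isClosed {X : Type*} [TopologicalSpace X] [IrreducibleSpace X] (h : ¬ 1 ≤ topologicalKrullDim X)
    (x y : X) (hx : IsClosed ({x} : Set X)) (hy : IsClosed ({y} : Set X)) : x = y := by
  have key : ∀ z : X, IsClosed ({z} : Set X) → ({z} : Set X) = Set.univ := by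
    intro z hz
    by_contra hne
    refine h (Order.one_le_krullDim_iff.2 ⟨⟨{z}, isIrreducible_singleton, hz⟩,
      ⟨Set.univ, IrreducibleSpace.isIrreducible_univ X, isClosed_univ⟩, ?_⟩)
    exact lt_of_le_of_ne (Set.subset_univ _) fun e => hne (congrArg (fun t : TopologicalSpace.IrreducibleCloseds X => (t : Set X)) e)
  have := (key x hx).trans (key y hy).symm
  exact Set.singleton_eq_singleton_iff.1 this

/-- Integral affine curve: covered by a smooth integral affine curve (or a point). -/
theorem exists_smooth_cover [PerfectField k] {Z : Scheme.{u}} [IsIntegral Z] [IsAffine Z]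
    (f : Z ⟶ Spec (CommRingCat.of k)) [LocallyOfFiniteType f] (hdim : topologicalKrullDim Z ≤ 1) :
    ∃ (Z' : Scheme.{u}) (ν : Z' ⟶ Z), IsAffine Z' ∧ IsIntegral Z' ∧ Surjective ν ∧
      (SmoothOfRelativeDimension 1 (ν ≫ f) ∨ ∀ x y : Z', IsClosed ({x} : Set Z') → IsClosed ({y} : Set Z') → x = y) := by
  obtain ⟨Z', ν, hfin, hsm, hd', U, hU, hU', hiso⟩ := Groth.Agent.Models.H36.NormRel.exists_smooth_model k f hdim
  have haff : IsAffine Z' := isAffine_of_isAffineHom ν
  have hred : IsReduced Z' := Groth.Agent.Flat2B.SmoothGeom.isReduced_of_smooth (ν ≫ f)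
  have hUne : (U : Set Z).Nonempty := hU.nonempty
  have hUirr : IrreducibleSpace (U : Scheme.{u}) := by
    have : Nonempty (U : Scheme.{u}) := hUne.to_subtype
    infer_instance
  have hVirr : IrreducibleSpace (ν ⁻¹ᵁ U : Scheme.{u}) :=
    (Scheme.homeoOfIso (asIso (ν ∣_ U))).irreducibleSpace_iff.2 hUirr
  have hirr : IrreducibleSpace Z' :=
    irreducibleSpace_of_dense _ hU' (isIrreducible_iff_irreducibleSpace.2 hVirr)
  have hint : IsIntegral Z' := isIntegral_of_irreducibleSpace_of_isReduced Z'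
  refine ⟨Z', ν, haff, hint, ⟨?_⟩, ?_⟩
  · rw [← Set.range_eq_univ, ← (ν.isClosedMap.isClosed_range).closure_eq]
    refine (hU.mono ?_).closure_eq
    intro u hu
    obtain ⟨v, hv⟩ := (ν ∣_ U).surjective ⟨u, hu⟩
    refine ⟨(ν ⁻¹ᵁ U).ι v, ?_⟩
    have h1 := congrArg (fun t => U.ι t) hv
    simp only at h1
    rw [← Scheme.Hom.comp_apply, morphismRestrict_ι, Scheme.Hom.comp_apply] at h1
    exact h1
  · by_cases h1 : 1 ≤ topologicalKrullDim Z'
    · exact Or.inl (Groth.Agent.Picfga.CurveRelDim.smoothOfRelativeDimension_of_topologicalKrullDim_eq k Z' (ν ≫ f) 1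
        (le_antisymm hd' h1))
    · exact Or.inr fun x y hx hy => eq_of_isClosed h1 x y hx hy

/-- Affine integral case over `Spec R`. -/
theorem const_spec [PerfectField k] (R : CommRingCat.{u}) [IsDomain R] (φ : CommRingCat.of k ⟶ R)
    (hφ : φ.hom.FiniteType) {S : Type v} (F : ↥(Spec R) → S) (hF : Good (Spec.map φ) F)
    (x y : ↥(Spec R)) (hx : IsClosed ({x} : Set ↥(Spec R)))
    (hy : IsClosed ({y} : Set ↥(Spec R))) : F x = F y := by
  algebraize [φ.hom]
  have hG : CurveRing.Good k (D := R) (S := S) F := by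
    intro C _ _ _ _ hC ψ m m' hm hm'
    let f : Spec (CommRingCat.of C) ⟶ Spec (CommRingCat.of k) := Spec.map (CommRingCat.ofHom (algebraMap k C))
    have hft : LocallyOfFiniteType f := by
      rw [HasRingHomProperty.Spec_iff (P := @LocallyOfFiniteType)]
      exact (RingHom.finiteType_algebraMap).2 inferInstance
    have hdim : topologicalKrullDim (Spec (CommRingCat.of C)) ≤ 1 := by
      rw [show topologicalKrullDim (Spec (CommRingCat.of C)) = ringKrullDim C from
        PrimeSpectrum.topologicalKrullDim_eq_ringKrullDim C]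
      exact hC
    obtain ⟨Z', ν, h1, h2, h3, h4⟩ := exists_smooth_cover f hdim
    let g : Spec (CommRingCat.of C) ⟶ Spec R := Spec.map (CommRingCat.ofHom ψ.toRingHom)
    have hg : g ≫ Spec.map φ = f := by
      rw [← Spec.map_comp]
      congr 1
      ext t
      exact ψ.commutes t
    have hcl : ∀ w : PrimeSpectrum C, w.asIdeal.IsMaximal →
        IsClosed ({w} : Set ↥(Spec (CommRingCat.of C))) := fun w hw =>
      (PrimeSpectrum.isClosed_singleton_iff_isMaximal w).2 hw
    obtain ⟨z, hz, hzm⟩ := exists_closed_lift ν m (hcl m hm)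
    obtain ⟨z', hz', hzm'⟩ := exists_closed_lift ν m' (hcl m' hm')
    rcases h4 with h4 | h4
    · have := hF Z' (ν ≫ f) (ν ≫ g) (by rw [Category.assoc, hg]) z z' hz hz'
      rw [Scheme.Hom.comp_apply, Scheme.Hom.comp_apply, hzm, hzm'] at this
      exact this
    · have h5 : m = m' := by rw [← hzm, ← hzm', h4 z z' hz hz']
      rw [h5]
  exact CurveRing.const_of_good hG x y ((PrimeSpectrum.isClosed_singleton_iff_isMaximal x).1 hx)
    ((PrimeSpectrum.isClosed_singleton_iff_isMaximal y).1 hy)

theorem const_affine [PerfectField k] {Z : Scheme.{u}} [IsIntegral Z] [IsAffine Z]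
    (f : Z ⟶ Spec (CommRingCat.of k)) [LocallyOfFiniteType f] {S : Type v} (F : Z → S) (hF : Good f F)
    (x y : Z) (hx : IsClosed ({x} : Set Z)) (hy : IsClosed ({y} : Set Z)) : F x = F y := by
  obtain ⟨φ, hφ⟩ := Spec.map_surjective (Z.isoSpec.inv ≫ f)
  have h1 : LocallyOfFiniteType (Spec.map φ) := by rw [hφ]; infer_instance
  have h2 : φ.hom.FiniteType := by rwa [HasRingHomProperty.Spec_iff (P := @LocallyOfFiniteType)] at h1
  have h3 : Good (Spec.map φ) (fun w => F (Z.isoSpec.inv w)) := by
    rw [hφ]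
    exact hF.comp Z.isoSpec.inv
  have hcl : ∀ w : Z, IsClosed ({w} : Set Z) → IsClosed ({Z.isoSpec.hom w} : Set ↥(Spec Γ(Z, ⊤))) := by
    intro w hw
    have := (Scheme.homeoOfIso Z.isoSpec).isClosedMap _ hw
    rwa [Set.image_singleton] at this
  have h4 := const_spec Γ(Z, ⊤) φ h2 _ h3 (Z.isoSpec.hom x) (Z.isoSpec.hom y) (hcl x hx) (hcl y hy)
  simpa using h4

theorem const_integral [PerfectField k] {Z : Scheme.{u}} [IsIntegral Z]
    (f : Z ⟶ Spec (CommRingCat.of k)) [LocallyOfFiniteType f] {S : Type v} (F : Z → S) (hF : Good f F)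
    (x y : Z) (hx : IsClosed ({x} : Set Z)) (hy : IsClosed ({y} : Set Z)) : F x = F y := by
  have hJ : JacobsonSpace Z := LocallyOfFiniteType.jacobsonSpace f
  obtain ⟨U, hU, hxU, -⟩ := exists_isAffineOpen_mem_and_subset (X := Z) (U := ⊤) (x := x) trivial
  obtain ⟨V, hV, hyV, -⟩ := exists_isAffineOpen_mem_and_subset (X := Z) (U := ⊤) (x := y) trivial
  obtain ⟨w0, hw0⟩ := nonempty_preirreducible_inter U.isOpen V.isOpen ⟨x, hxU⟩ ⟨y, hyV⟩
  obtain ⟨w, hwUV, hw⟩ : ∃ w, w ∈ ((U : Set Z) ∩ V) ∧ IsClosed ({w} : Set Z) := by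
    have h1 := JacobsonSpace.closure_inter_closedPoints (X := Z) (Z := Set.univ) isClosed_univ
    rw [Set.univ_inter] at h1
    have hd : Dense (closedPoints Z) := dense_iff_closure_eq.2 h1
    obtain ⟨w, h2, h3⟩ := hd.inter_open_nonempty _ (U.isOpen.inter V.isOpen) ⟨w0, hw0⟩
    exact ⟨w, h2, h3⟩
  have key : ∀ (U : Z.Opens), IsAffineOpen U → ∀ a b : Z, a ∈ U → b ∈ U → IsClosed ({a} : Set Z) →
      IsClosed ({b} : Set Z) → F a = F b := by
    intro U hU a b ha hb hac hbc
    have : IsAffine U := hU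
    have : Nonempty (U : Scheme.{u}) := ⟨⟨a, ha⟩⟩
    have hcl : ∀ (c : Z) (hc : c ∈ U), IsClosed ({c} : Set Z) → IsClosed ({⟨c, hc⟩} : Set (U : Scheme.{u})) := by
      intro c hc hcc
      have h5 := hcc.preimage U.ι.continuous
      convert h5 using 1
      ext t
      simp only [Set.mem_singleton_iff, Set.mem_preimage]
      constructor
      · rintro rfl; rfl
      · intro h6
        exact Subtype.ext h6
    exact const_affine (U.ι ≫ f) _ (hF.comp U.ι) ⟨a, ha⟩ ⟨b, hb⟩ (hcl a ha hac) (hcl b hb hbc)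
  exact (key U hU x w hxU hwUV.1 hx hw).trans (key V hV w y hwUV.2 hyV hw hy)

/-- Irreducible closed subsets. -/
theorem const_irreducible [PerfectField k] {T : Scheme.{u}} (f : T ⟶ Spec (CommRingCat.of k))
    [LocallyOfFiniteType f] {S : Type v} (F : T → S) (hF : Good f F) (W : Set T) (hW : IsIrreducible W)
    (hWc : IsClosed W) (x y : T) (hxW : x ∈ W) (hyW : y ∈ W) (hx : IsClosed ({x} : Set T))
    (hy : IsClosed ({y} : Set T)) : F x = F y := by
  obtain ⟨Z, j, hj, hZ, hrange⟩ := Groth.Agent.CohqB.DevGeom.exists_integral W hWc hW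
  obtain ⟨x', rfl⟩ : x ∈ Set.range j := hrange.symm ▸ hxW
  obtain ⟨y', rfl⟩ : y ∈ Set.range j := hrange.symm ▸ hyW
  have hcl : ∀ z : Z, IsClosed ({j z} : Set T) → IsClosed ({z} : Set Z) := by
    intro z hz
    have h := hz.preimage j.continuous
    convert h using 1
    ext t
    simp only [Set.mem_singleton_iff, Set.mem_preimage]
    exact ⟨fun h => h ▸ rfl, fun h => j.isClosedEmbedding.injective h⟩
  exact const_integral (j ≫ f) _ (hF.comp j) x' y' (hcl x' hx) (hcl y' hy)

/-- Gluing over the irreducible components of a connected Noetherian space. -/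
theorem const_of_irreducible {T : Type*} [TopologicalSpace T] [T0Space T] [TopologicalSpace.NoetherianSpace T]
    [ConnectedSpace T] {S : Type v} (F : T → S)
    (h : ∀ W : Set T, IsIrreducible W → IsClosed W → ∀ x ∈ W, ∀ y ∈ W, IsClosed ({x} : Set T) →
      IsClosed ({y} : Set T) → F x = F y) (x y : T) (hx : IsClosed ({x} : Set T)) (hy : IsClosed ({y} : Set T)) :
    F x = F y := by
  classical
  have hfin : (irreducibleComponents T).Finite := TopologicalSpace.NoetherianSpace.finite_irreducibleComponents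
  let P : Set T → Prop := fun W => ∃ z ∈ W, IsClosed ({z} : Set T) ∧ F z = F x
  let A : Set T := ⋃₀ {W ∈ irreducibleComponents T | P W}
  let B : Set T := ⋃₀ {W ∈ irreducibleComponents T | ¬ P W}
  have hA : IsClosed A := by
    rw [show A = ⋃ W ∈ {W ∈ irreducibleComponents T | P W}, W from Set.sUnion_eq_biUnion]
    refine (hfin.subset fun W (hW : W ∈ {W ∈ irreducibleComponents T | P W}) => hW.1).isClosed_biUnion ?_
    exact fun W hW => isClosed_of_mem_irreducibleComponents W hW.1
  have hB : IsClosed B := by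
    rw [show B = ⋃ W ∈ {W ∈ irreducibleComponents T | ¬ P W}, W from Set.sUnion_eq_biUnion]
    refine (hfin.subset fun W (hW : W ∈ {W ∈ irreducibleComponents T | ¬ P W}) => hW.1).isClosed_biUnion ?_
    exact fun W hW => isClosed_of_mem_irreducibleComponents W hW.1
  have hAB : A ∪ B = Set.univ := by
    rw [Set.eq_univ_iff_forall]
    intro t
    by_cases hP : P (irreducibleComponent t)
    · exact Or.inl ⟨_, ⟨irreducibleComponent_mem_irreducibleComponents t, hP⟩, mem_irreducibleComponent⟩
    · exact Or.inr ⟨_, ⟨irreducibleComponent_mem_irreducibleComponents t, hP⟩, mem_irreducibleComponent⟩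
  have hdis : A ∩ B = ∅ := by
    by_contra hne
    obtain ⟨z, ⟨hzA, hzB⟩, hz⟩ := (hA.inter hB).exists_closed_singleton (Set.nonempty_iff_ne_empty.2 hne)
    obtain ⟨W, ⟨hW, w, hwW, hw, hwx⟩, hzW⟩ := hzA
    obtain ⟨W', ⟨hW', hP'⟩, hzW'⟩ := hzB
    exact hP' ⟨z, hzW', hz, (h W hW.1 (isClosed_of_mem_irreducibleComponents W hW) z hzW w hwW hz hw).trans hwx⟩
  have hAc : A = Bᶜ :=
    IsCompl.eq_compl ⟨Set.disjoint_iff_inter_eq_empty.2 hdis, codisjoint_iff.2 hAB⟩
  have hAo : IsOpen A := by rw [hAc]; exact hB.isOpen_compl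
  have hxA : x ∈ A := ⟨_, ⟨irreducibleComponent_mem_irreducibleComponents x, x, mem_irreducibleComponent, hx, rfl⟩,
    mem_irreducibleComponent⟩
  have hAu : A = Set.univ := IsClopen.eq_univ ⟨hA, hAo⟩ ⟨x, hxA⟩
  have hyA : y ∈ A := hAu ▸ Set.mem_univ y
  obtain ⟨W, ⟨hW, w, hwW, hw, hwx⟩, hyW⟩ := hyA
  exact hwx.symm.trans (h W hW.1 (isClosed_of_mem_irreducibleComponents W hW) w hwW y hyW hw hy)

/-- **Curve principle.** `k` perfect, `T` connected of finite type over `k`, `F : T → S` constant on closed points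
along every smooth integral affine curve: `F` is constant on closed points. -/
theorem const_of_curves [PerfectField k] {T : Scheme.{u}} [ConnectedSpace T] (q : T ⟶ Spec (CommRingCat.of k))
    [LocallyOfFiniteType q] [QuasiCompact q] {S : Type v} (F : T → S) (hF : Good q F) (x y : T)
    (hx : IsClosed ({x} : Set T)) (hy : IsClosed ({y} : Set T)) : F x = F y := by
  have h1 : IsLocallyNoetherian T := LocallyOfFiniteType.isLocallyNoetherian q
  have h2 : CompactSpace T := QuasiCompact.compactSpace_of_compactSpace q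
  have h3 : IsNoetherian T := {}
  exact const_of_irreducible F (fun W hW hWc x hx y hy hxc hyc => const_irreducible q F hF W hW hWc x y hx hy hxc hyc)
    x y hx hy

/-- Points version: `F` a function of the `k`-points of `T`. -/
theorem const_of_curves_pt [IsAlgClosed k] {T : Scheme.{u}} [ConnectedSpace T] (q : T ⟶ Spec (CommRingCat.of k))
    [LocallyOfFiniteType q] [QuasiCompact q] {S : Type v}
    (F : {t : Spec (CommRingCat.of k) ⟶ T // t ≫ q = 𝟙 _} → S)
    (hF : ∀ (C : Scheme.{u}) (p : C ⟶ Spec (CommRingCat.of k)) [IsIntegral C] [IsAffine C]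
      [SmoothOfRelativeDimension 1 p] (g : C ⟶ T) (hg : g ≫ q = p)
      (c c' : Spec (CommRingCat.of k) ⟶ C) (hc : c ≫ p = 𝟙 _) (hc' : c' ≫ p = 𝟙 _),
      F ⟨c ≫ g, by rw [Category.assoc, hg, hc]⟩ = F ⟨c' ≫ g, by rw [Category.assoc, hg, hc']⟩)
    (t t' : {t : Spec (CommRingCat.of k) ⟶ T // t ≫ q = 𝟙 _}) : F t = F t' := by
  classical
  let F' : T → S := fun x => if hx : IsClosed ({x} : Set T) then F ((pointEquivClosedPoint q).symm ⟨x, hx⟩) else F t
  have key : ∀ s : {t : Spec (CommRingCat.of k) ⟶ T // t ≫ q = 𝟙 _}, F' (pointEquivClosedPoint q s).1 = F s := by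
    intro s
    have h : IsClosed ({(pointEquivClosedPoint q s).1} : Set T) := (pointEquivClosedPoint q s).2
    simp only [F', dif_pos h]
    congr 1
    exact (pointEquivClosedPoint q).symm_apply_apply s
  have hF' : Good q F' := by
    intro C p _ _ _ g hg x y hx hy
    have hsm : Smooth p := SmoothOfRelativeDimension.smooth 1 p
    have hpt : ∀ z : C, IsClosed ({z} : Set C) → ∃ (c : Spec (CommRingCat.of k) ⟶ C) (hc : c ≫ p = 𝟙 _),
        F' (g z) = F ⟨c ≫ g, by rw [Category.assoc, hg, hc]⟩ := by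
      intro z hz
      obtain ⟨⟨c, hc⟩, hcz⟩ := (pointEquivClosedPoint p).surjective ⟨z, hz⟩
      refine ⟨c, hc, ?_⟩
      rw [← key]
      congr 1
      have h5 : c (IsLocalRing.closedPoint k) = z := congrArg Subtype.val hcz
      have h6 : (c ≫ g) (IsLocalRing.closedPoint k) = g (c (IsLocalRing.closedPoint k)) :=
        Scheme.Hom.comp_apply c g _
      exact ((h6.trans (congrArg g h5))).symm
    obtain ⟨c, hc, h6⟩ := hpt x hx
    obtain ⟨c', hc', h7⟩ := hpt y hy
    rw [h6, h7]
    exact hF C p g hg c c' hc hc'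
  rw [← key t, ← key t']
  exact const_of_curves q F' hF' _ _ (pointEquivClosedPoint q t).2 (pointEquivClosedPoint q t').2

open MonoidalCategory CartesianMonoidalCategory in
/-- Points version in `Over (Spec k)`. -/
theorem const_of_curves_over [IsAlgClosed k] (T : Over (Spec (CommRingCat.of k))) [ConnectedSpace T.left]
    [LocallyOfFiniteType T.hom] [QuasiCompact T.hom] {S : Type v} (F : (𝟙_ (Over (Spec (CommRingCat.of k))) ⟶ T) → S)
    (hF : ∀ (C : Over (Spec (CommRingCat.of k))) [IsIntegral C.left] [IsAffine C.left]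
      [SmoothOfRelativeDimension 1 C.hom] (g : C ⟶ T) (c c' : 𝟙_ (Over (Spec (CommRingCat.of k))) ⟶ C),
      F (c ≫ g) = F (c' ≫ g))
    (t t' : 𝟙_ (Over (Spec (CommRingCat.of k))) ⟶ T) : F t = F t' := by
  let e : {s : Spec (CommRingCat.of k) ⟶ T.left // s ≫ T.hom = 𝟙 _} → (𝟙_ (Over (Spec (CommRingCat.of k))) ⟶ T) :=
    fun s => Over.homMk s.1 s.2
  have h := const_of_curves_pt T.hom (fun s => F (e s)) (by
    intro C p _ _ _ g hg c c' hc hc'
    let C' : Over (Spec (CommRingCat.of k)) := Over.mk p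
    have i1 : IsIntegral C'.left := ‹IsIntegral C›
    have i2 : IsAffine C'.left := ‹IsAffine C›
    have i3 : SmoothOfRelativeDimension 1 C'.hom := ‹SmoothOfRelativeDimension 1 p›
    let g' : C' ⟶ T := Over.homMk g hg
    let c1 : 𝟙_ (Over (Spec (CommRingCat.of k))) ⟶ C' := Over.homMk c hc
    let c2 : 𝟙_ (Over (Spec (CommRingCat.of k))) ⟶ C' := Over.homMk c' hc'
    exact hF C' g' c1 c2) ⟨t.left, Over.w t⟩ ⟨t'.left, Over.w t'⟩
  exact h

end K506.CurvePrinciple
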