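import Groth.Agent.CalgC.DimFT
import Mathlib.RingTheory.KrullDimension.NonZeroDivisors
import Mathlib.RingTheory.Ideal.KrullsHeightTheorem

/-!
# Curves through a closed point of an affine variety, meeting a given nonempty open subset

* `exists_prime_curve`: `D` a finite type domain over a field, `m` maximal, `f ≠ 0`: there is a prime `p ≤ m` with
  `f ∉ p` and `dim D/p ≤ 1`.
-/

set_option autoImplicit false
universe u

namespace K506.CurveThrough

open Ideal

/-- Cutting down: a nonzero prime inside `m` avoiding `f`, if `dim D ≥ 2`. -/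
theorem exists_prime_lt (k : Type*) [Field k] (D : Type u) [CommRing D] [IsDomain D] [Algebra k D]
    [Algebra.FiniteType k D] (hd : 1 < ringKrullDim D) (m : Ideal D) [hm : m.IsMaximal] (f : D) (hf : f ≠ 0) :
    ∃ p : Ideal D, p.IsPrime ∧ p ≤ m ∧ f ∉ p ∧ p ≠ ⊥ := by
  have hN : IsNoetherianRing D := Algebra.FiniteType.isNoetherianRing k D
  have hmh : (1 : WithBot ℕ∞) < (m.height : WithBot ℕ∞) := by
    rw [Groth.Agent.CalgC.DimFT.height_eq_ringKrullDim_of_isMaximal k D m]; exact hd
  have hmh' : 1 < m.height := by exact_mod_cast hmh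
  have hfin : ((Ideal.span {f}).minimalPrimes ∪ {⊥}).Finite :=
    (Ideal.finite_minimalPrimes_of_isNoetherianRing D _).union (Set.finite_singleton _)
  have hprime : ∀ q ∈ (Ideal.span {f}).minimalPrimes ∪ {⊥}, q.IsPrime := by
    rintro q (hq | hq)
    · exact hq.1.1
    · rw [Set.mem_singleton_iff.1 hq]; exact Ideal.isPrime_bot
  have hnot : ¬ ((m : Set D) ⊆ ⋃ q ∈ (Ideal.span {f}).minimalPrimes ∪ {⊥}, (q : Set D)) := by
    intro h
    obtain ⟨q, hq, hle⟩ := (Ideal.subset_union_prime_finite hfin (f := fun q => q) ⊥ ⊥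
      (fun i hi _ _ => hprime i hi)).1 h
    have h1 : m.height ≤ q.height := Ideal.height_mono hle
    have h2 : q.height ≤ 1 := by
      rcases hq with hq | hq
      · exact Ideal.height_le_one_of_isPrincipal_of_mem_minimalPrimes _ _ hq
      · rw [Set.mem_singleton_iff.1 hq]
        simp
    exact absurd (h1.trans h2) (not_le.2 hmh')
  rw [Set.not_subset] at hnot
  obtain ⟨g, hgm, hg⟩ := hnot
  simp only [Set.mem_iUnion, not_exists] at hg
  have hg0 : g ≠ 0 := fun h => hg ⊥ (Or.inr rfl) (by rw [h]; exact Submodule.zero_mem _)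
  obtain ⟨p, hp, hpm⟩ := Ideal.exists_minimalPrimes_le (I := Ideal.span {g}) (J := m)
    ((Ideal.span_singleton_le_iff_mem _).2 hgm)
  have hpp : p.IsPrime := hp.1.1
  have hgp : g ∈ p := hp.1.2 (Ideal.mem_span_singleton_self g)
  refine ⟨p, hpp, hpm, ?_, ?_⟩
  · intro hfp
    obtain ⟨q, hq, hqp⟩ := Ideal.exists_minimalPrimes_le (I := Ideal.span {f}) (J := p)
      ((Ideal.span_singleton_le_iff_mem _).2 hfp)
    have hqq : q.IsPrime := hq.1.1
    have hfq : f ∈ q := hq.1.2 (Ideal.mem_span_singleton_self f)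
    have hqp' : q < p := lt_of_le_of_ne hqp (fun h => hg q (Or.inl hq) (h ▸ hgp))
    have hbot : (⊥ : Ideal D) < q := by
      rw [bot_lt_iff_ne_bot]
      intro h
      rw [h] at hfq
      exact hf ((Submodule.mem_bot D).1 hfq)
    have h1 : (⊥ : Ideal D).height + 1 ≤ q.height := Ideal.height_add_one_le_of_lt_of_isPrime hbot
    have h2 : q.height + 1 ≤ p.height := Ideal.height_add_one_le_of_lt_of_isPrime hqp'
    have h3 : p.height ≤ 1 := Ideal.height_le_one_of_isPrincipal_of_mem_minimalPrimes _ _ hp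
    have h4 : (1 : ℕ∞) + 1 ≤ 1 := by
      calc (1 : ℕ∞) + 1 ≤ ((⊥ : Ideal D).height + 1) + 1 := by gcongr; exact le_add_self
        _ ≤ q.height + 1 := by gcongr
        _ ≤ p.height := h2
        _ ≤ 1 := h3
    exact absurd h4 (by decide)
  · intro h
    rw [h] at hgp
    exact hg0 ((Submodule.mem_bot D).1 hgp)

theorem ringKrullDim_quotient_lt (D : Type u) [CommRing D] [IsDomain D] (p : Ideal D) (hp : p ≠ ⊥) :
    ringKrullDim (D ⧸ p) + 1 ≤ ringKrullDim D := by
  obtain ⟨g, hg, hg0⟩ := Submodule.exists_mem_ne_zero_of_ne_bot hp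
  refine le_trans ?_ (ringKrullDim_quotient_succ_le_of_nonZeroDivisor (mem_nonZeroDivisors_of_ne_zero hg0))
  gcongr
  exact ringKrullDim_le_of_surjective (Ideal.Quotient.factor ((Ideal.span_singleton_le_iff_mem _).2 hg))
    (Ideal.Quotient.factor_surjective _)

theorem exists_prime_curve (k : Type*) [Field k] : ∀ (n : ℕ) (D : Type u) [CommRing D] [IsDomain D]
    [Algebra k D] [Algebra.FiniteType k D] (_ : ringKrullDim D ≤ n) (m : Ideal D) [m.IsMaximal] (f : D)
    (_ : f ≠ 0), ∃ p : Ideal D, p.IsPrime ∧ p ≤ m ∧ f ∉ p ∧ ringKrullDim (D ⧸ p) ≤ 1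
  | 0, D, _, _, _, _, hn, m, _, f, hf => by
    refine ⟨⊥, Ideal.isPrime_bot, bot_le, fun h => hf ((Submodule.mem_bot D).1 h), ?_⟩
    exact (ringKrullDim_quotient_le _).trans (hn.trans (by norm_num))
  | n + 1, D, _, _, _, _, hn, m, hm, f, hf => by
    by_cases hd : ringKrullDim D ≤ 1
    · exact ⟨⊥, Ideal.isPrime_bot, bot_le, fun h => hf ((Submodule.mem_bot D).1 h),
        (ringKrullDim_quotient_le _).trans hd⟩
    obtain ⟨q, hq, hqm, hfq, hq0⟩ := exists_prime_lt k D (not_le.1 hd) m f hf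
    have hle : ringKrullDim (D ⧸ q) ≤ n := by
      have h1 := (ringKrullDim_quotient_lt D q hq0).trans hn
      obtain ⟨d, hd', -, -⟩ := Groth.Agent.CalgC.DimFT.exists_dim k (D ⧸ q)
      rw [hd'] at h1 ⊢
      have h2 : d + 1 ≤ n + 1 := by exact_mod_cast h1
      exact_mod_cast (by omega : d ≤ n)
    have hmax : (m.map (Ideal.Quotient.mk q)).IsMaximal :=
      Ideal.IsMaximal.map_of_surjective_of_ker_le Ideal.Quotient.mk_surjective (by rwa [Ideal.mk_ker])
    obtain ⟨p, hp, hpm, hfp, hdp⟩ := exists_prime_curve k n (D ⧸ q) hle (m.map (Ideal.Quotient.mk q))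
      (Ideal.Quotient.mk q f) (fun h => hfq (Ideal.Quotient.eq_zero_iff_mem.1 h))
    refine ⟨p.comap (Ideal.Quotient.mk q), hp.comap _, ?_, hfp, ?_⟩
    · intro x hx
      have h1 := hpm (Ideal.mem_comap.1 hx)
      rw [Ideal.mem_map_iff_of_surjective _ Ideal.Quotient.mk_surjective] at h1
      obtain ⟨y, hy, hxy⟩ := h1
      have h2 : x - y ∈ q := by rw [← Ideal.Quotient.eq, hxy]
      have := m.add_mem (hqm h2) hy
      rwa [sub_add_cancel] at this
    · refine le_trans (le_of_eq ?_) hdp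
      exact ringKrullDim_eq_of_ringEquiv (RingEquiv.ofBijective
        (Ideal.quotientMap p (Ideal.Quotient.mk q) le_rfl)
        ⟨Ideal.quotientMap_injective, Ideal.quotientMap_surjective Ideal.Quotient.mk_surjective⟩)

end K506.CurveThrough
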