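import Groth.Agent.AbVar.K506.Fibration2
import Groth.Agent.AbVar.K506.CurveThrough
import Groth.Agent.FlatB.GenFibA
import Mathlib.RingTheory.Jacobson.Ring

/-!
# The curve principle for affine varieties, ring form

A function on the maximal ideals of a finite type domain over a field which is constant along all integral affine
curves is constant.
-/

set_option autoImplicit false
universe u v

namespace K506.CurveRing

open scoped TensorProduct

variable (k : Type u) [Field k]

/-- `F` is constant along the closed points of all integral affine curves. -/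
def Good {D : Type u} [CommRing D] [Algebra k D] {S : Type v} (F : PrimeSpectrum D → S) : Prop :=
  ∀ (C : Type u) [CommRing C] [IsDomain C] [Algebra k C] [Algebra.FiniteType k C], ringKrullDim C ≤ 1 →
    ∀ (φ : D →ₐ[k] C) (m m' : PrimeSpectrum C), m.asIdeal.IsMaximal → m'.asIdeal.IsMaximal →
      F (PrimeSpectrum.comap φ.toRingHom m) = F (PrimeSpectrum.comap φ.toRingHom m')

variable {k}

theorem Good.comp {D E : Type u} [CommRing D] [Algebra k D] [CommRing E] [Algebra k E] {S : Type v}
    {F : PrimeSpectrum D → S} (h : Good k F) (ψ : D →ₐ[k] E) :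
    Good k (fun x : PrimeSpectrum E => F (PrimeSpectrum.comap ψ.toRingHom x)) := by
  intro C _ _ _ _ hC φ m m' hm hm'
  exact h C hC (φ.comp ψ) m m' hm hm'

theorem isMaximal_comap {D E : Type u} [CommRing D] [Algebra k D] [CommRing E] [Algebra k E]
    [Algebra.FiniteType k E] (ψ : D →ₐ[k] E) (m : Ideal E) (hm : m.IsMaximal) : (m.comap ψ.toRingHom).IsMaximal := by
  let _ : Field (E ⧸ m) := Ideal.Quotient.field m
  have h1 : Module.Finite k (E ⧸ m) := finite_of_finite_type_of_isJacobsonRing k (E ⧸ m)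
  let g : D →ₐ[k] (E ⧸ m) := (Ideal.Quotient.mkₐ k m).comp ψ
  have hker : RingHom.ker g.toRingHom = m.comap ψ.toRingHom := by
    ext x
    rw [RingHom.mem_ker, Ideal.mem_comap]
    exact Ideal.Quotient.eq_zero_iff_mem
  let i : (D ⧸ RingHom.ker g.toRingHom) →ₐ[k] (E ⧸ m) := Ideal.kerLiftAlg g
  have hi : Function.Injective i := Ideal.kerLiftAlg_injective g
  have h2 : Algebra.IsIntegral k (D ⧸ RingHom.ker g.toRingHom) := Algebra.IsIntegral.of_injective i hi
  have h3 : IsDomain (D ⧸ RingHom.ker g.toRingHom) := hi.isDomain i.toRingHom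
  have h4 : IsField (D ⧸ RingHom.ker g.toRingHom) := isField_of_isIntegral_of_isField' (Field.toIsField k)
  rw [← hker]
  exact Ideal.Quotient.maximal_of_isField _ h4

/-- Quasi-section: closed points of the base lift. -/
theorem exists_lift {A C : Type u} [CommRing A] [IsDomain A] [CommRing C] [IsDomain C] [Algebra A C]
    [Algebra.FiniteType A C] (hinj : Function.Injective (algebraMap A C)) :
    ∃ b : A, b ≠ 0 ∧ ∀ y : Ideal A, y.IsMaximal → b ∉ y → ∃ q : Ideal C, q.IsMaximal ∧
      y.map (algebraMap A C) ≤ q := by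
  let Ω := FractionRing C
  have hA : Function.Injective (algebraMap A Ω) := by
    rw [IsScalarTower.algebraMap_eq A C Ω]
    exact (IsFractionRing.injective C Ω).comp hinj
  have hnt : Nontrivial (Ω ⊗[A] C) := by
    let f : Ω ⊗[A] C →ₐ[A] Ω := Algebra.TensorProduct.lift (AlgHom.id A Ω) (IsScalarTower.toAlgHom A C Ω)
      (fun _ _ => Commute.all _ _)
    exact f.toRingHom.domain_nontrivial
  obtain ⟨b, hb, h⟩ := Groth.Agent.FlatB.GenFibA.exists_nontrivial (A := A) C Ω hA
  refine ⟨b, hb, fun y hy hby => ?_⟩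
  have hnt' : Nontrivial ((A ⧸ y) ⊗[A] C) := by
    let _ : Field (A ⧸ y) := Ideal.Quotient.field y
    refine h (A ⧸ y) (isUnit_iff_ne_zero.2 fun h0 => hby (Ideal.Quotient.eq_zero_iff_mem.1 h0))
  have hne : y.map (algebraMap A C) ≠ ⊤ := by
    intro htop
    let e : (C ⧸ y.map (algebraMap A C)) ≃ₐ[A] (A ⧸ y) ⊗[A] C :=
      ((Algebra.TensorProduct.quotIdealMapEquivTensorQuot C y).restrictScalars A).trans
        (Algebra.TensorProduct.comm A C (A ⧸ y))
    have : Nontrivial (C ⧸ y.map (algebraMap A C)) := e.toEquiv.nontrivial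
    exact (Ideal.Quotient.nontrivial_iff.1 this) htop
  obtain ⟨q, hq, hle⟩ := Ideal.exists_le_maximal _ hne
  exact ⟨q, hq, hle⟩

theorem exists_quot {B : Type u} [CommRing B] (P : Ideal B) (Q : PrimeSpectrum B) (hQ : Q.asIdeal.IsMaximal)
    (h : P ≤ Q.asIdeal) : ∃ x : PrimeSpectrum (B ⧸ P), x.asIdeal.IsMaximal ∧
      PrimeSpectrum.comap (Ideal.Quotient.mk P) x = Q := by
  have hmax : (Q.asIdeal.map (Ideal.Quotient.mk P)).IsMaximal :=
    Ideal.IsMaximal.map_of_surjective_of_ker_le Ideal.Quotient.mk_surjective (by rwa [Ideal.mk_ker])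
  refine ⟨⟨_, hmax.isPrime⟩, hmax, PrimeSpectrum.ext ?_⟩
  change Ideal.comap (Ideal.Quotient.mk P) (Ideal.map (Ideal.Quotient.mk P) Q.asIdeal) = Q.asIdeal
  rw [Ideal.comap_map_of_surjective _ Ideal.Quotient.mk_surjective, ← RingHom.ker_eq_comap_bot, Ideal.mk_ker,
    sup_eq_left.2 h]

theorem exists_maximal_not_mem {D : Type u} [CommRing D] [IsJacobsonRing D] (p : Ideal D) (hp : p.IsPrime)
    (g : D) (hg : g ∉ p) : ∃ u : PrimeSpectrum D, u.asIdeal.IsMaximal ∧ p ≤ u.asIdeal ∧ g ∉ u.asIdeal := by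
  have h := isJacobsonRing_iff_prime_eq.1 ‹_› p hp
  rw [← h, Ideal.jacobson, Ideal.mem_sInf] at hg
  push Not at hg
  obtain ⟨u, ⟨hu1, hu2⟩, hu3⟩ := hg
  exact ⟨⟨u, hu2.isPrime⟩, hu2, hu1, hu3⟩

theorem ringKrullDim_away_le {D B : Type*} [CommRing D] [CommRing B] [Algebra D B] (s : D)
    [IsLocalization.Away s B] : ringKrullDim B ≤ ringKrullDim D := by
  refine Order.krullDim_le_of_strictMono (fun x : PrimeSpectrum B => PrimeSpectrum.comap (algebraMap D B) x) ?_
  intro x y hxy
  have h1 : x.asIdeal < y.asIdeal := hxy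
  refine lt_of_le_of_ne (show Ideal.comap _ x.asIdeal ≤ Ideal.comap _ y.asIdeal from Ideal.comap_mono h1.le) ?_
  intro h
  have h2 : Function.Injective (PrimeSpectrum.comap (algebraMap D B)) :=
    PrimeSpectrum.localization_comap_injective B (Submonoid.powers s)
  exact hxy.ne (h2 h)

theorem const_of_good_aux (n : ℕ) : ∀ (D : Type u) [CommRing D] [IsDomain D] [Algebra k D] [Algebra.FiniteType k D]
    (_ : ringKrullDim D ≤ n) {S : Type v} (F : PrimeSpectrum D → S) (_ : Good k F) (m m' : PrimeSpectrum D)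
    (_ : m.asIdeal.IsMaximal) (_ : m'.asIdeal.IsMaximal), F m = F m' := by
  induction n with
  | zero =>
    intro D _ _ _ _ hn S F hF m m' hm hm'
    exact hF D (hn.trans (by norm_num)) (AlgHom.id k D) m m' hm hm'
  | succ n ih =>
    intro D _ _ _ _ hn S F hF m m' hm hm'
    by_cases hd : ringKrullDim D ≤ 1
    · exact hF D hd (AlgHom.id k D) m m' hm hm'
    rw [not_le] at hd
    have hJ : IsJacobsonRing D := isJacobsonRing_of_finiteType (A := k)
    obtain ⟨s, hs0, B, _, _, _, _, _, _, _, A, _, _, _, _, _, _, _, hA1, a, ha0, hfib⟩ :=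
      Fibration2.exists_fibration k D (lt_trans (by norm_num) hd)
    have hJB : IsJacobsonRing B := isJacobsonRing_of_finiteType (A := k)
    have hBn : ringKrullDim B ≤ ((n + 1 : ℕ) : WithBot ℕ∞) := (ringKrullDim_away_le s).trans hn
    have hinjAB : Function.Injective (algebraMap A B) := FaithfulSMul.algebraMap_injective A B
    let F' : PrimeSpectrum B → S := fun x => F (PrimeSpectrum.comap (algebraMap D B) x)
    have hF' : Good k F' := hF.comp (IsScalarTower.toAlgHom k D B)
    have hAle : Ring.KrullDimLE 1 A := by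
      rw [Ring.krullDimLE_iff, hA1]; rfl
    have hbot : ∀ y : Ideal A, y.IsMaximal → y ≠ ⊥ := by
      rintro y hy rfl
      have hf : IsField A := Ring.isField_iff_maximal_bot.2 hy
      rw [ringKrullDim_eq_zero_of_isField hf] at hA1
      exact absurd hA1 (by norm_num)
    -- step 1
    have step1 : ∀ y : Ideal A, y.IsMaximal → a ∉ y → ∀ Q Q' : PrimeSpectrum B, Q.asIdeal.IsMaximal →
        Q'.asIdeal.IsMaximal → y.map (algebraMap A B) ≤ Q.asIdeal → y.map (algebraMap A B) ≤ Q'.asIdeal →
        F' Q = F' Q' := by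
      intro y hy hay Q Q' hQ hQ' hle hle'
      obtain ⟨P, hP, hPQ⟩ := hfib y hy hay
      have hyP : y.map (algebraMap A B) ≤ P := (hPQ P hP).2 le_rfl
      have hP0 : P ≠ ⊥ := by
        rintro rfl
        obtain ⟨x, hx, hx0⟩ := Submodule.exists_mem_ne_zero_of_ne_bot (hbot y hy)
        have : algebraMap A B x = 0 := (Submodule.mem_bot B).1 (hyP (Ideal.mem_map_of_mem _ hx))
        exact hx0 ((map_eq_zero_iff _ hinjAB).1 this)
      have hdim : ringKrullDim (B ⧸ P) ≤ n := by
        have h1 := (CurveThrough.ringKrullDim_quotient_lt B P hP0).trans hBn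
        obtain ⟨d, hd', -, -⟩ := Groth.Agent.CalgC.DimFT.exists_dim k (B ⧸ P)
        rw [hd'] at h1 ⊢
        have h2 : d + 1 ≤ n + 1 := by exact_mod_cast h1
        exact_mod_cast (by omega : d ≤ n)
      obtain ⟨x, hx, hxQ⟩ := exists_quot P Q hQ ((hPQ _ Q.2).1 hle)
      obtain ⟨x', hx', hxQ'⟩ := exists_quot P Q' hQ' ((hPQ _ Q'.2).1 hle')
      have h := ih (B ⧸ P) hdim _ (hF'.comp (Ideal.Quotient.mkₐ k P)) x x' hx hx'
      change F' (PrimeSpectrum.comap (Ideal.Quotient.mk P) x) = F' (PrimeSpectrum.comap (Ideal.Quotient.mk P) x')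
        at h
      rwa [hxQ, hxQ'] at h
    -- step 2
    obtain ⟨w0, hw0⟩ := Ideal.exists_maximal B
    have hmaxA : ∀ w : Ideal B, w.IsMaximal → (w.comap (algebraMap A B)).IsMaximal := fun w hw =>
      isMaximal_comap (IsScalarTower.toAlgHom k A B) w hw
    obtain ⟨f0, hf0, hf00⟩ := Submodule.exists_mem_ne_zero_of_ne_bot (hbot _ (hmaxA w0 hw0))
    have hf0B : algebraMap A B f0 ≠ 0 := fun h => hf00 ((map_eq_zero_iff _ hinjAB).1 h)
    obtain ⟨p, hp, hpw, hfp, hdp⟩ := CurveThrough.exists_prime_curve k (n + 1) B hBn w0 _ hf0B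
    have hpA : p.comap (algebraMap A B) = ⊥ := by
      by_contra hne
      have h1 : (p.comap (algebraMap A B)).IsMaximal := (hp.comap _).isMaximal_of_ne_bot hne
      have h2 : p.comap (algebraMap A B) = w0.comap (algebraMap A B) :=
        h1.eq_of_le (hmaxA w0 hw0).ne_top (Ideal.comap_mono hpw)
      exact hfp (Ideal.mem_comap.1 (h2 ▸ hf0))
    have hinjp : Function.Injective (algebraMap A (B ⧸ p)) := by
      rw [injective_iff_map_eq_zero]
      intro x hx
      have hx' : algebraMap A B x ∈ p := Ideal.Quotient.eq_zero_iff_mem.1 hx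
      have : x ∈ p.comap (algebraMap A B) := hx'
      rwa [hpA] at this
    have hftA : Algebra.FiniteType A (B ⧸ p) := Algebra.FiniteType.of_restrictScalars_finiteType k A (B ⧸ p)
    obtain ⟨b, hb0, hb⟩ := exists_lift (A := A) (C := B ⧸ p) hinjp
    have step2 : ∀ w w' : PrimeSpectrum B, w.asIdeal.IsMaximal → w'.asIdeal.IsMaximal →
        algebraMap A B (a * b) ∉ w.asIdeal → algebraMap A B (a * b) ∉ w'.asIdeal → F' w = F' w' := by
      have key : ∀ w : PrimeSpectrum B, w.asIdeal.IsMaximal → algebraMap A B (a * b) ∉ w.asIdeal →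
          ∃ q : PrimeSpectrum (B ⧸ p), q.asIdeal.IsMaximal ∧
            F' w = F' (PrimeSpectrum.comap (Ideal.Quotient.mk p) q) := by
        intro w hw hwab
        have hy := hmaxA w.asIdeal hw
        have hay : a ∉ w.asIdeal.comap (algebraMap A B) := fun h => hwab (by
          rw [map_mul]; exact Ideal.mul_mem_right _ _ h)
        have hby : b ∉ w.asIdeal.comap (algebraMap A B) := fun h => hwab (by
          rw [map_mul]; exact Ideal.mul_mem_left _ _ h)
        obtain ⟨q, hq, hyq⟩ := hb _ hy hby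
        refine ⟨⟨q, hq.isPrime⟩, hq, step1 _ hy hay _ _ hw ?_ Ideal.map_comap_le ?_⟩
        · exact isMaximal_comap (Ideal.Quotient.mkₐ k p) q hq
        · rw [Ideal.map_le_iff_le_comap]
          intro x hx
          have h3 := hyq (Ideal.mem_map_of_mem _ hx)
          exact h3
      intro w w' hw hw' h h'
      obtain ⟨q, hq, hwq⟩ := key w hw h
      obtain ⟨q', hq', hwq'⟩ := key w' hw' h'
      rw [hwq, hwq']
      exact hF' (B ⧸ p) hdp (Ideal.Quotient.mkₐ k p) q q' hq hq'
    -- step 3
    have hab0 : algebraMap A B (a * b) ≠ 0 := fun h => mul_ne_zero ha0 hb0 ((map_eq_zero_iff _ hinjAB).1 h)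
    obtain ⟨j, d, hjd⟩ := IsLocalization.Away.surj s (algebraMap A B (a * b))
    have hd0 : d ≠ 0 := by
      rintro rfl
      rw [map_zero] at hjd
      have hu : IsUnit (algebraMap D B s ^ j) := (IsLocalization.Away.algebraMap_isUnit s).pow j
      exact hab0 ((hu.mul_left_eq_zero).1 hjd)
    have step3 : ∀ u u' : PrimeSpectrum D, u.asIdeal.IsMaximal → u'.asIdeal.IsMaximal → d * s ∉ u.asIdeal →
        d * s ∉ u'.asIdeal → F u = F u' := by
      have key : ∀ u : PrimeSpectrum D, u.asIdeal.IsMaximal → d * s ∉ u.asIdeal →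
          ∃ w : PrimeSpectrum B, w.asIdeal.IsMaximal ∧ algebraMap A B (a * b) ∉ w.asIdeal ∧
            PrimeSpectrum.comap (algebraMap D B) w = u := by
        intro u hu hdu
        have hsu : s ∉ u.asIdeal := fun h => hdu (Ideal.mul_mem_left _ _ h)
        have hdu' : d ∉ u.asIdeal := fun h => hdu (Ideal.mul_mem_right _ _ h)
        have hmax : (u.asIdeal.map (algebraMap D B)).IsMaximal :=
          IsLocalization.isMaximal_of_isMaximal_disjoint s u.asIdeal hu hsu
        have hcm : (u.asIdeal.map (algebraMap D B)).comap (algebraMap D B) = u.asIdeal :=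
          IsLocalization.under_map_of_isPrime_disjoint (Submonoid.powers s) B hu.isPrime
            ((Ideal.disjoint_powers_iff_notMem_of_isPrime s).2 hsu)
        refine ⟨⟨_, hmax.isPrime⟩, hmax, fun h => hdu' ?_, PrimeSpectrum.ext hcm⟩
        rw [← hcm, Ideal.mem_comap, ← hjd]
        exact Ideal.mul_mem_right _ _ h
      intro u u' hu hu' h h'
      obtain ⟨w, hw, hwab, rfl⟩ := key u hu h
      obtain ⟨w', hw', hwab', rfl⟩ := key u' hu' h'
      exact step2 w w' hw hw' hwab hwab'
    have hg0 : d * s ≠ 0 := mul_ne_zero hd0 hs0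
    have step4 : ∀ x : PrimeSpectrum D, x.asIdeal.IsMaximal → ∃ u : PrimeSpectrum D, u.asIdeal.IsMaximal ∧
        d * s ∉ u.asIdeal ∧ F x = F u := by
      intro x hx
      obtain ⟨p', hp', hpx, hgp, hdp'⟩ := CurveThrough.exists_prime_curve k (n + 1) D hn x.asIdeal _ hg0
      obtain ⟨u, hu, hpu, hgu⟩ := exists_maximal_not_mem p' hp' _ hgp
      refine ⟨u, hu, hgu, ?_⟩
      obtain ⟨x', hx', rfl⟩ := exists_quot p' x hx hpx
      obtain ⟨u', hu', rfl⟩ := exists_quot p' u hu hpu
      exact hF (D ⧸ p') hdp' (Ideal.Quotient.mkₐ k p') x' u' hx' hu'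
    obtain ⟨u, hu, hgu, e⟩ := step4 m hm
    obtain ⟨u', hu', hgu', e'⟩ := step4 m' hm'
    rw [e, e']
    exact step3 u u' hu hu' hgu hgu'

/-- **Curve principle, ring form.** -/
theorem const_of_good {D : Type u} [CommRing D] [IsDomain D] [Algebra k D] [Algebra.FiniteType k D]
    {S : Type v} {F : PrimeSpectrum D → S} (hF : Good k F) (m m' : PrimeSpectrum D)
    (hm : m.asIdeal.IsMaximal) (hm' : m'.asIdeal.IsMaximal) : F m = F m' := by
  obtain ⟨d, hd, -, -⟩ := Groth.Agent.CalgC.DimFT.exists_dim k D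
  exact const_of_good_aux d D hd.le F hF m m' hm hm'

end K506.CurveRing
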