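import Groth.Agent.AbVar.K506.Transl
import Groth.Agent.AbVar.K508.KL
import Groth.Agent.AbVar.K512.PhiSurj
import Groth.Agent.Books.AlgPts
import Groth.Agent.Sga3.H780.Pointed
import Groth.Agent.S0383
import Groth.Agent.S1841

/-!
# Divisibility of the group of classes algebraically equivalent to zero

* `phi_mem_alg0` : `t_a^* c - c` is algebraically equivalent to zero.
* `exists_pow_of_inv` : on an abelian variety a translation invariant class has an `m`-th root algebraically equivalent
  to zero.
* `exists_root` : `V` smooth of finite type; a class algebraically equivalent to zero has an `m`-th root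
  algebraically equivalent to zero.
* `inv_of_mem_alg0` : on a commutative group variety classes algebraically equivalent to zero are invariant.
-/

set_option autoImplicit false

universe u

open CategoryTheory MonoidalCategory CartesianMonoidalCategory MonObj GrpObj AlgebraicGeometry Limits

namespace K506.DivAlg

open Groth.Agent Groth.Agent.Grpsch.PicGrp Groth.Agent.Grpsch.Cube Groth.Agent.Pic13.H138.AlgEquiv Groth.Agent.Pic13.H138.Slice K506.Transl

variable {k : Type u} [Field k] [IsAlgClosed k]

section phi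

variable {A : Over (Spec (CommRingCat.of k))} [GrpObj A]

/-- The slice over a point, as a morphism over the base. -/
noncomputable def sl (a : 𝟙_ (Over (Spec (CommRingCat.of k))) ⟶ A) : A ⟶ A ⊗ A := lift (𝟙 A) (toUnit A ≫ a)

omit [IsAlgClosed k] [GrpObj A] in
theorem sliceAt_eq (a : 𝟙_ (Over (Spec (CommRingCat.of k))) ⟶ A) :
    Pic13.sliceAt k A.left A.hom a.left (Over.w a) = (sl a).left := by
  apply pullback.hom_ext
  · rw [sliceAt_fst]
    have h : (sl a ≫ fst A A).left = 𝟙 A.left := by rw [sl, lift_fst, Over.id_left]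
    exact h.symm
  · rw [sliceAt_snd]
    have h : (sl a ≫ snd A A).left = A.hom ≫ a.left := by
      rw [sl, lift_snd, Over.comp_left]
      rfl
    exact h.symm

theorem phi_mem_alg0 [ConnectedSpace A.left] [LocallyOfFiniteType A.hom] [QuasiCompact A.hom] (c : Pic A.left)
    (a : 𝟙_ (Over (Spec (CommRingCat.of k))) ⟶ A) : pl (tr a) c * c⁻¹ ∈ alg0 k A.left := by
  rw [mem_alg0_iff]
  refine ⟨A.left, A.hom, inferInstance, inferInstance, inferInstance,
    (pl (fst A A * snd A A) c * (pl (fst A A) c)⁻¹ : Pic (A ⊗ A).left), a.left, (1 : 𝟙_ _ ⟶ A).left, Over.w a,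
    Over.w _, ?_, ?_⟩
  · rw [fibCl, sliceAt_eq]
    change pl (sl a) _ = _
    rw [map_mul, map_inv, ← pl_comp, ← pl_comp, MonObj.comp_mul, sl, lift_fst, lift_snd]
    congr 2
    exact (congrArg (fun f => pull f c) (Over.id_left A)).trans (pull_id c)
  · rw [fibCl, sliceAt_eq]
    change pl (sl 1) _ = _
    rw [map_mul, map_inv, ← pl_comp, ← pl_comp, MonObj.comp_mul, sl, lift_fst, lift_snd, MonObj.comp_one, _root_.mul_one,
      mul_inv_cancel]

end phi

section div

variable {A : Over (Spec (CommRingCat.of k))} [GrpObj A] [IsProper A.hom] [GeometricallyIntegral A.hom]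

/-- Translation invariant classes are divisible by classes algebraically equivalent to zero. -/
theorem exists_pow_of_inv {q : Pic A.left} (hq : Inv q) (m : ℕ) (hm : 1 ≤ m) : ∃ r ∈ alg0 k A.left, r ^ m = q := by
  obtain ⟨M, hM⟩ := S1841.result k A
  obtain ⟨x, hx⟩ := K512.PhiSurj.exists_eq_of_isAmple M hM q hq
  obtain ⟨y, hy⟩ : ∃ y : 𝟙_ (Over (Spec (CommRingCat.of k))) ⟶ A, y ^ m = x := by
    obtain ⟨b, hb⟩ := Books.AlgPts.exists_comp_eq_of_pt_mem_range (𝟙 A ^ m) x ((S0383.result k A m hm).surj _)
    refine ⟨b, ?_⟩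
    rw [← hb, MonObj.comp_pow, Category.comp_id]
  have hint : IsIntegral A.left := GeometricallyIntegral.isIntegral_of_subsingleton A.hom
  refine ⟨pl (tr y) (mk M hM.1) * (mk M hM.1)⁻¹, phi_mem_alg0 _ y, ?_⟩
  have h := phi_pow (mk M hM.1) m y
  rw [hy] at h
  exact h.symm.trans hx

omit [IsAlgClosed k] in
theorem inv_of_isAdd {J : Over (Spec (CommRingCat.of k))} [GrpObj J] {q : Pic J.left} (hq : K508.KLJac.IsAdd J q) :
    Inv q := by
  intro a
  rw [pl, hq, Over.comp_left, pull_comp]
  have h1 : pull a.left q = 1 := pic_spec_local k _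
  rw [h1, map_one, _root_.mul_one]
  exact (congrArg (fun f => pull f q) (Over.id_left J)).trans (pull_id q)

end div

/-- The group of classes algebraically equivalent to zero is divisible. -/
theorem exists_root (V : Over (Spec (CommRingCat.of k))) [Smooth V.hom] [QuasiCompact V.hom] [ConnectedSpace V.left]
    {c : Pic V.left} (hc : c ∈ alg0 k V.left) (m : ℕ) (hm : 1 ≤ m) : ∃ r ∈ alg0 k V.left, r ^ m = c := by
  obtain ⟨-, v₀, -, -⟩ := (dense_points V).nonempty
  obtain ⟨J, _, g, Q, h1, h2, h3, h4, h5, h6⟩ := K508.KL.mem_klSub V v₀ hc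
  obtain ⟨r, hr, hrm⟩ := exists_pow_of_inv (inv_of_isAdd h5) m hm
  refine ⟨pull g.left r, pull_mem_alg0 (k := k) g.left (Over.w g) hr, ?_⟩
  rw [← map_pow, hrm, h6]

/-- On a group variety classes algebraically equivalent to zero are translation invariant. -/
theorem inv_of_mem_alg0 (G : Over (Spec (CommRingCat.of k))) [GrpObj G] [Smooth G.hom] [QuasiCompact G.hom]
    [ConnectedSpace G.left] {c : Pic G.left} (hc : c ∈ alg0 k G.left) : Inv c := by
  obtain ⟨J, _, g, Q, h1, h2, h3, h4, h5, rfl⟩ := K508.KL.mem_klSub G η[G] hc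
  have hg : IsMonHom g := Sga3.H780.Pointed.isMonHom_of_pointed G J g h3
  intro a
  change pl (tr a) (pl g Q) = pl g Q
  rw [← pl_comp, tr, MonObj.mul_comp, Category.id_comp, pl, h5, Category.assoc, Over.comp_left, pull_comp]
  have h6 : pull (a ≫ g).left Q = 1 := pic_spec_local k _
  rw [h6, map_one, _root_.mul_one]

end K506.DivAlg
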