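import Groth.Agent.CalgC.DimFT
import Groth.Agent.S2150
import Groth.Agent.FlatB.GenFibIrr
import Groth.Agent.Flat2E.FinSepClosure
import Mathlib.RingTheory.Localization.BaseChange

/-!
# Fibration of an affine variety by subvarieties over a curve
-/

set_option autoImplicit false
universe u

namespace K506.Fibration

open scoped TensorProduct

/-- Primality of the nilradical descends along injections. -/
theorem isPrime_nilradical_of_injective {R S : Type*} [CommRing R] [CommRing S] (f : R →+* S)
    (hf : Function.Injective f) (h : (nilradical S).IsPrime) : (nilradical R).IsPrime := by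
  have : nilradical R = (nilradical S).comap f := by
    ext x
    rw [Ideal.mem_comap, mem_nilradical, mem_nilradical]
    exact ⟨fun hx => hx.map f, fun hx => (IsNilpotent.map_iff hf).1 hx⟩
  rw [this]
  exact h.comap f

/-- Generic geometric irreducibility, ring form. -/
theorem isPrime_nilradical_tensor {A E B K Ω : Type u} [CommRing A] [IsDomain A] [Field E] [Algebra A E]
    [IsFractionRing A E] [CommRing B] [Algebra A B] [Field K] [Algebra B K] [Algebra A K] [IsScalarTower A B K]
    [Algebra E K] [IsScalarTower A E K] [FaithfulSMul B K] [Field Ω] [Algebra E Ω] [Algebra A Ω]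
    [IsScalarTower A E Ω] (h : (nilradical (Ω ⊗[E] K)).IsPrime) : (nilradical (Ω ⊗[A] B)).IsPrime := by
  have hflat1 : Module.Flat A E := IsLocalization.flat E (nonZeroDivisors A)
  have hflat : Module.Flat A Ω := Module.Flat.trans A E Ω
  let f1 : Ω ⊗[A] B →+* Ω ⊗[A] K :=
    (Algebra.TensorProduct.map (AlgHom.id A Ω) (IsScalarTower.toAlgHom A B K)).toRingHom
  have hf1 : Function.Injective f1 := by
    have := Module.Flat.lTensor_preserves_injective_linearMap (M := Ω)
      (IsScalarTower.toAlgHom A B K).toLinearMap (FaithfulSMul.algebraMap_injective B K)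
    exact this
  let f2 : Ω ⊗[A] K →+* Ω ⊗[E] K :=
    ((IsLocalization.algebraTensorEquiv (nonZeroDivisors A) E Ω K).symm : Ω ⊗[A] K →+* Ω ⊗[E] K)
  have hf2 : Function.Injective f2 :=
    (IsLocalization.algebraTensorEquiv (nonZeroDivisors A) E Ω K).symm.injective
  exact isPrime_nilradical_of_injective (f2.comp f1) (hf2.comp hf1) h

/-- The prime of a fibre. -/
theorem exists_prime_fibre {A B : Type u} [CommRing A] [CommRing B] [Algebra A B] (y : Ideal A)
    (h : (nilradical ((A ⧸ y) ⊗[A] B)).IsPrime) :
    ∃ P : Ideal B, P.IsPrime ∧ ∀ Q : Ideal B, Q.IsPrime → (y.map (algebraMap A B) ≤ Q ↔ P ≤ Q) := by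
  have h' : (nilradical (B ⧸ y.map (algebraMap A B))).IsPrime := by
    let e : (B ⧸ y.map (algebraMap A B)) ≃ₐ[A] (A ⧸ y) ⊗[A] B :=
      ((Algebra.TensorProduct.quotIdealMapEquivTensorQuot B y).restrictScalars A).trans
        (Algebra.TensorProduct.comm A B (A ⧸ y))
    exact isPrime_nilradical_of_injective (e : _ →+* (A ⧸ y) ⊗[A] B) e.injective h
  let φ := Ideal.Quotient.mk (y.map (algebraMap A B))
  have hker : RingHom.ker φ = y.map (algebraMap A B) := Ideal.mk_ker
  refine ⟨(nilradical (B ⧸ y.map (algebraMap A B))).comap φ, h'.comap φ, fun Q hQ => ?_⟩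
  have hk : y.map (algebraMap A B) ≤ Q ↔ RingHom.ker φ ≤ Q := by rw [hker]
  rw [hk]
  constructor
  · intro hle x hx
    rw [Ideal.mem_comap, mem_nilradical] at hx
    obtain ⟨n, hn⟩ := hx
    rw [← map_pow] at hn
    exact hQ.mem_of_pow_mem n (hle hn)
  · intro hle
    refine le_trans ?_ hle
    intro x hx
    rw [Ideal.mem_comap, (RingHom.mem_ker).1 hx]
    exact Submodule.zero_mem _

/-- Irreducibility of the general fibres. -/
theorem exists_ne_zero_prime_fibre {A B E K : Type u} [CommRing A] [IsDomain A] [Field E] [Algebra A E]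
    [IsFractionRing A E] [CommRing B] [Algebra A B] [Algebra.FiniteType A B] [Field K] [Algebra B K]
    [Algebra A K] [IsScalarTower A B K]
    [Algebra E K] [IsScalarTower A E K] [FaithfulSMul B K]
    (hsep : ∀ α : K, IsSeparable E α → α ∈ Set.range (algebraMap E K)) :
    ∃ a : A, a ≠ 0 ∧ ∀ y : Ideal A, y.IsMaximal → a ∉ y →
      ∃ P : Ideal B, P.IsPrime ∧ ∀ Q : Ideal B, Q.IsPrime → (y.map (algebraMap A B) ≤ Q ↔ P ≤ Q) := by
  let Ω := AlgebraicClosure E
  have hirr : (nilradical (Ω ⊗[E] K)).IsPrime :=
    PrimeSpectrum.irreducibleSpace_iff_isPrime_nilradical.1 (Groth.Agent.S2150.result.2 hsep Ω)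
  have h1 : (nilradical (Ω ⊗[A] B)).IsPrime := isPrime_nilradical_tensor (E := E) (K := K) hirr
  have : IrreducibleSpace (PrimeSpectrum (Ω ⊗[A] B)) :=
    PrimeSpectrum.irreducibleSpace_iff_isPrime_nilradical.2 h1
  have hinj : Function.Injective (algebraMap A Ω) := by
    rw [IsScalarTower.algebraMap_eq A E Ω]
    exact (algebraMap E Ω).injective.comp (IsFractionRing.injective A E)
  obtain ⟨a, ha, h⟩ := Groth.Agent.FlatB.GenFibIrr.exists_irreducible (A := A) B Ω hinj
  refine ⟨a, ha, fun y hy hay => ?_⟩
  letI : Field (A ⧸ y) := Ideal.Quotient.field y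
  have h2 := h (A ⧸ y) (fun h0 => hay (Ideal.Quotient.eq_zero_iff_mem.1 h0))
  exact exists_prime_fibre y (PrimeSpectrum.irreducibleSpace_iff_isPrime_nilradical.1 h2)

open IntermediateField IntermediateField.algebraAdjoinAdjoin in
/-- A finitely generated subfield of transcendence degree one, separably closed in `K`. -/
theorem exists_finset (k K : Type u) [Field k] [Field K] [Algebra k K] [Algebra.EssFiniteType k K] (τ : K) :
    ∃ S : Finset K, τ ∈ S ∧
      (∀ α : K, IsSeparable (IntermediateField.adjoin k (S : Set K)) α →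
        α ∈ Set.range (algebraMap (IntermediateField.adjoin k (S : Set K)) K)) ∧
      ∀ x ∈ IntermediateField.adjoin k (S : Set K), IsAlgebraic (Algebra.adjoin k {τ}) x := by
  classical
  let F := IntermediateField.adjoin k {τ}
  have : Algebra.EssFiniteType F K := .of_comp k F K
  let E := separableClosure F K
  have : FiniteDimensional F E := Groth.Agent.Flat2E.FinSepClosure.finiteDimensional_separableClosure
  obtain ⟨T, hT⟩ := (IntermediateField.essFiniteType_iff (K := E)).1 inferInstance
  refine ⟨insert τ T, Finset.mem_insert_self _ _, ?_, ?_⟩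
  · have h1 : IntermediateField.adjoin k ((insert τ T : Finset K) : Set K) = E.restrictScalars k := by
      rw [← hT, IntermediateField.adjoin_adjoin_left]
      congr 1
      ext x
      simp
    have h2 : ∀ α : K, IsSeparable (E.restrictScalars k) α →
        α ∈ Set.range (algebraMap (E.restrictScalars k) K) := by
      intro α hα
      have h3 : IsSeparable E α := hα
      have h4 : α ∈ separableClosure E K := mem_separableClosure_iff.2 h3
      rw [separableClosure.separableClosure_eq_bot, IntermediateField.mem_bot] at h4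
      exact h4
    rw [h1]
    exact h2
  · intro x hx
    have h1 : IntermediateField.adjoin k ((insert τ T : Finset K) : Set K) = E.restrictScalars k := by
      rw [← hT, IntermediateField.adjoin_adjoin_left]
      congr 1
      ext x
      simp
    rw [h1] at hx
    have h3 : IsSeparable F x := mem_separableClosure_iff.1 hx
    have h4 : IsAlgebraic F x := h3.isIntegral.isAlgebraic
    exact (IsFractionRing.isAlgebraic_iff (Algebra.adjoin k {τ}) F K).2 h4

end K506.Fibration
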