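import Groth.Agent.AbVar.K506.Fibration
import Mathlib.RingTheory.Localization.AsSubring

/-!
# Fibration of an open subset of an affine variety by subvarieties over a curve
-/

set_option autoImplicit false
universe u

namespace K506.Fibration2

open scoped TensorProduct
open IntermediateField.algebraAdjoinAdjoin

theorem trdeg_adjoin_singleton_le (k K : Type u) [Field k] [Field K] [Algebra k K] (τ : K) :
    Algebra.trdeg k (Algebra.adjoin k {τ}) ≤ 1 := by
  let f : Polynomial k →ₐ[k] Algebra.adjoin k {τ} :=
    Polynomial.aeval (⟨τ, Algebra.self_mem_adjoin_singleton k τ⟩ : Algebra.adjoin k {τ})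
  have hf : Function.Surjective f := by
    rintro ⟨x, hx⟩
    rw [Algebra.adjoin_singleton_eq_range_aeval] at hx
    obtain ⟨p, hp⟩ := hx
    refine ⟨p, Subtype.ext ?_⟩
    change ((Algebra.adjoin k {τ}).val (f p)) = x
    rw [← hp]
    change (Algebra.adjoin k {τ}).val (Polynomial.aeval _ p) = Polynomial.aeval τ p
    rw [← Polynomial.aeval_algHom_apply]
    rfl
  exact (trdeg_le_of_surjective f hf).trans (le_of_eq (Polynomial.trdeg_of_isDomain))

/-- `A ⊆ K` algebraic over `k[τ]`, `τ ∈ A` transcendental, `A` of finite type: then `dim A = 1`. -/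
theorem ringKrullDim_eq_one (k K : Type u) [Field k] [Field K] [Algebra k K] (τ : K) (hτ : Transcendental k τ)
    (A : Subalgebra k K) (hτA : τ ∈ A) (hA : ∀ x ∈ A, IsAlgebraic (Algebra.adjoin k {τ}) x)
    [Algebra.FiniteType k A] : ringKrullDim A = 1 := by
  obtain ⟨d, hd, htr, -⟩ := Groth.Agent.CalgC.DimFT.exists_dim k A
  have hle : Algebra.adjoin k {τ} ≤ A := Algebra.adjoin_le (by simpa using hτA)
  let _ : Algebra (Algebra.adjoin k {τ}) A := (Subalgebra.inclusion hle).toRingHom.toAlgebra
  have _i1 : IsScalarTower k (Algebra.adjoin k {τ}) A := IsScalarTower.of_algebraMap_eq fun _ => rfl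
  have _i2 : IsScalarTower (Algebra.adjoin k {τ}) A K := IsScalarTower.of_algebraMap_eq fun _ => rfl
  have _i3 : FaithfulSMul (Algebra.adjoin k {τ}) A := by
    rw [faithfulSMul_iff_algebraMap_injective]
    exact Subalgebra.inclusion_injective hle
  have _i4 : Algebra.IsAlgebraic (Algebra.adjoin k {τ}) A := by
    constructor
    intro x
    have h1 := hA x x.2
    exact (isAlgebraic_algebraMap_iff (R := Algebra.adjoin k {τ}) (S := A) (A := K)
      (Subtype.val_injective)).1 h1
  have h1 := trdeg_add_eq k (Algebra.adjoin k {τ}) (A := A)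
  rw [trdeg_eq_zero (R := Algebra.adjoin k {τ}) (A := A), add_zero] at h1
  have h2 : Algebra.trdeg k A ≤ 1 := h1 ▸ trdeg_adjoin_singleton_le k K τ
  have h3 : Algebra.trdeg k A ≠ 0 := by
    rw [trdeg_ne_zero_iff]
    refine ⟨⟨⟨τ, hτA⟩, fun h => hτ ?_⟩⟩
    exact h.algHom A.val
  rw [htr] at h2 h3
  have h4 : d ≤ 1 := by exact_mod_cast h2
  have h5 : d ≠ 0 := by exact_mod_cast h3
  rw [hd]
  have : d = 1 := by omega
  rw [this]; rfl

/-- **Fibration.** `D` a finite type domain of positive dimension over an algebraically closed field: a principal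
localization `B` of `D` is fibred over a one-dimensional finite type domain `A` with irreducible fibres over the
closed points of a nonempty open subset. -/
theorem exists_fibration (k : Type u) [Field k] (D : Type u) [CommRing D] [IsDomain D] [Algebra k D]
    [Algebra.FiniteType k D] (hd : 0 < ringKrullDim D) :
    ∃ (s : D) (_ : s ≠ 0) (B : Type u) (_ : CommRing B) (_ : IsDomain B) (_ : Algebra k B) (_ : Algebra D B)
      (_ : IsScalarTower k D B) (_ : IsLocalization.Away s B) (_ : Algebra.FiniteType k B)
      (A : Type u) (_ : CommRing A) (_ : IsDomain A)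
      (_ : Algebra k A) (_ : Algebra A B) (_ : IsScalarTower k A B) (_ : Algebra.FiniteType k A)
      (_ : FaithfulSMul A B), ringKrullDim A = 1 ∧ ∃ a : A, a ≠ 0 ∧ ∀ y : Ideal A, y.IsMaximal → a ∉ y →
        ∃ P : Ideal B, P.IsPrime ∧ ∀ Q : Ideal B, Q.IsPrime → (y.map (algebraMap A B) ≤ Q ↔ P ≤ Q) := by
  classical
  obtain ⟨d, hdd, htr, -⟩ := Groth.Agent.CalgC.DimFT.exists_dim k D
  have hd0 : d ≠ 0 := by
    rintro rfl
    rw [hdd] at hd
    exact absurd hd (by simp)
  have hT : Algebra.Transcendental k D := by
    rw [← trdeg_ne_zero_iff, htr]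
    exact_mod_cast hd0
  obtain ⟨t, ht⟩ := hT.transcendental
  let K := FractionRing D
  have _e1 : Algebra.EssFiniteType D K := Algebra.EssFiniteType.of_isLocalization K (nonZeroDivisors D)
  have _e2 : Algebra.EssFiniteType k K := Algebra.EssFiniteType.comp k D K
  let τ : K := algebraMap D K t
  have hτ : Transcendental k τ := fun h => ht (by
    exact (isAlgebraic_algebraMap_iff (R := k) (S := D) (A := K) (IsFractionRing.injective D K)).1 h)
  obtain ⟨S, hτS, hsep, halg⟩ := Fibration.exists_finset k K τ
  obtain ⟨b, hb⟩ := IsLocalization.exist_integer_multiples_of_finset (nonZeroDivisors D) S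
  have hb0 : (b : D) ≠ 0 := nonZeroDivisors.ne_zero b.2
  have hpow : Submonoid.powers (b : D) ≤ nonZeroDivisors D := by
    rintro _ ⟨n, rfl⟩
    exact mem_nonZeroDivisors_of_ne_zero (pow_ne_zero _ hb0)
  let B : Subalgebra D K := Localization.subalgebra.ofField K (Submonoid.powers (b : D)) hpow
  have hBloc : IsLocalization.Away (b : D) B :=
    inferInstanceAs (IsLocalization (Submonoid.powers (b : D)) (Localization.subalgebra.ofField K _ hpow))
  have hfp1 : Algebra.FinitePresentation D B := IsLocalization.Away.finitePresentation (b : D)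
  have hft1 : Algebra.FiniteType D B := inferInstance
  have hft2 : Algebra.FiniteType k B := Algebra.FiniteType.trans ‹_› hft1
  let A : Subalgebra k K := Algebra.adjoin k (S : Set K)
  have hAB : A ≤ B.restrictScalars k := by
    refine Algebra.adjoin_le fun x hx => ?_
    obtain ⟨c, hc⟩ := hb x hx
    change ∃ (a s : D) (_ : s ∈ Submonoid.powers (b : D)), x = algebraMap D K a * (algebraMap D K s)⁻¹
    refine ⟨c, b, Submonoid.mem_powers _, ?_⟩
    have hbK : algebraMap D K (b : D) ≠ 0 := by
      rw [Ne, IsFractionRing.to_map_eq_zero_iff]; exact hb0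
    rw [hc, Algebra.smul_def, mul_comm, inv_mul_cancel_left₀ hbK]
  let j : A →ₐ[k] B := Subalgebra.inclusion hAB
  let _ : Algebra A B := j.toRingHom.toAlgebra
  have i1 : IsScalarTower k A B := IsScalarTower.of_algebraMap_eq fun _ => rfl
  have i2 : IsScalarTower A B K := IsScalarTower.of_algebraMap_eq fun _ => rfl
  have i3 : FaithfulSMul A B := by
    rw [faithfulSMul_iff_algebraMap_injective]
    exact Subalgebra.inclusion_injective hAB
  have i4 : Algebra.FiniteType k A := (Subalgebra.fg_iff_finiteType _).1 ⟨S, rfl⟩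
  have i5 : Algebra.FiniteType A B := Algebra.FiniteType.of_restrictScalars_finiteType k A B
  have i6 : FaithfulSMul B K := by
    rw [faithfulSMul_iff_algebraMap_injective]
    exact Subtype.val_injective
  have hdim : ringKrullDim A = 1 := ringKrullDim_eq_one k K τ hτ A (Algebra.subset_adjoin hτS)
    (fun x hx => halg x (IntermediateField.algebra_adjoin_le_adjoin k _ hx))
  obtain ⟨a, ha, h⟩ := Fibration.exists_ne_zero_prime_fibre (A := A) (B := B)
    (E := IntermediateField.adjoin k (S : Set K)) (K := K) hsep
  exact ⟨b, hb0, B, inferInstance, inferInstance, inferInstance, inferInstance, inferInstance, hBloc, hft2,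
    A, inferInstance, inferInstance, inferInstance, inferInstance, i1, i4, i3, hdim, a, ha, h⟩

end K506.Fibration2
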