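import Groth.Agent.Variety.K433.GrowthId

/-!
# Cutting down by sections of powers of an ample module

`X` proper over a field, `H` ample with class `h`, `F` coherent.
* `exists_cut`: a coherent `G` with smaller support and an `a ≥ 1` with `h^q(F c) ≤ h^q(F h^a c) + h^{q-1}(G c)` and
  `h^q(G c) ≤ h^q(F h^a c) + h^{q+1}(F c)` for all classes `c`;
* `exists_chain`: if `h^q(F h^t m) = 0` for `q > i'` and `1 ≤ t ≤ A` then `h^{i'+r}(F m) ≤ h^{i'}(G m)`, with
  `dim Supp G < e - r`.
-/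

set_option autoImplicit false
universe u

open CategoryTheory CategoryTheory.Limits AlgebraicGeometry Opposite TopologicalSpace

namespace K506.Jump

open Groth.Agent Groth.Agent.Ega2 Groth.Agent.Fdesc.LocGen Groth.Agent.Fga.RegSec
open Groth.Agent.CohqB.SerTw Groth.Agent.Grpsch.PicGrp K433.Hq K433.Growth
open Groth.Agent.Pic13.H946.Core (cokSeq cokSeq_shortExact finrank_congr support_tw)

variable {X : Scheme.{u}} (k : Type u) [Field k] [X.Over (Spec (CommRingCat.of k))]
  [IsProper (X ↘ Spec (CommRingCat.of k))]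

/-- The inequalities of a section generating at the associated points. -/
theorem mulS_le {B : X.Modules} (hB : PicF.IsInvertible B) (s : Coh.structureModule X ⟶ B)
    {F : X.Modules} (hF : Coh.IsCoh F) (hAss : AssSch.Ass F ⊆ CohB1.genLocus B s) :
    Coh.IsCoh (cokernel (mulS s F)) ∧ CohB1.support (cokernel (mulS s F)) = CohB1.support F \ CohB1.genLocus B s ∧
      ∀ (q : ℕ) (c : Pic X),
        hq k q F c ≤ hq k q F (mk B hB * c) + hq k (q - 1) (cokernel (mulS s F)) c ∧
        hq k q (cokernel (mulS s F)) c ≤ hq k q F (mk B hB * c) + hq k (q + 1) F c := by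
  have := Fga.HypSec.isNoetherian k X
  have hBF : Coh.IsCoh (CohB1.tensorMod B F) :=
    Sga67.CohBasic.isCoh_of_iso (Ega2.Tens.swap F _) (Fga.TwistCoh.isCoh_tensor hF hB)
  have hmono : Mono (mulS s F) := mulS_mono s F hF (Sga67.CohBasic.isCoh_kernel _ hF hBF.1).1 hAss
  have hC : Coh.IsCoh (cokernel (mulS s F)) := isCoh_cokernel (mulS s F) hF.1 hBF
  refine ⟨hC, support_cokernel_mulS s F hB hF.2, fun q c => ?_⟩
  have h1 := hq_left_le k (cokSeq_shortExact (mulS s F)) hF hBF hC q c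
  have h2 := hq_right_le k (cokSeq_shortExact (mulS s F)) hF hBF hC q c
  have e : hq k q (cokSeq (mulS s F)).X₂ c = hq k q F (mk B hB * c) := hq_tensor' k q F hB c
  rw [e] at h1 h2
  exact ⟨h1, h2⟩

variable {H : X.Modules} (hH : CohB1.IsAmple H)

include hH

theorem exists_cut {F : X.Modules} (hF : Coh.IsCoh F) {e : ℕ} (he : DimLT (𝟙 X) (e + 1) F) :
    ∃ (a : ℕ) (G : X.Modules), 1 ≤ a ∧ Coh.IsCoh G ∧ DimLT (𝟙 X) e G ∧ ∀ (q : ℕ) (c : Pic X),
      hq k q F c ≤ hq k q F (mk H hH.1 ^ a * c) + hq k (q - 1) G c ∧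
      hq k q G c ≤ hq k q F (mk H hH.1 ^ a * c) + hq k (q + 1) F c := by
  have := Fga.HypSec.isNoetherian k X
  have := Fga.HypSec.isSeparated k X
  set T : Set X := CohB1.support F with hTdef
  have hT : IsClosed T := S0020.result X F hF.2
  have hTn : NoetherianSpace T := inferInstance
  have hcomp : (irreducibleComponents T).Finite := NoetherianSpace.finite_irreducibleComponents
  have hfc : Finite (irreducibleComponents T) := hcomp
  have hch : ∀ Z : irreducibleComponents T, ∃ z : T, z ∈ Z.1 := fun Z => Z.2.1.nonempty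
  choose z hz using hch
  obtain ⟨n, s, hZ, -, -⟩ := S2324.result X H hH (AssSch.Ass F ∪ Set.range fun Z => (z Z : X))
    ((Fdesc.SubFilt.finite_ass hF).union (Set.finite_range _)) ⊤ (fun _ _ => trivial)
  have hB : PicF.IsInvertible (CohB1.tensorPow H (n + 1)) := isInvertible_tensorPow hH.1 _
  obtain ⟨h1, h2, h3⟩ := mulS_le k hB s hF (Set.subset_union_left.trans hZ)
  refine ⟨n + 1, _, by omega, h1, ?_, ?_⟩
  · rw [dimLT_id_iff, h2]
    refine dim_diff_lt (CohB1.genLocus _ s : Set X) (CohB1.genLocus _ s).isOpen ?_ (dimLT_id_iff.mp he)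
    intro Z' hZ'
    exact ⟨z ⟨Z', hZ'⟩, hz ⟨Z', hZ'⟩, hZ (Or.inr ⟨⟨Z', hZ'⟩, rfl⟩)⟩
  · intro q c
    rw [← mk_tensorPow hH.1 (n + 1)]
    exact h3 q c

theorem exists_chain (r : ℕ) : ∀ (e : ℕ) {F : X.Modules} (_ : Coh.IsCoh F) (_ : DimLT (𝟙 X) e F),
    ∃ (A : ℕ) (G : X.Modules), Coh.IsCoh G ∧ DimLT (𝟙 X) (e - r) G ∧ ∀ (m : Pic X) (i' : ℕ),
      (∀ q t, i' < q → 1 ≤ t → t ≤ A → hq k q F (mk H hH.1 ^ t * m) = 0) →
        hq k (i' + r) F m ≤ hq k i' G m := by
  induction r with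
  | zero => exact fun e F hF he => ⟨0, F, hF, he, fun m i' _ => le_rfl⟩
  | succ r ih =>
    intro e F hF he
    cases e with
    | zero =>
      refine ⟨0, F, hF, by simpa using he, fun m i' _ => ?_⟩
      rw [hq_eq_zero k _ (dimLT_zero_iff.mp he)]
      exact Nat.zero_le _
    | succ e =>
      obtain ⟨a, G₁, ha, hG₁, hG₁e, hcut⟩ := exists_cut k hH hF he
      obtain ⟨A, G, hG, hGe, h⟩ := ih e hG₁ hG₁e
      refine ⟨A + a, G, hG, by rwa [Nat.succ_sub_succ], fun m i' hm => ?_⟩
      have h1 := h m i' (fun q t hq' ht htA => by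
        have h2 := (hcut q (mk H hH.1 ^ t * m)).2
        rw [← mul_assoc, ← pow_add, hm q (a + t) hq' (by omega) (by omega), hm (q + 1) t (by omega) ht (by omega)] at h2
        omega)
      have h3 := (hcut (i' + (r + 1)) m).1
      rw [hm (i' + (r + 1)) a (by omega) ha (by omega), zero_add] at h3
      exact h3.trans h1

/-- The jump inequality: uniform bound for `h^{i' + r}(c^N d^n)` when the next few twists by `h` have no cohomology
above `i'`. -/
theorem exists_bound {g : ℕ} (hg : topologicalKrullDim X ≤ g) (c d : Pic X) (r i' : ℕ) :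
    ∃ A C : ℕ, ∀ N n : ℕ,
      (∀ q t, i' < q → 1 ≤ t → t ≤ A → hq k q (Coh.structureModule X) (mk H hH.1 ^ t * (c ^ N * d ^ n)) = 0) →
        hq k (i' + r) (Coh.structureModule X) (c ^ N * d ^ n) ≤ C * phi (g + 1 - r) (N + n) := by
  have := Fga.HypSec.isNoetherian k X
  have := Fga.HypSec.isSeparated k X
  have hO : Coh.IsCoh (Coh.structureModule X) := CurvesC.UnitCoh.isCoh_unit _
  have hd : DimLT (𝟙 X) (g + 1) (Coh.structureModule X) :=
    dimLT_succ_of_le ((Topology.IsInducing.subtypeVal.topologicalKrullDim_le).trans hg)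
  obtain ⟨A, G, hG, hGe, h⟩ := exists_chain k hH r (g + 1) hO hd
  obtain ⟨C, hC⟩ := bound_zpow k hH (isClosedMap_id' X) (bdd_singleton k 1) ![c, d] _ hG hGe i'
  refine ⟨A, C, fun N n hv => (h _ i' hv).trans ?_⟩
  have h2 := hC 1 rfl ![(N : ℤ), (n : ℤ)]
  simpa [Fin.prod_univ_two, Fin.sum_univ_two, pull_id] using h2

/-- The case `r = 1`, for all degrees: with a step `a` independent of the degree. -/
theorem exists_step {g : ℕ} (hg : topologicalKrullDim X ≤ g) (c d : Pic X) (Q : ℕ) :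
    ∃ a C : ℕ, 1 ≤ a ∧ ∀ N n q : ℕ, q ≤ Q →
      hq k q (Coh.structureModule X) (mk H hH.1 ^ a * (c ^ N * d ^ n)) = 0 →
        hq k q (Coh.structureModule X) (c ^ N * d ^ n) ≤ C * phi g (N + n) := by
  have := Fga.HypSec.isNoetherian k X
  have := Fga.HypSec.isSeparated k X
  have hO : Coh.IsCoh (Coh.structureModule X) := CurvesC.UnitCoh.isCoh_unit _
  have hd : DimLT (𝟙 X) (g + 1) (Coh.structureModule X) :=
    dimLT_succ_of_le ((Topology.IsInducing.subtypeVal.topologicalKrullDim_le).trans hg)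
  obtain ⟨a, G, ha, hG, hGe, hcut⟩ := exists_cut k hH hO hd
  have hb := fun q => bound_zpow k hH (isClosedMap_id' X) (bdd_singleton k 1) ![c, d] _ hG hGe q
  choose C hC using hb
  refine ⟨a, ∑ q ∈ Finset.range (Q + 1), C q, ha, fun N n q hq' hz => ?_⟩
  have h1 := (hcut q (c ^ N * d ^ n)).1
  rw [hz, zero_add] at h1
  have h2 := hC (q - 1) 1 rfl ![(N : ℤ), (n : ℤ)]
  have h3 : hq k (q - 1) G (c ^ N * d ^ n) ≤ C (q - 1) * phi g (N + n) := by
    simpa [Fin.prod_univ_two, Fin.sum_univ_two, pull_id] using h2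
  refine h1.trans (h3.trans (Nat.mul_le_mul_right _ ?_))
  exact Finset.single_le_sum (f := C) (fun _ _ => Nat.zero_le _) (Finset.mem_range.2 (by omega))

end K506.Jump
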