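import Groth.Agent.AbVar.K506.KOrd
import Groth.Agent.AbVar.K529.KL
import Groth.Agent.TopDim.K284.Basic
import Groth.Agent.Books.AlgPts
import Groth.Agent.S4367

/-!
# The dimension of `K(L)` and the Hilbert polynomial

* `order_eq` (`k` algebraically closed): the order of vanishing at `0` of `χ(c h^n)`, `h` ample, is the dimension of
  the closed set `K(c)`;
* `dim_KL` : the same over any field.
-/

set_option autoImplicit false
set_option linter.unusedSectionVars false
universe u

open CategoryTheory CategoryTheory.Limits MonoidalCategory CartesianMonoidalCategory AlgebraicGeometry TopologicalSpace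
open scoped MonObj
open Groth.Agent Groth.Agent.Grpsch.PicGrp Groth.Agent.Grpsch.Cube K524.Index K524.Chi
open K506.Transl (tr phi Inv)
open K506.ChiBox K506.BoxDec K506.KOrd Groth.Agent.Books.AlgPts

namespace K506.KDim

theorem dim_le_of_cover {T J : Type*} [TopologicalSpace T] {F : Set J} (hF : F.Finite) {W : J → Set T}
    (hW : ∀ i ∈ F, IsClosed (W i)) {Z : Set T} (hZ : Z ⊆ ⋃ i ∈ F, W i) {d : WithBot ℕ∞}
    (h : ∀ i ∈ F, topologicalKrullDim (W i) ≤ d) : topologicalKrullDim Z ≤ d := by
  classical
  rw [K284.TopDim.dim_eq_iSup_irreducibleComponents]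
  refine iSup₂_le fun Y hY => ?_
  have h1 : IsIrreducible (Subtype.val '' Y : Set T) := hY.1.image _ continuous_subtype_val.continuousOn
  obtain ⟨V, hV, hYV⟩ := isIrreducible_iff_sUnion_isClosed.1 h1 (hF.toFinset.image W) (by
    intro z hz
    obtain ⟨i, hi, rfl⟩ := Finset.mem_image.1 hz
    exact hW i (hF.mem_toFinset.1 hi)) (by
    rintro _ ⟨y, hy, rfl⟩
    obtain ⟨i, hi, hyi⟩ := Set.mem_iUnion₂.1 (hZ y.2)
    exact ⟨W i, Finset.mem_coe.2 (Finset.mem_image.2 ⟨i, hF.mem_toFinset.2 hi, rfl⟩), hyi⟩)
  obtain ⟨i, hi, rfl⟩ := Finset.mem_image.1 hV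
  refine le_trans ?_ (h i (hF.mem_toFinset.1 hi))
  let g : Y → W i := fun y => ⟨y.1.1, hYV ⟨y.1, y.2, rfl⟩⟩
  have hg : Topology.IsInducing g := by
    have h2 : Topology.IsInducing ((Subtype.val : Z → T) ∘ (Subtype.val : Y → Z)) :=
      Topology.IsInducing.subtypeVal.comp Topology.IsInducing.subtypeVal
    exact (Topology.IsInducing.of_comp_iff (g := (Subtype.val : W i → T)) Topology.IsInducing.subtypeVal).1 h2
  exact hg.topologicalKrullDim_le

/-- The dimension of the image of a finite morphism. -/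
theorem dim_range {X Y : Scheme.{u}} (f : X ⟶ Y) [IsFinite f] :
    topologicalKrullDim (Set.range f) = topologicalKrullDim X := by
  have hcl : IsClosed (Set.range f) := f.isClosedMap.isClosed_range
  have : T0Space (Set.range f) := inferInstance
  have : QuasiSober (Set.range f) := hcl.isClosedEmbedding_subtypeVal.quasiSober
  refine (Groth.Agent.Sga3C.DimTop.topologicalKrullDim_eq_of_closedMap (Set.rangeFactorization f)
    (f.continuous.subtype_mk _) ?_ Set.rangeFactorization_surjective ?_).symm
  · exact f.isClosedMap.subtype_mk _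
  · intro x x' h he
    exact Groth.Agent.Sga3C.DimTop.eq_of_specializes_of_isIntegralHom f x x' h (congrArg Subtype.val he)

section closed

variable {k : Type u} [Field k] [IsAlgClosed k] {X B C : Over (Spec (CommRingCat.of k))} [GrpObj X] [GrpObj B] [GrpObj C]
  [IsProper X.hom] [GeometricallyIntegral X.hom] [IsProper B.hom] [GeometricallyIntegral B.hom]
  [IsProper C.hom] [GeometricallyIntegral C.hom]

/-- The points of `K(c)`, up to isogeny. -/
theorem mem_iff_of_box {f : B ⊗ C ⟶ X} [IsMonHom f] {c : Pic X.left} {p : Pic B.left} {m : Pic C.left}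
    (h : pl f c = pl (fst B C) p * pl (snd B C) m) (hp : Inv p) (b : 𝟙_ (Over (Spec (CommRingCat.of k))) ⟶ B)
    (y : 𝟙_ (Over (Spec (CommRingCat.of k))) ⟶ C) :
    pl f (phi c (lift b y ≫ f)) = pl (snd B C) (phi m y) := by
  have i1 : IsProper (B ⊗ C).hom := K520.Prod.isProper_tensor B C
  have i2 : GeometricallyIntegral (B ⊗ C).hom := K520.Prod.geometricallyIntegral_tensor B C
  rw [← K524.Index.phi_pl, h, K506.Transl.phi_cmul, K524.Index.phi_pl, K524.Index.phi_pl, lift_fst, lift_snd,
    (K506.Transl.inv_iff_phi p).1 hp, map_one, one_mul]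

theorem dim_of_box {f : B ⊗ C ⟶ X} [IsMonHom f] [IsFinite f.left] [Surjective f.left] {c : Pic X.left} {p : Pic B.left}
    {m : Pic C.left} (h : pl f c = pl (fst B C) p * pl (snd B C) m) (hp : Inv p) (hm : ND m)
    {Z : Set X.left} (hZ : IsClosed Z) (hZc : ∀ x : 𝟙_ (Over (Spec (CommRingCat.of k))) ⟶ X, pt x ∈ Z ↔ phi c x = 1) :
    topologicalKrullDim Z = topologicalKrullDim B.left := by
  have i1 : IsProper (B ⊗ C).hom := K520.Prod.isProper_tensor B C
  have i2 : GeometricallyIntegral (B ⊗ C).hom := K520.Prod.geometricallyIntegral_tensor B C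
  let g : (𝟙_ (Over (Spec (CommRingCat.of k))) ⟶ C) → (B ⟶ X) := fun y => lift (𝟙 B) (toUnit B ≫ y) ≫ f
  have hg : ∀ y, IsFinite (g y).left := fun y => by
    have e1 : IsClosedImmersion (lift (𝟙 B) (toUnit B ≫ y)).left := by
      have e2 : (lift (𝟙 B) (toUnit B ≫ y)).left ≫ (fst B C).left = 𝟙 _ := by
        rw [← Over.comp_left, lift_fst, Over.id_left]
      have e3 : IsSeparated (fst B C).left := by
        have : (fst B C).left = pullback.fst B.hom C.hom := rfl
        rw [this]
        infer_instance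
      have e4 : IsClosedImmersion ((lift (𝟙 B) (toUnit B ≫ y)).left ≫ (fst B C).left) := by
        rw [e2]
        infer_instance
      exact IsClosedImmersion.of_comp _ (fst B C).left
    change IsFinite (lift (𝟙 B) (toUnit B ≫ y) ≫ f).left
    rw [Over.comp_left]
    infer_instance
  have hgb : ∀ (b : 𝟙_ (Over (Spec (CommRingCat.of k))) ⟶ B) y, b ≫ g y = lift b y ≫ f := fun b y => by
    change b ≫ lift (𝟙 B) (toUnit B ≫ y) ≫ f = _
    rw [← Category.assoc, comp_lift, Category.comp_id, ← Category.assoc, toUnit_unique (b ≫ toUnit B) (𝟙 _),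
      Category.id_comp]
  apply le_antisymm
  · refine dim_le_of_cover (F := {y : 𝟙_ (Over (Spec (CommRingCat.of k))) ⟶ C | phi m y = 1}) hm
      (W := fun y => Set.range (g y).left) (fun y _ => ?_) ?_ (fun y _ => ?_)
    · have := hg y
      exact (g y).left.isClosedMap.isClosed_range
    · refine subset_of_forall_pt hZ.isLocallyClosed ?_ ?_
      · refine Set.Finite.isClosed_biUnion hm fun y _ => ?_
        have := hg y
        exact (g y).left.isClosedMap.isClosed_range
      · intro x hx
        obtain ⟨z, rfl⟩ := exists_comp_eq_of_pt_mem_range f x (f.left.surjective _)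
        have hz : z = lift (z ≫ fst B C) (z ≫ snd B C) := by
          apply CartesianMonoidalCategory.hom_ext
          · rw [lift_fst]
          · rw [lift_snd]
        generalize z ≫ fst B C = b at hz
        generalize z ≫ snd B C = y at hz
        subst hz
        have h1 := mem_iff_of_box h hp b y
        rw [(hZc _).1 hx, map_one] at h1
        have h2 : phi m y = 1 := by
          have h3 := congrArg (pl (lift (1 : C ⟶ B) (𝟙 C))) h1
          rw [map_one, ← pl_comp, lift_snd] at h3
          exact ((K518.Phi.pl_id _).symm.trans h3.symm)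
        refine Set.mem_biUnion (x := y) h2 ?_
        rw [← hgb, pt_comp]
        exact ⟨_, rfl⟩
    · have := hg y
      exact (dim_range (g y).left).le
  · have h1 : Set.range (g 1).left ⊆ Z := by
      have h2 : (Set.univ : Set B.left) ⊆ (g 1).left ⁻¹' Z := by
        refine subset_of_forall_pt isClosed_univ.isLocallyClosed (hZ.preimage (g 1).left.continuous) ?_
        intro b _
        have h3 : pt (b ≫ g 1) ∈ Z := by
          rw [hZc, hgb]
          obtain ⟨n, v, hn, hv, hv1, hv2⟩ := K512.IsogIdx.exists_rev f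
          obtain ⟨b', rfl⟩ : ∃ b' : 𝟙_ (Over (Spec (CommRingCat.of k))) ⟶ B, b' ^ n = b := by
            obtain ⟨b', hb'⟩ := exists_comp_eq_of_pt_mem_range (𝟙 B ^ n) b ((S0383.result k B n hn).surj _)
            refine ⟨b', ?_⟩
            rw [← hb', MonObj.comp_pow, Category.comp_id]
          have h4 : lift (b' ^ n) (1 : 𝟙_ (Over (Spec (CommRingCat.of k))) ⟶ C) ≫ f = (lift b' 1 ≫ f) ^ n := by
            rw [← MonObj.pow_comp, lift_pow, one_pow]
          rw [h4, K506.Transl.phi_pow]
          have h5 : pl f (phi c (lift b' 1 ≫ f)) = 1 := by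
            rw [mem_iff_of_box h hp, K506.Transl.phi_one, map_one]
          have h6 := congrArg (pl v) h5
          rw [map_one, ← pl_comp, hv2] at h6
          have h7 : phi c (lift b' 1 ≫ f) ∈ K518.Phi.Inv X := K518.Phi.phi_mem_Inv c _
          rw [K518.Phi.pl_pow_of_inv h7, K518.Phi.pl_id] at h6
          exact h6
        rw [pt_comp] at h3
        exact h3
      rintro _ ⟨x, rfl⟩
      exact h2 (Set.mem_univ x)
    have := hg 1
    rw [← dim_range (g 1).left]
    exact (Topology.IsEmbedding.inclusion h1).isInducing.topologicalKrullDim_le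

theorem chi_pl_ne_zero {A Y : Over (Spec (CommRingCat.of k))} [GrpObj A] [IsProper A.hom] [GeometricallyIntegral A.hom]
    (j : A ⟶ Y) [IsFinite j.left] {H : Y.left.Modules} (hH : CohB1.IsAmple H) :
    chi (X := A) (pl j (mk H hH.1)) ≠ 0 := by
  rw [pl, pull_mk]
  exact chi_ne_zero_of_nd (nd_of_isAmple (Sga5.AmpleFib.isAmple_pullback j.left hH))

/-- The order of vanishing at `0` of the Hilbert polynomial of a class is the dimension of `K(c)`. -/
theorem order_eq (c : Pic X.left) {H : X.left.Modules} (hH : CohB1.IsAmple H) (Φ : Polynomial ℚ)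
    (hΦ : ∀ n : ℕ, Φ.eval (n : ℚ) = (chi (X := X) (c * mk H hH.1 ^ n) : ℚ)) {Z : Set X.left} (hZ : IsClosed Z)
    (hZc : ∀ x : 𝟙_ (Over (Spec (CommRingCat.of k))) ⟶ X, pt x ∈ Z ↔ phi c x = 1) :
    topologicalKrullDim Z = ((Φ.rootMultiplicity 0 : ℕ) : WithBot ℕ∞) := by
  obtain ⟨n, hn⟩ := exists_dim X
  obtain ⟨B, C, _, _, f, p, m, j1, j2, j3, j4, j5, j6, j7, h, hp, hm⟩ := exists_dec n X hn c
  have i1 : IsProper (B ⊗ C).hom := K520.Prod.isProper_tensor B C
  have i2 : GeometricallyIntegral (B ⊗ C).hom := K520.Prod.geometricallyIntegral_tensor B C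
  obtain ⟨dB, hB⟩ := exists_dim B
  obtain ⟨dC, hC⟩ := exists_dim C
  obtain ⟨D, hD, hDc⟩ := exists_deg f
  have k1 : IsClosedImmersion (iB B C).left := by
    have e2 : (iB B C).left ≫ (fst B C).left = 𝟙 _ := by
      rw [← Over.comp_left, lift_fst, Over.id_left]
    have e3 : IsSeparated (fst B C).left := by
      have : (fst B C).left = pullback.fst B.hom C.hom := rfl
      rw [this]
      infer_instance
    have e4 : IsClosedImmersion ((iB B C).left ≫ (fst B C).left) := by
      rw [e2]
      infer_instance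
    exact IsClosedImmersion.of_comp _ (fst B C).left
  have k2 : IsClosedImmersion (iC B C).left := by
    have e2 : (iC B C).left ≫ (snd B C).left = 𝟙 _ := by
      rw [← Over.comp_left, lift_snd, Over.id_left]
    have e3 : IsSeparated (snd B C).left := by
      have : (snd B C).left = pullback.snd B.hom C.hom := rfl
      rw [this]
      infer_instance
    have e4 : IsClosedImmersion ((iC B C).left ≫ (snd B C).left) := by
      rw [e2]
      infer_instance
    exact IsClosedImmersion.of_comp _ (snd B C).left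
  have k3 : IsFinite (iB B C ≫ f).left := by
    rw [Over.comp_left]
    infer_instance
  have k4 : IsFinite (iC B C ≫ f).left := by
    rw [Over.comp_left]
    infer_instance
  have hroot := order_box hB hC hp hm (h := pl f (mk H hH.1)) (by rw [← pl_comp]; exact chi_pl_ne_zero _ hH)
    (by rw [← pl_comp]; exact chi_pl_ne_zero _ hH) (Polynomial.C (D : ℚ) * Φ) (by
      intro n
      rw [← h, ← map_pow, ← map_mul, hDc, Polynomial.eval_mul, Polynomial.eval_C, hΦ]
      push_cast
      rfl)
  have hD' : (D : ℚ) ≠ 0 := by exact_mod_cast (by omega : D ≠ 0)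
  have e5 : (Polynomial.C (D : ℚ) * Φ).rootMultiplicity 0 = Φ.rootMultiplicity 0 := by
    by_cases h0 : Φ = 0
    · rw [h0, mul_zero]
    · rw [Polynomial.rootMultiplicity_mul (mul_ne_zero (by rwa [Ne, Polynomial.C_eq_zero]) h0),
        Polynomial.rootMultiplicity_C, zero_add]
  rw [dim_of_box h hp hm hZ hZc, hB, ← e5, hroot]

end closed

section bc

open K524.Bc

attribute [local instance] Functor.grpObjObj

variable {k : Type u} [Field k] (K' : Type u) [Field K'] [Algebra k K']

/-- The morphism to `X` underlying a morphism to the base change. -/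
noncomputable def adjn {X : Over (Spec (CommRingCat.of k))} {T : Over (Spec (CommRingCat.of K'))} (a : T ⟶ bc K' X) :
    (Over.map (t k K')).obj T ⟶ X := ((Over.mapPullbackAdj (t k K')).homEquiv T X).symm a

theorem adjn_left {X : Over (Spec (CommRingCat.of k))} {T : Over (Spec (CommRingCat.of K'))} (a : T ⟶ bc K' X) :
    (adjn K' a).left = a.left ≫ pr K' X := by
  unfold adjn
  rw [Over.mapPullbackAdj, Adjunction.mkOfHomEquiv_homEquiv]
  rfl

theorem adjn_mul {X : Over (Spec (CommRingCat.of k))} [GrpObj X] {T : Over (Spec (CommRingCat.of K'))}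
    (a b : T ⟶ bc K' X) : adjn K' (a * b) = adjn K' a * adjn K' b := by
  unfold adjn
  rw [Equiv.symm_apply_eq, (Over.mapPullbackAdj (t k K')).homEquiv_unit, CategoryTheory.Functor.map_mul, MonObj.comp_mul,
    ← (Over.mapPullbackAdj (t k K')).homEquiv_unit, ← (Over.mapPullbackAdj (t k K')).homEquiv_unit,
    Equiv.apply_symm_apply, Equiv.apply_symm_apply]

/-- `Spec K'` as a `k`-scheme. -/
noncomputable abbrev TK (k : Type u) [Field k] (K' : Type u) [Field K'] [Algebra k K'] :
    Over (Spec (CommRingCat.of k)) := Over.mk (t k K')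

/-- The `K'`-point of `X` underlying a rational point of the base change. -/
noncomputable def ptk {X : Over (Spec (CommRingCat.of k))} (a : 𝟙_ (Over (Spec (CommRingCat.of K'))) ⟶ bc K' X) : TK k K' ⟶ X :=
  Over.homMk (a.left ≫ pr K' X) (by
    have h1 := (isPullback_pr K' X).w
    have h2 : a.left ≫ (bc K' X).hom = 𝟙 _ := Over.w a
    change (a.left ≫ pr K' X) ≫ X.hom = t k K'
    rw [Category.assoc, h1, ← Category.assoc, h2]
    exact Category.id_comp _)

theorem ptk_comp {Y X : Over (Spec (CommRingCat.of k))} (i : Y ⟶ X)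
    (w : 𝟙_ (Over (Spec (CommRingCat.of K'))) ⟶ bc K' Y) :
    ptk K' w ≫ i = ptk K' (w ≫ (Over.pullback (t k K')).map i) := by
  ext1
  change (w.left ≫ pr K' Y) ≫ i.left = (w ≫ (Over.pullback (t k K')).map i).left ≫ pr K' X
  rw [Over.comp_left, Category.assoc, Category.assoc, map_pr]

/-- Lifting points to the base change. -/
theorem exists_ptk {Y : Over (Spec (CommRingCat.of k))} (y : TK k K' ⟶ Y) :
    ∃ w : 𝟙_ (Over (Spec (CommRingCat.of K'))) ⟶ bc K' Y, ptk K' w = y := by
  have hy : y.left ≫ Y.hom = 𝟙 _ ≫ t k K' := (Over.w y).trans (Category.id_comp _).symm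
  refine ⟨Over.homMk ((isPullback_pr K' Y).lift y.left (𝟙 _) hy) ((isPullback_pr K' Y).lift_snd _ _ _), ?_⟩
  ext1
  exact (isPullback_pr K' Y).lift_fst _ _ _

theorem ptk_injective {Y : Over (Spec (CommRingCat.of k))} {w w' : 𝟙_ (Over (Spec (CommRingCat.of K'))) ⟶ bc K' Y}
    (h : ptk K' w = ptk K' w') : w = w' := by
  ext1
  apply (isPullback_pr K' Y).hom_ext
  · exact congrArg CommaMorphism.left h
  · exact (Over.w w).trans (Over.w w').symm

theorem isPullback_map {Y X : Over (Spec (CommRingCat.of k))} (i : Y ⟶ X) :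
    IsPullback ((Over.pullback (t k K')).map i).left (pr K' Y) (pr K' X) i.left := by
  refine IsPullback.of_right (h₁₂ := (bc K' X).hom) (v₁₃ := t k K') (h₂₂ := X.hom) ?_ (map_pr K' i)
    (isPullback_pr K' X).flip
  rw [Over.w, Over.w i]
  exact (isPullback_pr K' Y).flip

variable {X : Over (Spec (CommRingCat.of k))} [GrpObj X]

theorem transl_eq (a : 𝟙_ (Over (Spec (CommRingCat.of K'))) ⟶ bc K' X) :
    (fst X (TK k K') * (snd X (TK k K') ≫ ptk K' a)).left = (tr a).left ≫ pr K' X := by
  let e : X ⊗ TK k K' ⟶ (Over.map (t k K')).obj (bc K' X) := Over.homMk (𝟙 (pullback X.hom (t k K'))) (by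
    change 𝟙 (pullback X.hom (t k K')) ≫ (pullback.snd X.hom (t k K') ≫ t k K') = pullback.fst X.hom (t k K') ≫ X.hom
    rw [Category.id_comp, pullback.condition])
  have h1 : fst X (TK k K') = e ≫ adjn K' (𝟙 (bc K' X)) := by
    ext1
    rw [Over.comp_left, adjn_left]
    change pullback.fst X.hom (t k K') = 𝟙 _ ≫ 𝟙 _ ≫ pullback.fst X.hom (t k K')
    rw [Category.id_comp, Category.id_comp]
  have h2 : snd X (TK k K') ≫ ptk K' a = e ≫ adjn K' (toUnit (bc K' X) ≫ a) := by
    ext1
    rw [Over.comp_left, Over.comp_left, adjn_left, Over.comp_left]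
    have h3 : (toUnit (bc K' X)).left = (bc K' X).hom := (Category.comp_id _).symm.trans (Over.w (toUnit (bc K' X)))
    rw [h3]
    change pullback.snd X.hom (t k K') ≫ a.left ≫ pr K' X = 𝟙 _ ≫ (pullback.snd X.hom (t k K') ≫ a.left) ≫ pr K' X
    rw [Category.id_comp, Category.assoc]
  rw [h1, h2, ← MonObj.comp_mul, ← adjn_mul, Over.comp_left, adjn_left]
  exact Category.id_comp _

theorem factor_iff {L : X.left.Modules} (hL : PicF.IsInvertible L) {K : Over (Spec (CommRingCat.of k))} {i : K ⟶ X}
    (hK : ThetaGrp.IsKL X L i) (a : 𝟙_ (Over (Spec (CommRingCat.of K'))) ⟶ bc K' X) :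
    (∃ y : TK k K' ⟶ K, y ≫ i = ptk K' a) ↔ phi (A := bc K' X) (pull (pr K' X) (mk L hL)) a = 1 := by
  rw [K529.KL.exists_factor_iff hL hK]
  have e1 : pl (fst X (TK k K') * (snd X (TK k K') ≫ ptk K' a)) (mk L hL) =
      pl (tr a) (pull (pr K' X) (mk L hL)) := by
    rw [pl, transl_eq, pull_comp]
  have e2 : pl (snd X (TK k K') ≫ ptk K' a) (mk L hL) = 1 := by
    rw [pl_comp]
    have : pl (ptk K' a) (mk L hL) = 1 := pic_spec_local K' _
    rw [this, map_one]
  have e3 : pl (fst X (TK k K')) (mk L hL) = pull (pr K' X) (mk L hL) := rfl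
  rw [e1, e2, e3, mul_one, phi, mul_inv_eq_one]

/-- **The dimension of `K(L)`** is the order of vanishing at `0` of the Hilbert polynomial. -/
theorem dim_KL [IsProper X.hom] [GeometricallyIntegral X.hom] {L : X.left.Modules} (hL : PicF.IsInvertible L)
    {K : Over (Spec (CommRingCat.of k))} {i : K ⟶ X} (hK : ThetaGrp.IsKL X L i) {H : X.left.Modules}
    (hH : CohB1.IsAmple H) (Φ : Polynomial ℚ)
    (hΦ : ∀ n : ℕ, Φ.eval (n : ℚ) = (chi (X := X) (mk L hL * mk H hH.1 ^ n) : ℚ)) :
    topologicalKrullDim K.left = ((Φ.rootMultiplicity 0 : ℕ) : WithBot ℕ∞) := by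
  let K' := AlgebraicClosure k
  have hcl : IsClosedImmersion i.left := hK.closed
  have hft : LocallyOfFiniteType K.hom := by
    rw [← Over.w i]
    infer_instance
  let i' : bc K' K ⟶ bc K' X := (Over.pullback (t k K')).map i
  have hsq : IsPullback i'.left (pr K' K) (pr K' X) i.left := isPullback_map K' i
  have hcl' : IsClosedImmersion i'.left := MorphismProperty.of_isPullback (P := @IsClosedImmersion) hsq.flip hcl
  have h1 : topologicalKrullDim (Set.range i'.left) = topologicalKrullDim K.left := by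
    rw [dim_range, dim_bc]
  rw [← h1]
  have hH' : CohB1.IsAmple ((Scheme.Modules.pullback (pr K' X)).obj H) := by
    have : IsAffineHom (pr K' X) :=
      MorphismProperty.of_isPullback (P := @IsAffineHom) (isPullback_pr K' X).flip (inferInstanceAs (IsAffineHom (Spec.map _)))
    exact Sga5.AmpleFib.isAmple_pullback (pr K' X) hH
  refine order_eq (X := bc K' X) (pull (pr K' X) (mk L hL)) hH' Φ (fun n => ?_)
    i'.left.isClosedMap.isClosed_range (fun a => ?_)
  · rw [hΦ, ← pull_mk (pr K' X) hH.1, ← map_pow, ← map_mul, chi_bc]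
  · rw [← factor_iff K' hL hK a]
    have hft' : LocallyOfFiniteType (bc K' K).hom :=
      MorphismProperty.of_isPullback (P := @LocallyOfFiniteType) (isPullback_pr K' K) hft
    constructor
    · intro ha
      obtain ⟨w, hw⟩ := exists_comp_eq_of_pt_mem_range i' a ha
      exact ⟨ptk K' w, by rw [ptk_comp, hw]⟩
    · rintro ⟨y, hy⟩
      obtain ⟨w, rfl⟩ := exists_ptk K' y
      rw [ptk_comp] at hy
      rw [← ptk_injective K' hy, pt_comp]
      exact ⟨_, rfl⟩

end bc

end K506.KDim
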