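import Groth.Agent.AbVar.K506.ChiBox
import Groth.Agent.AbVar.K506.BoxDec

/-!
# The order of vanishing at `0` of the Hilbert polynomial of a box product

`k` algebraically closed, `B`, `C` abelian varieties, `p` a translation invariant class on `B`, `m` a nondegenerate class
on `C` and `h` a class on `B × C` whose restrictions to `B` and `C` have non-zero Euler characteristic. The polynomial
`χ((p ⊠ m) h^n)` vanishes at `0` exactly to the order `dim B` (`order_box`).
-/

set_option autoImplicit false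
set_option linter.unusedSectionVars false
universe u

open CategoryTheory CategoryTheory.Limits MonoidalCategory CartesianMonoidalCategory AlgebraicGeometry TopologicalSpace
open scoped MonObj
open Groth.Agent Groth.Agent.Grpsch.PicGrp Groth.Agent.Grpsch.Cube K524.Index K524.Chi
open K506.Transl (tr phi Inv)
open K506.ChiBox K506.BoxDec

namespace K506.KOrd

/-! ### Polynomials -/

theorem rootMultiplicity_eq {Ψ S : Polynomial ℚ} {d : ℕ} (hS : S.eval 0 ≠ 0)
    (h : Polynomial.X ^ (2 * d) * S = Ψ.comp (Polynomial.X ^ 2)) : Ψ.rootMultiplicity 0 = d := by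
  have hΨ : Ψ ≠ 0 := by
    rintro rfl
    rw [Polynomial.zero_comp] at h
    have h1 : S = 0 := (mul_eq_zero.1 h).resolve_left (pow_ne_zero _ Polynomial.X_ne_zero)
    exact hS (by rw [h1, Polynomial.eval_zero])
  obtain ⟨T, hT, hT'⟩ := Polynomial.exists_eq_pow_rootMultiplicity_mul_and_not_dvd Ψ hΨ 0
  rw [Polynomial.C_0, sub_zero] at hT hT'
  set mu := Ψ.rootMultiplicity 0 with hmu
  have hT0 : T.eval 0 ≠ 0 := fun h0 => hT' (by rwa [Polynomial.X_dvd_iff, Polynomial.coeff_zero_eq_eval_zero])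
  have h2 : Polynomial.X ^ (2 * d) * S = Polynomial.X ^ (2 * mu) * T.comp (Polynomial.X ^ 2) := by
    rw [h]
    conv_lhs => rw [hT]
    rw [Polynomial.mul_comp, Polynomial.pow_comp, Polynomial.X_comp, ← pow_mul]
  have hT1 : (T.comp (Polynomial.X ^ 2)).eval 0 ≠ 0 := by
    rw [Polynomial.eval_comp, Polynomial.eval_pow, Polynomial.eval_X]
    simpa using hT0
  rcases lt_trichotomy mu d with hlt | heq | hgt
  · exfalso
    obtain ⟨r, rfl⟩ := Nat.exists_eq_add_of_lt hlt
    rw [show 2 * (mu + r + 1) = 2 * mu + (2 * r + 1 + 1) by ring, pow_add, mul_assoc] at h2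
    have h3 := mul_left_cancel₀ (pow_ne_zero _ Polynomial.X_ne_zero) h2
    apply hT1
    rw [← h3, Polynomial.eval_mul, Polynomial.eval_pow, Polynomial.eval_X, pow_succ, mul_zero, zero_mul]
  · exact heq
  · exfalso
    obtain ⟨r, hr⟩ := Nat.exists_eq_add_of_lt hgt
    rw [hr, show 2 * (d + r + 1) = 2 * d + (2 * r + 1 + 1) by ring, pow_add, mul_assoc] at h2
    have h3 := mul_left_cancel₀ (pow_ne_zero _ Polynomial.X_ne_zero) h2
    apply hS
    rw [h3, Polynomial.eval_mul, Polynomial.eval_pow, Polynomial.eval_X, pow_succ, mul_zero, zero_mul]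

variable {k : Type u} [Field k] [IsAlgClosed k]

section inv

variable {A : Over (Spec (CommRingCat.of k))} [GrpObj A] [IsProper A.hom] [GeometricallyIntegral A.hom]

/-- `[-1]^*h - h` is translation invariant. -/
theorem inv_neg (h : Pic A.left) : Inv (pl (𝟙 A)⁻¹ h * h⁻¹) := by
  rw [K506.Transl.inv_iff_phi]
  intro a
  rw [K506.Transl.phi_cmul, K506.Transl.phi_pl_inv_eq, K524.Index.phi_cinv, mul_inv_cancel]

/-- `[s]^* h = s² h` up to translation invariant classes. -/
theorem pl_pow_eq {A' : Over (Spec (CommRingCat.of k))} [GrpObj A'] (x : A' ⟶ A) [IsMonHom x] (h : Pic A.left) (s : ℕ) :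
    ∃ q : Pic A'.left, Inv q ∧ pl (x ^ s) h = pl x h ^ (s ^ 2) * q := by
  have h1 : pl x⁻¹ h = pl x h * pl x (pl (𝟙 A)⁻¹ h * h⁻¹) := by
    have e : x⁻¹ = x ≫ (𝟙 A)⁻¹ := by rw [GrpObj.comp_inv, Category.comp_id]
    rw [map_mul, map_inv, ← pl_comp, ← e, mul_comm (pl x⁻¹ h), mul_inv_cancel_left]
  refine ⟨pl x (pl (𝟙 A)⁻¹ h * h⁻¹) ^ (s * (s - 1) / 2), (inv_pl x (inv_neg h)).pow _, ?_⟩
  rw [pl_pow, h1, mul_pow, ← mul_assoc, ← pow_add]
  congr 2
  have e1 : 2 ∣ s * (s + 1) := (Nat.even_mul_succ_self s).two_dvd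
  rw [← Nat.add_div_of_dvd_right e1]
  rcases s with _ | s
  · simp
  · have : (s + 1) * (s + 1 + 1) + (s + 1) * (s + 1 - 1) = 2 * (s + 1) ^ 2 := by
      rw [Nat.add_sub_cancel]; ring
    rw [this, Nat.mul_div_cancel_left _ (by norm_num)]

end inv

section main

variable {B C : Over (Spec (CommRingCat.of k))} [GrpObj B] [GrpObj C] [IsProper B.hom] [GeometricallyIntegral B.hom]
  [IsProper C.hom] [GeometricallyIntegral C.hom]

variable (B C) in
/-- The inclusion of the first factor. -/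
noncomputable abbrev iB : B ⟶ B ⊗ C := lift (𝟙 B) 1

variable (B C) in
/-- The inclusion of the second factor. -/
noncomputable abbrev iC : C ⟶ B ⊗ C := lift 1 (𝟙 C)

variable (B C) in
/-- The projector onto the first factor. -/
noncomputable abbrev eB : B ⊗ C ⟶ B ⊗ C := fst B C ≫ iB B C

variable (B C) in
/-- The projector onto the second factor. -/
noncomputable abbrev eC : B ⊗ C ⟶ B ⊗ C := snd B C ≫ iC B C

variable (B C) in
/-- `(b, c) ↦ (s b, c)`. -/
noncomputable abbrev ph (s : ℕ) : B ⊗ C ⟶ B ⊗ C := ((𝟙 B) ^ s) ▷ C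

omit [IsAlgClosed k] [IsProper B.hom] [GeometricallyIntegral B.hom] [IsProper C.hom] [GeometricallyIntegral C.hom] in
theorem lift_pow {T : Over (Spec (CommRingCat.of k))} (a : T ⟶ B) (b : T ⟶ C) (s : ℕ) :
    (lift a b : T ⟶ B ⊗ C) ^ s = lift (a ^ s) (b ^ s) := by
  induction s with
  | zero => rw [pow_zero, pow_zero, pow_zero, one_eq_lift]
  | succ n ih => rw [pow_succ, ih, lift_mul_lift, pow_succ, pow_succ]

omit [IsAlgClosed k] [IsProper B.hom] [GeometricallyIntegral B.hom] [IsProper C.hom] [GeometricallyIntegral C.hom] in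
theorem eB_eq : eB B C = lift (fst B C) 1 := by
  rw [eB, iB, comp_lift, Category.comp_id, MonObj.comp_one]

omit [IsAlgClosed k] [IsProper B.hom] [GeometricallyIntegral B.hom] [IsProper C.hom] [GeometricallyIntegral C.hom] in
theorem eC_eq : eC B C = lift 1 (snd B C) := by
  rw [eC, iC, comp_lift, Category.comp_id, MonObj.comp_one]

omit [IsAlgClosed k] [IsProper B.hom] [GeometricallyIntegral B.hom] [IsProper C.hom] [GeometricallyIntegral C.hom] in
theorem ph_eq (s : ℕ) : ph B C s = eB B C ^ s * eC B C := by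
  rw [eB_eq, eC_eq, lift_pow, lift_mul_lift, one_pow, one_mul, mul_one]
  apply CartesianMonoidalCategory.hom_ext
  · rw [whiskerRight_fst, lift_fst, MonObj.comp_pow, Category.comp_id]
  · rw [whiskerRight_snd, lift_snd]

omit [IsAlgClosed k] [IsProper B.hom] [GeometricallyIntegral B.hom] [IsProper C.hom] [GeometricallyIntegral C.hom] in
theorem ph_eB (s : ℕ) : ph B C s ≫ eB B C = eB B C ^ s := by
  rw [eB_eq, lift_pow, comp_lift, MonObj.comp_one, one_pow, whiskerRight_fst, MonObj.comp_pow, Category.comp_id]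

omit [IsAlgClosed k] [IsProper B.hom] [GeometricallyIntegral B.hom] [IsProper C.hom] [GeometricallyIntegral C.hom] in
theorem ph_eC (s : ℕ) : ph B C s ≫ eC B C = eC B C := by
  rw [eC_eq, comp_lift, MonObj.comp_one, whiskerRight_snd]

theorem isMonHom_ph (s : ℕ) : IsMonHom (ph B C s) := by
  have hB : IsCommMonObj B := isCommMonObj_of_isProper_of_geometricallyIntegral B
  have h1 : IsMonHom ((𝟙 B : B ⟶ B) ^ s) := Groth.Agent.Sga7.H758.EndRing.isMonHom_pow (𝟙 B) s
  infer_instance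

theorem isFinite_ph {s : ℕ} (hs : 1 ≤ s) : IsFinite (ph B C s).left := by
  have h1 : IsFinite ((𝟙 B : B ⟶ B) ^ s).left := Grpsch.MulFin.isFinite_pow B s hs
  exact MorphismProperty.of_isPullback (P := @IsFinite)
    (Sga3C.SchemImage.isPullback_whiskerRight_left ((𝟙 B) ^ s) C).flip h1

theorem surjective_ph {s : ℕ} (hs : 1 ≤ s) : Surjective (ph B C s).left := by
  have h1 : Surjective ((𝟙 B : B ⟶ B) ^ s).left := S0383.result k B s hs
  exact MorphismProperty.of_isPullback (P := @Surjective)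
    (Sga3C.SchemImage.isPullback_whiskerRight_left ((𝟙 B) ^ s) C).flip h1

instance : IsMonHom (iB B C) where
  one_hom := by
    apply CartesianMonoidalCategory.hom_ext
    · rw [Category.assoc, lift_fst, Category.comp_id, IsMonHom.one_hom]
    · rw [Category.assoc, lift_snd, MonObj.comp_one, IsMonHom.one_hom, MonObj.one_eq_one]
  mul_hom := by
    apply CartesianMonoidalCategory.hom_ext
    · rw [Category.assoc, lift_fst, Category.comp_id, Category.assoc, IsMonHom.mul_hom, tensorHom_comp_tensorHom_assoc,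
        lift_fst]
      simp
    · rw [Category.assoc, lift_snd, MonObj.comp_one, Category.assoc, IsMonHom.mul_hom, tensorHom_comp_tensorHom_assoc,
        lift_snd]
      have e : ((1 : B ⟶ C) ⊗ₘ (1 : B ⟶ C)) = lift 1 1 := by
        apply CartesianMonoidalCategory.hom_ext
        · rw [tensorHom_fst, MonObj.comp_one, lift_fst]
        · rw [tensorHom_snd, MonObj.comp_one, lift_snd]
      rw [e, ← Hom.mul_def, mul_one]

variable {dB dC : ℕ} (hB : topologicalKrullDim B.left = dB) (hC : topologicalKrullDim C.left = dC)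

include hB hC in
theorem dim_BC : topologicalKrullDim (B ⊗ C).left = (dB + dC : ℕ) := by
  push_cast
  rw [← hB, ← hC]
  exact K106.Dim.topologicalKrullDim_pullback_eq_add B.hom C.hom

include hB hC in
/-- The degree of `(b, c) ↦ (s b, c)` is `s^(2 dim B)`. -/
theorem deg_ph {h : Pic (B ⊗ C).left} (ha : chi (X := B) (pl (iB B C) h) ≠ 0) (hb : chi (X := C) (pl (iC B C) h) ≠ 0)
    {s : ℕ} (hs : 1 ≤ s) (c : Pic (B ⊗ C).left) :
    chi (X := B ⊗ C) (pl (ph B C s) c) = (s : ℤ) ^ (2 * dB) * chi (X := B ⊗ C) c := by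
  have i1 : IsProper (B ⊗ C).hom := K520.Prod.isProper_tensor B C
  have i2 : GeometricallyIntegral (B ⊗ C).hom := K520.Prod.geometricallyIntegral_tensor B C
  have i3 := isMonHom_ph (B := B) (C := C) s
  have i4 := isFinite_ph (B := B) (C := C) hs
  have i5 := surjective_ph (B := B) (C := C) hs
  obtain ⟨D, hD, hDc⟩ := exists_deg (ph B C s)
  have hBC := dim_BC hB hC
  have key : (D : ℤ) = (s : ℤ) ^ (2 * dB) := by
    have h1 := hDc (pl (eB B C) h * pl (eC B C) h)
    have h2 : pl (ph B C s) (pl (eB B C) h * pl (eC B C) h) = pl (eB B C ^ s) h * pl (eC B C) h := by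
      rw [map_mul, ← pl_comp, ← pl_comp, ph_eB, ph_eC]
    obtain ⟨q, hq, hq'⟩ := pl_pow_eq (eB B C) h s
    rw [h2, hq', mul_right_comm, chi_mul_inv _ hq, pl_comp, pl_comp, ← map_pow, chi_box hB hC hBC, chi_box hB hC hBC,
      K506.HilbIdx.chi_pow hB, mul_assoc] at h1
    have h3 := mul_right_cancel₀ (mul_ne_zero ha hb) h1
    rw [← h3, pow_mul]
    push_cast
    rfl
  rw [hDc, key]

include hB hC in
/-- The pull back of `M^(s²) h` by `(b, c) ↦ (s b, c)`. -/
theorem chi_ph (m : Pic C.left) {h : Pic (B ⊗ C).left} (ha : chi (X := B) (pl (iB B C) h) ≠ 0)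
    (hb : chi (X := C) (pl (iC B C) h) ≠ 0) {s : ℕ} (hs : 1 ≤ s) :
    chi (X := B ⊗ C) (pl (snd B C) m ^ (s ^ 2) * pl (eB B C) h ^ (s ^ 2) * pl (eC B C) h ^ 1 *
      K518.Phi.D h (eB B C) (eC B C) ^ s) = (s : ℤ) ^ (2 * dB) * chi (X := B ⊗ C) (pl (snd B C) m ^ (s ^ 2) * h ^ 1) := by
  have i1 : IsProper (B ⊗ C).hom := K520.Prod.isProper_tensor B C
  have i2 : GeometricallyIntegral (B ⊗ C).hom := K520.Prod.geometricallyIntegral_tensor B C
  rw [← deg_ph hB hC ha hb hs]
  obtain ⟨q, hq, hq'⟩ := pl_pow_eq (eB B C) h s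
  have h1 : pl (ph B C s) (pl (snd B C) m) = pl (snd B C) m := by
    rw [← pl_comp, whiskerRight_snd]
  have h2 : pl (ph B C s) h = pl (eB B C) h ^ (s ^ 2) * q * pl (eC B C) h * K518.Phi.D h (eB B C) (eC B C) ^ s := by
    rw [ph_eq, K518.Phi.pl_mul, hq', K518.Phi.D_pow_left]
  rw [map_mul, map_pow, h1, pow_one, pow_one, h2, ← chi_mul_inv _ hq]
  congr 1
  generalize pl (snd B C) m ^ (s ^ 2) = a1
  generalize pl (eB B C) h ^ (s ^ 2) = a2
  generalize pl (eC B C) h = a3
  generalize K518.Phi.D h (eB B C) (eC B C) ^ s = a4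
  ac_rfl

include hB hC in
/-- **The order of vanishing at `0`** of `χ((p ⊠ m) h^n)` is `dim B`. -/
theorem order_box {p : Pic B.left} (hp : Inv p) {m : Pic C.left} (hm : ND m) {h : Pic (B ⊗ C).left}
    (ha : chi (X := B) (pl (iB B C) h) ≠ 0) (hb : chi (X := C) (pl (iC B C) h) ≠ 0) (Ψ : Polynomial ℚ)
    (hΨ : ∀ n : ℕ, Ψ.eval (n : ℚ) = (chi (X := B ⊗ C) (pl (fst B C) p * pl (snd B C) m * h ^ n) : ℚ)) :
    Ψ.rootMultiplicity 0 = dB := by
  have i1 : IsProper (B ⊗ C).hom := K520.Prod.isProper_tensor B C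
  have i2 : GeometricallyIntegral (B ⊗ C).hom := K520.Prod.geometricallyIntegral_tensor B C
  have hBC := dim_BC hB hC
  have hΨ' : ∀ n : ℕ, Ψ.eval (n : ℚ) = (chi (X := B ⊗ C) (pl (snd B C) m * h ^ n) : ℚ) := by
    intro n
    rw [hΨ, mul_assoc, mul_comm, chi_mul_inv _ (inv_pl (fst B C) hp)]
  obtain ⟨P, hP⟩ := exists_poly4 hBC (pl (snd B C) m) (pl (eB B C) h) (pl (eC B C) h) (K518.Phi.D h (eB B C) (eC B C))
  let S : Polynomial ℚ := MvPolynomial.aeval ![1, 1, Polynomial.X ^ 2, Polynomial.X] P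
  have hS : ∀ v : ℚ, S.eval v = MvPolynomial.eval ![1, 1, v ^ 2, v] P := by
    intro t
    rw [← Polynomial.coe_aeval_eq_eval, MvPolynomial.comp_aeval_apply, MvPolynomial.aeval_eq_eval]
    congr 2
    funext i
    fin_cases i <;> simp
  refine rootMultiplicity_eq (S := S) ?_ ?_
  · have h0 := hP 1 1 0 0
    rw [pow_one, pow_one, pow_zero, pow_zero, mul_one, mul_one, mul_comm, pl_comp, chi_box hB hC hBC] at h0
    rw [hS, show ((0 : ℚ) ^ 2) = 0 by norm_num]
    simp only [Nat.cast_one, Nat.cast_zero] at h0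
    rw [← h0]
    exact_mod_cast mul_ne_zero ha (chi_ne_zero_of_nd hm)
  · refine Polynomial.eq_of_infinite_eval_eq _ _ ?_
    refine (Set.infinite_range_of_injective (f := fun n : ℕ => (1 : ℚ) / ((n + 1 : ℕ) : ℚ)) ?_).mono ?_
    · intro a b hab
      simp only [one_div, inv_inj, Nat.cast_inj, add_left_inj] at hab
      exact hab
    · rintro _ ⟨n, rfl⟩
      change Polynomial.eval ((1 : ℚ) / ((n + 1 : ℕ) : ℚ)) _ = Polynomial.eval ((1 : ℚ) / ((n + 1 : ℕ) : ℚ)) _
      have hs : 1 ≤ n + 1 := Nat.succ_pos n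
      generalize n + 1 = s at hs
      have hs0 : (s : ℚ) ≠ 0 := by exact_mod_cast (by omega : s ≠ 0)
      have hN : 1 ≤ s ^ 2 := Nat.one_le_pow _ _ hs
      have e1 := eval_scale hBC hP hN (s ^ 2) (s ^ 2) 1 s
      rw [chi_ph hB hC m ha hb hs] at e1
      have e2 := K506.HilbIdx.chi_pow_mul hBC (pl (snd B C) m) h Ψ hΨ' hN 1
      push_cast at e1 e2
      rw [e2] at e1
      have e3 : ((s : ℚ) ^ 2) ^ (dB + dC) ≠ 0 := pow_ne_zero _ (pow_ne_zero _ hs0)
      have e4 : MvPolynomial.eval ![1, 1, ((1 : ℚ) / s) ^ 2, (1 : ℚ) / s] P = (s : ℚ) ^ (2 * dB) * Ψ.eval (1 / (s : ℚ) ^ 2) := by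
        have e5 : (![(s : ℚ) ^ 2 / (s : ℚ) ^ 2, (s : ℚ) ^ 2 / (s : ℚ) ^ 2, 1 / (s : ℚ) ^ 2, (s : ℚ) / (s : ℚ) ^ 2] : Fin 4 → ℚ) =
            ![1, 1, ((1 : ℚ) / s) ^ 2, (1 : ℚ) / s] := by
          rw [div_self (pow_ne_zero _ hs0)]
          congr 1
          congr 1
          congr 1
          · rw [div_pow, one_pow]
          · congr 1
            rw [pow_two, div_mul_cancel_left₀ hs0, one_div]
        rw [e5, mul_left_comm] at e1
        exact mul_left_cancel₀ e3 e1
      rw [Polynomial.eval_mul, Polynomial.eval_pow, Polynomial.eval_X, hS, e4, Polynomial.eval_comp, Polynomial.eval_pow,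
        Polynomial.eval_X, ← mul_assoc, ← mul_pow, one_div_mul_cancel hs0, one_pow, one_mul, div_pow, one_pow]

end main

end K506.KOrd
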