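import Groth.Agent.AbVar.K506.AmpleNd
import Groth.Agent.Dix.Cast5

/-!
# Effective divisors whose components have a finite common stabilizer are ample

* `genLocus_eq_top`: a section of a trivial module on a proper integral scheme generates everywhere or nowhere;
* `mem_of_contracted`: translates of a contracted irreducible subset are inside or outside the divisor;
* `isAmple_of_stab`.
-/

set_option autoImplicit false
set_option linter.unusedSectionVars false
universe u

open CategoryTheory Limits MonoidalCategory CartesianMonoidalCategory AlgebraicGeometry TopologicalSpace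
open scoped MonObj
open Groth.Agent.Grpsch.PicGrp Groth.Agent.Grpsch.Cube Groth.Agent.Fdesc.LocGen

namespace K506.StabComp

open Transl AmpleNd

variable {K : Type u} [Field K] [IsAlgClosed K]

/-- A section of a trivial module on a proper integral scheme generates everywhere or nowhere. -/
theorem genLocus_eq_top {Z : Over (Spec (CommRingCat.of K))} [IsProper Z.hom] [IsIntegral Z.left]
    {M : Z.left.Modules} (e : M ≅ Coh.structureModule Z.left) (s : Coh.structureModule Z.left ⟶ M)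
    (hs : (CohB1.genLocus M s : Set Z.left).Nonempty) : CohB1.genLocus M s = ⊤ := by
  rw [← Groth.Agent.Ega2.SecCalc.genLocus_comp s e.hom] at hs ⊢
  obtain ⟨a, ha⟩ := (isGen_one (X := Z.left) ⊤).exists_eq (sec (s ≫ e.hom) ⊤)
  have h1 := genLocus_inf_eq (s ≫ e.hom) (isGen_one (X := Z.left) ⊤) ha
  rw [inf_top_eq] at h1
  rw [h1] at hs ⊢
  have ha0 : a ≠ 0 := by
    rintro rfl
    rw [Scheme.basicOpen_zero] at hs
    exact hs.ne_empty rfl
  obtain ⟨b, hb⟩ := (isField_of_universallyClosed K Z.hom).mul_inv_cancel ha0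
  exact Scheme.basicOpen_of_isUnit _ (IsUnit.of_mul_eq_one _ hb)

variable {A : Over (Spec (CommRingCat.of K))} [GrpObj A] [IsProper A.hom] [GeometricallyIntegral A.hom]

/-- A translate of a contracted irreducible closed subset meeting the zero locus of `s` is contained in it. -/
theorem mem_of_contracted {P : Over (Spec (CommRingCat.of K))} [LocallyOfFiniteType P.hom] [IsSeparated P.hom]
    (r : A ⟶ P) {L : A.left.Modules} (hL : PicF.IsInvertible L) (s : Coh.structureModule A.left ⟶ L)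
    (d : Pic P.left) (hd : pull r.left d = mk L hL * mk L hL)
    (F : Set A.left) (hF : IsIrreducible F) (hFc : IsClosed F) (y : P.left) (hy : ∀ x ∈ F, r.left x = y)
    (a b z : 𝟙_ (Over (Spec (CommRingCat.of K))) ⟶ A) (ha : pt a ∈ F) (hb : pt b ∈ F)
    (hz : pt z ∉ CohB1.genLocus L s) : pt (z * b⁻¹ * a) ∉ CohB1.genLocus L s := by
  obtain ⟨Z, j, hj, hZ, hrange⟩ := Groth.Agent.CohqB.DevGeom.exists_integral F hFc hF
  let Z' : Over (Spec (CommRingCat.of K)) := Over.mk (j ≫ A.hom)
  have hZp : IsProper Z'.hom := by change IsProper (j ≫ A.hom); infer_instance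
  have hZi : IsIntegral Z'.left := hZ
  let i : Z' ⟶ A := Over.homMk j rfl
  -- lifting points
  have hlift : ∀ c : 𝟙_ (Over (Spec (CommRingCat.of K))) ⟶ A, pt c ∈ F →
      ∃ c' : 𝟙_ (Over (Spec (CommRingCat.of K))) ⟶ Z', c' ≫ i = c := by
    intro c hc
    obtain ⟨z, hz⟩ : pt c ∈ Set.range j := hrange.symm ▸ hc
    have hzc : IsClosed ({z} : Set Z) := by
      have h3 := (isClosed_pt c).preimage j.continuous
      rw [← hz] at h3
      convert h3 using 1
      ext t
      simp only [Set.mem_singleton_iff, Set.mem_preimage]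
      exact ⟨fun h => h ▸ rfl, fun h => j.isClosedEmbedding.injective h⟩
    obtain ⟨c', hc'⟩ := exists_point (X := Z') z hzc
    refine ⟨c', point_ext ?_⟩
    rw [pt_comp, hc']
    exact hz
  have himg : ∀ w : 𝟙_ (Over (Spec (CommRingCat.of K))) ⟶ Z', pt (w ≫ i) ∈ F := by
    intro w
    rw [pt_comp, ← hrange]
    exact ⟨_, rfl⟩
  let x := z * b⁻¹
  let h : Z' ⟶ A := (toUnit Z' ≫ x) * i
  have hw : ∀ w : 𝟙_ (Over (Spec (CommRingCat.of K))) ⟶ Z', w ≫ h = x * (w ≫ i) := by
    intro w
    have h5 : w ≫ toUnit Z' = 𝟙 _ := toUnit_unique _ _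
    rw [MonObj.comp_mul, ← Category.assoc, h5, Category.id_comp]
  have hconst : h ≫ r = toUnit Z' ≫ (x ≫ tr b ≫ r) := by
    apply hom_ext_pt
    intro w
    have h5 : w ≫ toUnit Z' = 𝟙 _ := toUnit_unique _ _
    rw [← Category.assoc w (toUnit Z'), h5, Category.id_comp, ← Category.assoc, hw, ← comp_tr_pt, Category.assoc]
    exact congrArg (fun q => x ≫ q) (contracted r F hF hFc y hy (w ≫ i) b (himg w) hb)
  have h1 : PicF.IsInvertible (CohB1.tensorMod L L) := isInvertible_tensorMod hL hL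
  have h2 : pull h.left (mk _ h1) = 1 := by
    rw [← mk_mul_mk hL hL, ← hd, ← pull_comp, ← Over.comp_left, hconst, Over.comp_left, pull_comp]
    have h3 : pull (x ≫ tr b ≫ r).left d = 1 := pic_spec_local K _
    rw [h3, map_one]
  rw [pull_mk, mk_eq_one_iff] at h2
  obtain ⟨e⟩ := h2
  obtain ⟨a', ha'⟩ := hlift a ha
  obtain ⟨b', hb'⟩ := hlift b hb
  have hloc : CohB1.genLocus _ (pullHom h.left (tmulHom s s)) = h.left ⁻¹ᵁ CohB1.genLocus L s := by
    rw [Groth.Agent.Ega1.AmpFam.genLocus_pullHom _ h1, genLocus_tmulHom hL hL, inf_idem]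
  intro hcon
  have hne : (CohB1.genLocus _ (pullHom h.left (tmulHom s s)) : Set Z'.left).Nonempty := by
    refine ⟨pt a', ?_⟩
    rw [hloc]
    change h.left (pt a') ∈ CohB1.genLocus L s
    rw [← pt_comp, hw, ha']
    exact hcon
  have htop := genLocus_eq_top e _ hne
  rw [hloc] at htop
  have h4 : pt b' ∈ h.left ⁻¹ᵁ CohB1.genLocus L s := by rw [htop]; trivial
  change h.left (pt b') ∈ CohB1.genLocus L s at h4
  rw [← pt_comp, hw, hb', inv_mul_cancel_right] at h4
  exact hz h4

theorem isIrreducible_preimage_val {X : Type*} [TopologicalSpace X] {D T : Set X} (hT : IsIrreducible T)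
    (hTD : T ⊆ D) : IsIrreducible (Subtype.val ⁻¹' T : Set ↥D) := by
  refine ⟨?_, ?_⟩
  · obtain ⟨x, hx⟩ := hT.nonempty
    exact ⟨⟨x, hTD hx⟩, hx⟩
  · rintro _ _ ⟨U, hU, rfl⟩ ⟨V, hV, rfl⟩ ⟨x, hx, hxU⟩ ⟨y, hy, hyV⟩
    obtain ⟨z, hz, hzU, hzV⟩ := hT.isPreirreducible U V hU hV ⟨x, hx, hxU⟩ ⟨y, hy, hyV⟩
    exact ⟨⟨z, hTD hz⟩, hz, hzU, hzV⟩

theorem component {X : Type*} [TopologicalSpace X] {D : Set X} (hD : IsClosed D) {Z : Set ↥D}
    (hZ : Z ∈ irreducibleComponents ↥D) : IsClosed (Subtype.val '' Z) ∧ IsIrreducible (Subtype.val '' Z) ∧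
      ∀ T : Set X, IsIrreducible T → T ⊆ D → Subtype.val '' Z ⊆ T → T ⊆ Subtype.val '' Z := by
  refine ⟨hD.isClosedEmbedding_subtypeVal.isClosedMap _ (isClosed_of_mem_irreducibleComponents Z hZ),
    IsIrreducible.image hZ.1 _ continuous_subtype_val.continuousOn, ?_⟩
  intro T hT hTD hZT
  have h1 := hZ.2 (isIrreducible_preimage_val hT hTD) (fun x hx => hZT ⟨x, hx, rfl⟩)
  intro x hx
  exact ⟨⟨x, hTD hx⟩, h1 hx, rfl⟩

/-- If all the translates `z - b + a`, `a, b` in `F`, of rational points of the closed subset `D` are in `D`, the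
translations by `a - b` map the irreducible components of `D` into themselves. -/
theorem image_subset (D F : Set A.left) (hDc : IsClosed D) (hF : IsIrreducible F) (hFc : IsClosed F)
    (b : 𝟙_ (Over (Spec (CommRingCat.of K))) ⟶ A) (hb : pt b ∈ F)
    (hD : ∀ a z : 𝟙_ (Over (Spec (CommRingCat.of K))) ⟶ A, pt a ∈ F → pt z ∈ D → pt (z * b⁻¹ * a) ∈ D)
    (a : 𝟙_ (Over (Spec (CommRingCat.of K))) ⟶ A) (ha : pt a ∈ F) (T : Set A.left) (hTc : IsClosed T)
    (hTi : IsIrreducible T) (hTD : T ⊆ D) (hT : ∀ S : Set A.left, IsIrreducible S → S ⊆ D → T ⊆ S → S ⊆ T) :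
    (tr (b⁻¹ * a)).left '' T ⊆ T := by
  obtain ⟨Z, j, hj, hZ, hrange⟩ := Groth.Agent.CohqB.DevGeom.exists_integral F hFc hF
  obtain ⟨Y, l, hl, hY, hrange'⟩ := Groth.Agent.CohqB.DevGeom.exists_integral T hTc hTi
  let Z' : Over (Spec (CommRingCat.of K)) := Over.mk (j ≫ A.hom)
  have hZp : IsProper Z'.hom := by change IsProper (j ≫ A.hom); infer_instance
  have hZi : IsIntegral Z'.left := hZ
  let i : Z' ⟶ A := Over.homMk j rfl
  let Y' : Over (Spec (CommRingCat.of K)) := Over.mk (l ≫ A.hom)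
  have hYp : IsProper Y'.hom := by change IsProper (l ≫ A.hom); infer_instance
  have hYi : IsIntegral Y'.left := hY
  let m : Y' ⟶ A := Over.homMk l rfl
  have hW : IsIntegral (Y' ⊗ Z').left := K528.Irr.isIntegral_tensor Y' Z'
  have hWp : IsProper (Y' ⊗ Z').hom := K528.RedClosed.isProper_tensor Y' Z'
  -- lifting points
  have hlift : ∀ c : 𝟙_ (Over (Spec (CommRingCat.of K))) ⟶ A, pt c ∈ F →
      ∃ c' : 𝟙_ (Over (Spec (CommRingCat.of K))) ⟶ Z', c' ≫ i = c := by
    intro c hc
    obtain ⟨z, hz⟩ : pt c ∈ Set.range j := hrange.symm ▸ hc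
    have hzc : IsClosed ({z} : Set Z) := by
      have h3 := (isClosed_pt c).preimage j.continuous
      rw [← hz] at h3
      convert h3 using 1
      ext t
      simp only [Set.mem_singleton_iff, Set.mem_preimage]
      exact ⟨fun h => h ▸ rfl, fun h => j.isClosedEmbedding.injective h⟩
    obtain ⟨c', hc'⟩ := exists_point (X := Z') z hzc
    refine ⟨c', point_ext ?_⟩
    rw [pt_comp, hc']
    exact hz
  let g : Y' ⊗ Z' ⟶ A := (fst Y' Z' ≫ m) * (toUnit _ ≫ b⁻¹) * (snd Y' Z' ≫ i)
  have hg : ∀ {V : Over (Spec (CommRingCat.of K))} (y : V ⟶ Y') (z : V ⟶ Z'),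
      lift y z ≫ g = (y ≫ m) * (toUnit V ≫ b⁻¹) * (z ≫ i) := by
    intro V y z
    have h5 : lift y z ≫ toUnit (Y' ⊗ Z') = toUnit V := toUnit_unique _ _
    rw [MonObj.comp_mul, MonObj.comp_mul, ← Category.assoc, lift_fst, ← Category.assoc, h5,
      ← Category.assoc, lift_snd]
  have hpre : g.left ⁻¹ᵁ (⟨D, hDc⟩ : Closeds A.left).compl = ⊥ := by
    by_contra hne
    obtain ⟨w, hw⟩ := exists_pt_mem (X := Y' ⊗ Z') (g.left ⁻¹ᵁ (⟨D, hDc⟩ : Closeds A.left).compl)
      ((Opens.ne_bot_iff_nonempty _).1 hne)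
    have h1 : g.left (pt w) ∉ D := hw
    rw [← pt_comp] at h1
    have h2 : w = lift (w ≫ fst Y' Z') (w ≫ snd Y' Z') := by
      rw [← comp_lift, lift_fst_snd, Category.comp_id]
    have h5 : toUnit (𝟙_ (Over (Spec (CommRingCat.of K)))) = 𝟙 _ := toUnit_unique _ _
    rw [h2, hg, h5, Category.id_comp] at h1
    refine h1 (hD _ _ ?_ (hTD ?_))
    · rw [pt_comp, ← hrange]
      exact ⟨_, rfl⟩
    · rw [pt_comp, ← hrange']
      exact ⟨_, rfl⟩
  have hsub : Set.range g.left ⊆ D := by
    rintro _ ⟨w, rfl⟩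
    by_contra hcon
    have h1 : w ∈ g.left ⁻¹ᵁ (⟨D, hDc⟩ : Closeds A.left).compl := hcon
    rw [hpre] at h1
    exact h1
  have hirr : IsIrreducible (Set.range g.left) := by
    rw [← Set.image_univ]
    exact (IrreducibleSpace.isIrreducible_univ _).image _ g.left.continuous.continuousOn
  obtain ⟨a', ha'⟩ := hlift a ha
  obtain ⟨b', hb'⟩ := hlift b hb
  have hsec : ∀ c : 𝟙_ (Over (Spec (CommRingCat.of K))) ⟶ Z',
      lift (𝟙 Y') (toUnit Y' ≫ c) ≫ g = m ≫ tr (b⁻¹ * (c ≫ i)) := by
    intro c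
    have h5 : m ≫ toUnit A = toUnit Y' := toUnit_unique _ _
    rw [hg, Category.id_comp, Category.assoc, tr, MonObj.comp_mul, Category.comp_id, MonObj.comp_mul,
      MonObj.comp_mul, ← Category.assoc m, ← Category.assoc m, h5, mul_assoc]
  have himg : ∀ c : 𝟙_ (Over (Spec (CommRingCat.of K))) ⟶ Z',
      (tr (b⁻¹ * (c ≫ i))).left '' T ⊆ Set.range g.left := by
    rintro c _ ⟨x, hx, rfl⟩
    rw [← hrange'] at hx
    obtain ⟨y, rfl⟩ := hx
    refine ⟨(lift (𝟙 Y') (toUnit Y' ≫ c)).left y, ?_⟩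
    have := congrArg (fun q : Y' ⟶ A => q.left y) (hsec c)
    simp only [Over.comp_left, Scheme.Hom.comp_apply] at this
    exact this
  have h1 : T ⊆ Set.range g.left := by
    have := himg b'
    rw [hb', inv_mul_cancel, tr_one] at this
    rw [Over.id_left] at this
    intro x hx
    exact this ⟨x, hx, rfl⟩
  have h2 := hT _ hirr hsub h1
  have h3 := himg a'
  rw [ha'] at h3
  exact h3.trans h2

/-- The fibres of a morphism `r` on which `c * c` is a pull back are finite if the common stabilizer of the components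
of the zero locus of a section is finite. -/
theorem finite_fibre {P : Over (Spec (CommRingCat.of K))} [LocallyOfFiniteType P.hom] [IsSeparated P.hom]
    (r : A ⟶ P) {L : A.left.Modules} (hL : PicF.IsInvertible L) (s : Coh.structureModule A.left ⟶ L)
    (d : Pic P.left) (hd : pull r.left d = mk L hL * mk L hL) (D : Set A.left)
    (hDL : D = (CohB1.genLocus L s : Set A.left)ᶜ)
    (hK : {a : 𝟙_ (Over (Spec (CommRingCat.of K))) ⟶ A | ∀ Z ∈ irreducibleComponents ↥D,
        (tr a).left '' (Subtype.val '' Z) = Subtype.val '' Z}.Finite) (y : P.left)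
    (hy : IsClosed ({y} : Set P.left)) : (r.left ⁻¹' {y}).Finite := by
  have hJ : JacobsonSpace A.left := LocallyOfFiniteType.jacobsonSpace A.hom
  have hN1 : IsLocallyNoetherian A.left := LocallyOfFiniteType.isLocallyNoetherian A.hom
  have hcomp : CompactSpace A.left := QuasiCompact.compactSpace_of_compactSpace A.hom
  have hN : IsNoetherian A.left := {}
  have hDc : IsClosed D := by rw [hDL]; exact (CohB1.genLocus L s).isOpen.isClosed_compl
  have hcl : IsClosed (r.left ⁻¹' {y}) := hy.preimage r.left.continuous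
  obtain ⟨S, hS, hSc, hSi, hSu⟩ := NoetherianSpace.exists_finite_set_isClosed_irreducible hcl
  rw [hSu]
  refine hS.sUnion fun F hF => ?_
  have hFc := hSc F hF
  have hFi := hSi F hF
  have hFy : ∀ x ∈ F, r.left x = y := by
    intro x hx
    have h : x ∈ r.left ⁻¹' {y} := by rw [hSu]; exact ⟨F, hF, hx⟩
    exact h
  obtain ⟨x0, hx0, hx0c⟩ := hFc.exists_closed_singleton hFi.nonempty
  obtain ⟨b, rfl⟩ := exists_point x0 hx0c
  have hmem : ∀ b a z : 𝟙_ (Over (Spec (CommRingCat.of K))) ⟶ A, pt b ∈ F → pt a ∈ F → pt z ∈ D →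
      pt (z * b⁻¹ * a) ∈ D := by
    intro b a z hb ha hz
    rw [hDL] at hz ⊢
    exact mem_of_contracted r hL s d hd F hFi hFc y hFy a b z ha hb hz
  have hsub : ∀ b a : 𝟙_ (Over (Spec (CommRingCat.of K))) ⟶ A, pt b ∈ F → pt a ∈ F →
      ∀ Z ∈ irreducibleComponents ↥D, (tr (b⁻¹ * a)).left '' (Subtype.val '' Z) ⊆ Subtype.val '' Z := by
    intro b a hb ha Z hZ
    obtain ⟨h1, h2, h3⟩ := component hDc hZ
    exact image_subset D F hDc hFi hFc b hb (fun a z ha hz => hmem b a z hb ha hz) a ha _ h1 h2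
      (by rintro _ ⟨x, -, rfl⟩; exact x.2) h3
  have hfin : {a : 𝟙_ (Over (Spec (CommRingCat.of K))) ⟶ A | pt a ∈ F}.Finite := by
    refine Set.Finite.of_injOn (f := fun a => b⁻¹ * a) (t := {a | ∀ Z ∈ irreducibleComponents ↥D,
        (tr a).left '' (Subtype.val '' Z) = Subtype.val '' Z}) ?_ ?_ hK
    · intro a ha Z hZ
      refine (hsub b a hx0 ha Z hZ).antisymm ?_
      have h1 := hsub a b ha hx0 Z hZ
      have h2 : (tr (a⁻¹ * b)) ≫ (tr (b⁻¹ * a)) = 𝟙 A := by
        rw [tr_comp_tr, ← mul_assoc, mul_inv_cancel_right, inv_mul_cancel, tr_one]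
      intro x hx
      refine ⟨(tr (a⁻¹ * b)).left x, h1 ⟨x, hx, rfl⟩, ?_⟩
      rw [← Scheme.Hom.comp_apply, ← Over.comp_left, h2, Over.id_left]
      rfl
    · intro a _ a' _ h
      exact mul_left_cancel h
  have hfin2 : (F ∩ closedPoints A.left).Finite := by
    refine (hfin.image pt).subset ?_
    rintro x ⟨hxF, hx⟩
    obtain ⟨a, rfl⟩ := exists_point x hx
    exact ⟨a, hxF, rfl⟩
  have hcl2 : IsClosed (F ∩ closedPoints A.left) := by
    rw [← Set.biUnion_of_singleton (F ∩ closedPoints A.left)]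
    exact hfin2.isClosed_biUnion fun x hx => hx.2
  have h3 := JacobsonSpace.closure_inter_closedPoints hFc
  rw [hcl2.closure_eq] at h3
  rw [← h3]
  exact hfin2

/-- An effective invertible module is ample if `L ⊗ L` defines a finite morphism. -/
theorem isAmple_of_finite_fibre {L : A.left.Modules} (hL : PicF.IsInvertible L) (s : Coh.structureModule A.left ⟶ L)
    (hs : s ≠ 0) (hfib : ∀ (P : Over (Spec (CommRingCat.of K))) [LocallyOfFiniteType P.hom] [IsSeparated P.hom]
      (r : A ⟶ P) (d : Pic P.left) (_ : pull r.left d = mk L hL * mk L hL) (y : P.left)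
      (_ : IsClosed ({y} : Set P.left)), (r.left ⁻¹' {y}).Finite) : CohB1.IsAmple L := by
  have hcomp : CompactSpace A.left := QuasiCompact.compactSpace_of_compactSpace A.hom
  have hLL : PicF.IsInvertible (CohB1.tensorMod L L) := isInvertible_tensorMod hL hL
  obtain ⟨n, r, hr, ⟨τ⟩⟩ := K931.Descend.exists_map A.hom hLL (isGloballyGenerated hL s hs)
  let P : Over (Spec (CommRingCat.of K)) := Over.mk (CohB1.ProjSpace.toSpec n K)
  have hPp : IsProper P.hom := Groth.Agent.Ega3B.ProjProper.isProper_toSpec n K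
  let r' : A ⟶ P := Over.homMk r hr
  have hO1 : CohB1.IsAmple (Twist.twistProjSpace n K 1) := Groth.Agent.VarietyA.AmpleField.isAmple_twistProjSpace n K
  have hd : pull r'.left (mk _ hO1.1) = mk L hL * mk L hL := by
    rw [pull_mk, mk_mul_mk hL hL, mk_eq_iff]
    exact ⟨τ⟩
  have hrp : IsProper r := by
    have : IsProper (r ≫ CohB1.ProjSpace.toSpec n K) := by rw [hr]; infer_instance
    have : IsSeparated (CohB1.ProjSpace.toSpec n K) := hPp.toIsSeparated
    exact IsProper.of_comp r (CohB1.ProjSpace.toSpec n K)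
  obtain ⟨U, hU, hfinU⟩ := Groth.Agent.S10860.result r
  have hUtop : U = ⊤ := by
    have hcP : CompactSpace P.left := QuasiCompact.compactSpace_of_compactSpace P.hom
    refine eq_top_of_forall_pt (X := P) U fun a => ?_
    change pt a ∈ (U : Set (CohB1.ProjSpace n K))
    rw [hU]
    exact hfib P r' (mk _ hO1.1) hd (pt a) (isClosed_pt a)
  have hfin : IsFinite r := isFinite_of_restrict r U hUtop hfinU
  have h1 : CohB1.IsAmple ((Scheme.Modules.pullback r).obj (Twist.twistProjSpace n K 1)) :=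
    Groth.Agent.Sga5.AmpleFib.isAmple_pullback r hO1
  have h2 : CohB1.IsAmple (CohB1.tensorMod L L) := Groth.Agent.Ega2.Weight.isAmple_of_iso τ h1
  have h3 : Nonempty (CohB1.tensorMod L L ≅ CohB1.tensorPow L 2) := by
    rw [← mk_eq_iff hLL (isInvertible_tensorPow hL 2), mk_tensorPow hL, ← mk_mul_mk hL hL, sq]
  exact (K30.AmpleLoc.isAmple_iff_tensorPow hL (by norm_num : 0 < 2)).2
    (Groth.Agent.Ega2.Weight.isAmple_of_iso h3.some h2)

/-- An effective invertible module is ample if only finitely many translations preserve the components of the zero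
locus of a nonzero section. -/
theorem isAmple_of_stab {L : A.left.Modules} (hL : PicF.IsInvertible L) (s : Coh.structureModule A.left ⟶ L)
    (hs : s ≠ 0) (D : Set A.left) (hDL : D = (CohB1.genLocus L s : Set A.left)ᶜ)
    (hK : {a : 𝟙_ (Over (Spec (CommRingCat.of K))) ⟶ A | ∀ Z ∈ irreducibleComponents ↥D,
        (tr a).left '' (Subtype.val '' Z) = Subtype.val '' Z}.Finite) : CohB1.IsAmple L :=
  isAmple_of_finite_fibre hL s hs fun _ _ _ r d hd y hy => finite_fibre r hL s d hd D hDL hK y hy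

end K506.StabComp
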