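import Groth.Agent.AbVar.K506.Transl
import Groth.Agent.Grpsch.MulFin
import Groth.Agent.S0052
import Groth.Agent.S2329
import Groth.Agent.EGA2.K30.AmpleLoc

/-!
# Twists of an ample symmetric module by translation invariant modules are ample
-/

set_option autoImplicit false
set_option linter.unusedSectionVars false
universe u

open CategoryTheory Limits MonoidalCategory CartesianMonoidalCategory AlgebraicGeometry
open scoped MonObj
open Groth.Agent.Grpsch.PicGrp Groth.Agent.Grpsch.Cube

namespace K506.TauAmple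

open Transl

variable {K : Type u} [Field K] [IsAlgClosed K] {A : Over (Spec (CommRingCat.of K))} [GrpObj A]
  [IsProper A.hom] [GeometricallyIntegral A.hom]

theorem pl_pow_of_inv {c : Pic A.left} (hc : Inv c) {T : Over (Spec (CommRingCat.of K))} (x : T ⟶ A) (n : ℕ) :
    pl (x ^ n) c = pl x c ^ n := by
  induction n with
  | zero => rw [_root_.pow_zero, _root_.pow_zero, pl_one]
  | succ n ih => rw [_root_.pow_succ, pl_mul_of_inv hc, ih, _root_.pow_succ]

/-- `D ⊗ M` is ample for `M` symmetric ample, `D` translation invariant. -/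
theorem isAmple_twist {M : A.left.Modules} (hM : CohB1.IsAmple M) (hs : pl (𝟙 A)⁻¹ (mk M hM.1) = mk M hM.1)
    {D : A.left.Modules} (hD : PicF.IsInvertible D) (hd : Inv (mk D hD)) :
    CohB1.IsAmple (CohB1.tensorMod D M) := by
  have hsep : A.left.IsSeparated := Groth.Agent.Grpsch.MulFin.isSeparated_left A
  have hcomp : CompactSpace A.left := QuasiCompact.compactSpace_of_compactSpace A.hom
  obtain ⟨n, hn, h⟩ := Groth.Agent.S2329.result A.left M D hM hD
  have h1 := (h n le_rfl).1
  have hfin : IsFinite (𝟙 A ^ n).left := Groth.Agent.Grpsch.MulFin.isFinite_pow A n hn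
  have hsurj : Surjective (𝟙 A ^ n).left := Groth.Agent.Grpsch.MulFin.surjective_pow A n hn
  have hDM : PicF.IsInvertible (CohB1.tensorMod D M) :=
    Groth.Agent.Fdesc.LocGen.isInvertible_tensorMod hD hM.1
  have hMn : PicF.IsInvertible (CohB1.tensorPow M n) := Groth.Agent.Fdesc.LocGen.isInvertible_tensorPow hM.1 n
  have hMD : PicF.IsInvertible (CohB1.tensorMod (CohB1.tensorPow M n) D) :=
    Groth.Agent.Fdesc.LocGen.isInvertible_tensorMod hMn hD
  rw [Groth.Agent.S0052.result K A.hom A.hom (𝟙 A ^ n).left (Over.w _) (CohB1.tensorMod D M) hDM]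
  have h2 : CohB1.IsAmple (CohB1.tensorPow (CohB1.tensorMod (CohB1.tensorPow M n) D) n) :=
    (K30.AmpleLoc.isAmple_iff_tensorPow hMD hn).1 h1
  have e : Nonempty (CohB1.tensorPow (CohB1.tensorMod (CohB1.tensorPow M n) D) n ≅
      (Scheme.Modules.pullback (𝟙 A ^ n).left).obj (CohB1.tensorMod D M)) := by
    rw [← mk_eq_iff (Groth.Agent.Fdesc.LocGen.isInvertible_tensorPow hMD n)
      (Groth.Agent.Fdesc.LocGen.isInvertible_pullback _ hDM), ← pull_mk _ hDM, mk_tensorPow hMD, ← mk_mul_mk hMn hD,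
      ← mk_mul_mk hD hM.1, mk_tensorPow hM.1]
    have h3 : pl (𝟙 A ^ n) (mk D hD) = mk D hD ^ n := by
      rw [pl_pow_of_inv hd]
      exact congrArg (· ^ n) (pull_id _)
    have h4 : pl (𝟙 A ^ n) (mk M hM.1) = mk M hM.1 ^ (n ^ 2) := by
      rw [pl_pow_of_symm (mk M hM.1) (𝟙 A) hs n]
      exact congrArg (· ^ (n ^ 2)) (pull_id _)
    change _ = pl (𝟙 A ^ n) _
    rw [map_mul, h3, h4, _root_.mul_pow, ← _root_.pow_mul, _root_.mul_comm, sq]
  exact Groth.Agent.S2329.isAmple_of_iso e.some h2

end K506.TauAmple
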