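import Groth.Agent.AbVar.K506.Transl
import Groth.Agent.AbDual.K732.Cube
import Groth.Agent.S0383
import Groth.Prelude.Def_Pic13

/-!
# Torsion classes are translation invariant

* `inv_of_family`: a class deformed to the trivial class along a connected family is translation invariant;
* `inv_of_inv_pow`: `c ^ n` translation invariant, `n ≥ 1`, implies `c` translation invariant;
* `inv_of_isTauEquivZero`.
-/

set_option autoImplicit false
set_option linter.unusedSectionVars false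
universe u

open CategoryTheory Limits MonoidalCategory CartesianMonoidalCategory AlgebraicGeometry
open scoped MonObj
open Groth.Agent.Grpsch.PicGrp Groth.Agent.Grpsch.Cube

namespace K506.TauInv

open Transl

variable {K : Type u} [Field K]

/-- Restriction of a class on `A ⊗ Z` along a pair of points. -/
noncomputable def ev {A Z W : Over (Spec (CommRingCat.of K))} (a : W ⟶ A) (z : W ⟶ Z) :
    Pic (A ⊗ Z).left →* Pic W.left := pull (lift a z).left

theorem pull_ev {A Z W W' : Over (Spec (CommRingCat.of K))} (f : W' ⟶ W) (a : W ⟶ A) (z : W ⟶ Z)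
    (m : Pic (A ⊗ Z).left) : pull f.left (ev a z m) = ev (f ≫ a) (f ≫ z) m := by
  rw [ev, ev, ← comp_lift, Over.comp_left, pull_comp]

/-- A morphism whose underlying morphism factors through a point. -/
theorem eq_toUnit_comp {Z W : Over (Spec (CommRingCat.of K))} (c : W ⟶ Z)
    (t : 𝟙_ (Over (Spec (CommRingCat.of K))) ⟶ Z) (q : W.left ⟶ Spec (Z.left.residueField (pt t)))
    (h : c.left = q ≫ Z.left.fromSpecResidueField (pt t)) : c = toUnit W ≫ t := by
  ext1
  have h1 := K732.Cube.fromSpecResidueField_section Z.hom t.left (Over.w t) (IsLocalRing.closedPoint K)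
  have h2 : c.left = (c.left ≫ Z.hom) ≫ t.left := by
    rw [h]
    conv_lhs => rw [h1]
    simp only [Category.assoc]
  rw [h2, Over.w]
  rfl

variable {A : Over (Spec (CommRingCat.of K))} [GrpObj A] [IsProper A.hom] [GeometricallyIntegral A.hom]

/-- The family of classes is additive. -/
theorem ev_mul {Z : Over (Spec (CommRingCat.of K))} [ConnectedSpace Z.left] (m : Pic (A ⊗ Z).left)
    (t₀ : 𝟙_ (Over (Spec (CommRingCat.of K))) ⟶ Z) (h0 : ev (𝟙 A) (toUnit A ≫ t₀) m = 1)
    {W : Over (Spec (CommRingCat.of K))} (a b : W ⟶ A) (y : W ⟶ Z) :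
    ev (a * b) y m * ev 1 y m = ev a y m * ev b y m := by
  let u : (A ⊗ A) ⊗ Z ⟶ A := fst _ _ ≫ fst _ _
  let v : (A ⊗ A) ⊗ Z ⟶ A := fst _ _ ≫ snd _ _
  let w : (A ⊗ A) ⊗ Z ⟶ Z := snd _ _
  let M : Pic ((A ⊗ A) ⊗ Z).left := ev (u * v) w m * ev 1 w m * (ev u w m * ev v w m)⁻¹
  have hM : ∀ {W : Over (Spec (CommRingCat.of K))} (a b : W ⟶ A) (y : W ⟶ Z),
      pull (lift (lift a b) y).left M = ev (a * b) y m * ev 1 y m * (ev a y m * ev b y m)⁻¹ := by
    intro W a b y
    have e1 : lift (lift a b) y ≫ u = a := by simp [u]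
    have e2 : lift (lift a b) y ≫ v = b := by simp [v]
    have e3 : lift (lift a b) y ≫ w = y := by simp [w]
    simp only [M, map_mul, map_inv, pull_ev, MonObj.comp_mul, MonObj.comp_one, e1, e2, e3]
  have h0' : ∀ {W : Over (Spec (CommRingCat.of K))} (a : W ⟶ A), ev a (toUnit W ≫ t₀) m = 1 := by
    intro W a
    have h2 := pull_ev a (𝟙 A) (toUnit A ≫ t₀) m
    rw [h0, map_one, Category.comp_id, ← Category.assoc, comp_toUnit] at h2
    exact h2.symm
  have key : M = 1 := by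
    refine K732.Cube.cube_conn A A Z M (fun W b y ↦ ?_) (fun W a y ↦ ?_) (pt t₀) (fun W a b c q hc ↦ ?_)
    · rw [hM, _root_.one_mul, _root_.mul_comm (ev 1 y m), mul_inv_cancel]
    · rw [hM, _root_.mul_one, mul_inv_cancel]
    · rw [hM, eq_toUnit_comp c t₀ q hc, h0', h0', h0', h0', _root_.one_mul, mul_inv_cancel]
  have h := hM a b y
  rw [key, map_one] at h
  exact (mul_inv_eq_one.1 h.symm)

/-- The class of a slice of a connected family with one trivial slice is translation invariant. -/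
theorem inv_of_family {Z : Over (Spec (CommRingCat.of K))} [ConnectedSpace Z.left] (m : Pic (A ⊗ Z).left)
    (t₀ t : 𝟙_ (Over (Spec (CommRingCat.of K))) ⟶ Z) (h0 : ev (𝟙 A) (toUnit A ≫ t₀) m = 1) :
    Inv (ev (𝟙 A) (toUnit A ≫ t) m : Pic A.left) := by
  have hpl : ∀ {W : Over (Spec (CommRingCat.of K))} (a : W ⟶ A),
      pl a (ev (𝟙 A) (toUnit A ≫ t) m) = ev a (toUnit W ≫ t) m := by
    intro W a
    have h2 := pull_ev a (𝟙 A) (toUnit A ≫ t) m
    rw [Category.comp_id, ← Category.assoc, comp_toUnit] at h2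
    exact h2
  apply inv_of_mul
  rw [← fst_mul_snd, hpl, hpl, hpl, ← ev_mul m t₀ h0]
  have h3 : ev (1 : A ⊗ A ⟶ A) (toUnit (A ⊗ A) ≫ t) m = 1 := by
    rw [← hpl, pl_one]
  rw [h3, mul_one]

/-- Algebraic equivalence to zero in terms of families of classes in `Over (Spec K)`. -/
theorem exists_family {V : Over (Spec (CommRingCat.of K))} {L : V.left.Modules} (hL : PicF.IsInvertible L)
    (h : Pic13.IsAlgEquivZero K V.left L) : ∃ (Z : Over (Spec (CommRingCat.of K))) (_ : ConnectedSpace Z.left)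
      (_ : LocallyOfFiniteType Z.hom) (_ : QuasiCompact Z.hom) (m : Pic (V ⊗ Z).left)
      (t t₀ : 𝟙_ (Over (Spec (CommRingCat.of K))) ⟶ Z), ev (𝟙 V) (toUnit V ≫ t₀) m = 1 ∧
        ev (𝟙 V) (toUnit V ≫ t) m = mk L hL := by
  obtain ⟨T, q, hT, hq1, hq2, M, hM, t, t₀, ht, ht₀, ⟨e⟩, ⟨e₀⟩⟩ := h
  let Z : Over (Spec (CommRingCat.of K)) := Over.mk q
  have hZ : ConnectedSpace Z.left := hT
  let m : Pic (V ⊗ Z).left := mk (X := (V ⊗ Z).left) M hM
  have hinv : ∀ (s : Spec (CommRingCat.of K) ⟶ T) (hs : s ≫ q = 𝟙 _),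
      PicF.IsInvertible (Pic13.fibreMod K V.left q s hs M) := fun s hs =>
    Groth.Agent.Fdesc.LocGen.isInvertible_pullback (Pic13.sliceAt K V.left q s hs) hM
  have key : ∀ (s : Spec (CommRingCat.of K) ⟶ T) (hs : s ≫ q = 𝟙 _),
      ev (𝟙 V) (toUnit V ≫ (Over.homMk s hs : 𝟙_ (Over (Spec (CommRingCat.of K))) ⟶ Z)) m =
        mk (Pic13.fibreMod K V.left q s hs M) (hinv s hs) := by
    intro s hs
    rw [ev]
    have e1 : Pic13.sliceAt K V.left q s hs ≫ pullback.fst (V.left ↘ Spec (CommRingCat.of K)) q = 𝟙 V.left :=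
      pullback.lift_fst _ _ _
    have e2 : Pic13.sliceAt K V.left q s hs ≫ pullback.snd (V.left ↘ Spec (CommRingCat.of K)) q =
      (V.left ↘ Spec (CommRingCat.of K)) ≫ s := pullback.lift_snd _ _ _
    have h1 : (lift (𝟙 V) (toUnit V ≫ (Over.homMk s hs : 𝟙_ (Over (Spec (CommRingCat.of K))) ⟶ Z))).left =
        Pic13.sliceAt K V.left q s hs := by
      refine pullback.hom_ext ?_ ?_
      · exact (congrArg Over.Hom.left (lift_fst (𝟙 V) (toUnit V ≫ (Over.homMk s hs :
          𝟙_ (Over (Spec (CommRingCat.of K))) ⟶ Z)))).trans e1.symm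
      · exact (congrArg Over.Hom.left (lift_snd (𝟙 V) (toUnit V ≫ (Over.homMk s hs :
          𝟙_ (Over (Spec (CommRingCat.of K))) ⟶ Z)))).trans e2.symm
    rw [h1]
    exact pull_mk _ hM
  refine ⟨Z, hZ, hq1, hq2, m, Over.homMk t ht, Over.homMk t₀ ht₀, ?_, ?_⟩
  · rw [key t₀ ht₀, mk_eq_one_iff]
    exact ⟨e₀⟩
  · rw [key t ht, mk_eq_iff]
    exact ⟨e⟩

/-- Algebraically equivalent to zero implies translation invariant. -/
theorem inv_of_isAlgEquivZero {L : A.left.Modules} (hL : PicF.IsInvertible L)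
    (h : Pic13.IsAlgEquivZero K A.left L) : Inv (mk L hL) := by
  obtain ⟨Z, _, _, _, m, t, t₀, h0, h1⟩ := exists_family hL h
  rw [← h1]
  exact inv_of_family m t₀ t h0

/-- `n`-th roots of rational points. -/
theorem exists_pow_eq [IsAlgClosed K] (n : ℕ) (hn : 1 ≤ n) (b : 𝟙_ (Over (Spec (CommRingCat.of K))) ⟶ A) :
    ∃ a : 𝟙_ (Over (Spec (CommRingCat.of K))) ⟶ A, a ^ n = b := by
  have hsurj := Groth.Agent.S0383.result K A n hn
  have hcomp : CompactSpace A.left := QuasiCompact.compactSpace_of_compactSpace A.hom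
  obtain ⟨x0, hx0⟩ := (𝟙 A ^ n).left.surjective (pt b)
  obtain ⟨x, hx, hxc⟩ := ((isClosed_pt b).preimage (𝟙 A ^ n).left.continuous).exists_closed_singleton ⟨x0, hx0⟩
  obtain ⟨a, rfl⟩ := exists_point x hxc
  refine ⟨a, point_ext ?_⟩
  have h1 : a ^ n = a ≫ (𝟙 A ^ n) := by rw [MonObj.comp_pow, Category.comp_id]
  rw [h1]
  change (a ≫ (𝟙 A ^ n)).left (IsLocalRing.closedPoint K) = _
  rw [Over.comp_left]
  exact (Scheme.Hom.comp_apply a.left (𝟙 A ^ n).left _).trans hx

theorem inv_of_inv_pow [IsAlgClosed K] {c : Pic A.left} (n : ℕ) (hn : 1 ≤ n) (h : Inv (c ^ n)) : Inv c := by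
  rw [inv_iff_phi] at h ⊢
  intro b
  obtain ⟨a, rfl⟩ := exists_pow_eq n hn b
  rw [phi_pow, ← phi_cpow]
  exact h a

theorem inv_of_isTauEquivZero [IsAlgClosed K] {L : A.left.Modules} (hL : PicF.IsInvertible L)
    (h : Pic13.IsTauEquivZero K A.left L) : Inv (mk L hL) := by
  obtain ⟨n, hn, hn'⟩ := h
  have h1 := inv_of_isAlgEquivZero (Groth.Agent.Fdesc.LocGen.isInvertible_tensorPow hL n) hn'
  rw [mk_tensorPow hL] at h1
  exact inv_of_inv_pow n hn h1

end K506.TauInv
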