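import Groth.Agent.AbVar.K506.TauInv
import Groth.Agent.AbVar.K506.CurvePrinciple
import Groth.Agent.Fdesc.GeomAlgClosed
import Groth.Agent.Sga3C.GeomRedPerf

/-!
# Classes algebraically equivalent to zero on a commutative group variety are translation invariant

From the square relation on `C × G × G` (`C` a smooth affine curve) and the curve principle.
-/

set_option autoImplicit false
set_option linter.unusedSectionVars false
universe u

open CategoryTheory Limits MonoidalCategory CartesianMonoidalCategory AlgebraicGeometry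
open scoped MonObj
open Groth.Agent.Grpsch.PicGrp Groth.Agent.Grpsch.Cube

namespace K506.TransAlg

open Transl TauInv

/-- The square relation for triple products of smooth varieties, in the Picard group. -/
def Square (K : Type u) [Field K] : Prop :=
  ∀ (U V W : Over (Spec (CommRingCat.of K))) [Smooth U.hom] [IsSeparated U.hom] [QuasiCompact U.hom]
    [GeometricallyIntegral U.hom] [Smooth V.hom] [IsSeparated V.hom] [QuasiCompact V.hom]
    [GeometricallyIntegral V.hom] [Smooth W.hom] [IsSeparated W.hom] [QuasiCompact W.hom]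
    [GeometricallyIntegral W.hom] (L : Pic (U ⊗ V ⊗ W).left)
    (a0 a1 : 𝟙_ (Over (Spec (CommRingCat.of K))) ⟶ U) (b0 b1 : 𝟙_ (Over (Spec (CommRingCat.of K))) ⟶ V),
    pull (lift (toUnit W ≫ a0) (lift (toUnit W ≫ b0) (𝟙 W))).left L *
        pull (lift (toUnit W ≫ a1) (lift (toUnit W ≫ b1) (𝟙 W))).left L =
      pull (lift (toUnit W ≫ a0) (lift (toUnit W ≫ b1) (𝟙 W))).left L *
        pull (lift (toUnit W ≫ a1) (lift (toUnit W ≫ b0) (𝟙 W))).left L

theorem geometricallyIntegral_of_isIntegral {K : Type u} [Field K] [IsAlgClosed K] {X : Scheme.{u}}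
    (f : X ⟶ Spec (CommRingCat.of K)) [IsIntegral X] : GeometricallyIntegral f := by
  have hgr : GeometricallyReduced f := Groth.Agent.Sga3C.GeomRedPerf.geometricallyReduced_of_isReduced f
  have hgir : GeometricallyIrreducible f :=
    Groth.Agent.Fdesc.GeomAlgClosed.geometricallyIrreducible_of_irreducibleSpace f
  exact GeometricallyIntegral.of_geometricallyReduced_of_geometricallyIrreducible f

variable {K : Type u} [Field K] [IsAlgClosed K] (hSq : Square K)

include hSq

/-- The class `t_a^* M_t ⊗ M_t⁻¹` does not depend on `t`. -/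
theorem const {G T : Over (Spec (CommRingCat.of K))} [GrpObj G] [IsCommMonObj G] [Smooth G.hom] [IsSeparated G.hom]
    [QuasiCompact G.hom] [GeometricallyIntegral G.hom] [ConnectedSpace T.left] [LocallyOfFiniteType T.hom]
    [QuasiCompact T.hom] (m : Pic (G ⊗ T).left) (a : 𝟙_ (Over (Spec (CommRingCat.of K))) ⟶ G)
    (t t' : 𝟙_ (Over (Spec (CommRingCat.of K))) ⟶ T) :
    (ev (tr a) (toUnit G ≫ t) m : Pic G.left) * (ev (𝟙 G) (toUnit G ≫ t) m)⁻¹ =
      ev (tr a) (toUnit G ≫ t') m * (ev (𝟙 G) (toUnit G ≫ t') m)⁻¹ := by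
  refine CurvePrinciple.const_of_curves_over T
    (fun t => (ev (tr a) (toUnit G ≫ t) m : Pic G.left) * (ev (𝟙 G) (toUnit G ≫ t) m)⁻¹) ?_ t t'
  intro C _ _ _ g c c'
  have hCsm : Smooth C.hom := SmoothOfRelativeDimension.smooth 1 C.hom
  have hCg : GeometricallyIntegral C.hom := geometricallyIntegral_of_isIntegral C.hom
  have hCs : IsSeparated C.hom := inferInstance
  have hCq : QuasiCompact C.hom := inferInstance
  let f : C ⊗ G ⊗ G ⟶ G ⊗ T := lift ((snd C (G ⊗ G) ≫ snd G G) * (snd C (G ⊗ G) ≫ fst G G)) (fst C (G ⊗ G) ≫ g)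
  have key : ∀ (c : 𝟙_ (Over (Spec (CommRingCat.of K))) ⟶ C) (b : 𝟙_ (Over (Spec (CommRingCat.of K))) ⟶ G),
      pull (lift (toUnit G ≫ c) (lift (toUnit G ≫ b) (𝟙 G))).left (pull f.left m) =
        ev (tr b) (toUnit G ≫ c ≫ g) m := by
    intro c b
    rw [← pull_comp, ← Over.comp_left, TauInv.ev]
    congr 2
    simp only [f]
    rw [comp_lift, MonObj.comp_mul]
    simp only [lift_fst_assoc, lift_snd_assoc, lift_fst, lift_snd, Category.assoc]
  have h := hSq C G G (pull f.left m) c c' 1 a
  rw [key, key, key, key, tr_one] at h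
  change _ * _ = _ * _
  rw [mul_inv_eq_iff_eq_mul, mul_right_comm, eq_mul_inv_iff_mul_eq, _root_.mul_comm _ (ev (𝟙 G) (toUnit G ≫ c ≫ g) m)]
  rw [← h, _root_.mul_comm]

theorem inv_of_isAlgEquivZero {G : Over (Spec (CommRingCat.of K))} [GrpObj G] [IsCommMonObj G] [Smooth G.hom]
    [IsSeparated G.hom] [QuasiCompact G.hom] [GeometricallyIntegral G.hom] {L : G.left.Modules}
    (hL : PicF.IsInvertible L) (h : Pic13.IsAlgEquivZero K G.left L) : Inv (mk L hL) := by
  obtain ⟨Z, _, _, _, m, t, t₀, h0, h1⟩ := exists_family hL h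
  intro a
  have hpl : ∀ s : 𝟙_ (Over (Spec (CommRingCat.of K))) ⟶ Z,
      (ev (tr a) (toUnit G ≫ s) m : Pic G.left) = pl (tr a) (ev (𝟙 G) (toUnit G ≫ s) m) := by
    intro s
    have h2 := pull_ev (tr a) (𝟙 G) (toUnit G ≫ s) m
    rw [Category.comp_id, ← Category.assoc, comp_toUnit] at h2
    exact h2.symm
  have h2 := const hSq m a t t₀
  rw [hpl, hpl, h0, map_one, inv_one, mul_one, mul_inv_eq_one] at h2
  rw [← h1]
  exact h2

end K506.TransAlg
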